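/-
helper62: dual Hall–Higman lemma 1.2.3 for `p`-solvable groups:
`O_p(G) = 1` implies `C_G(O_{p'}(G)) ≤ O_{p'}(G)`.
-/
import Mathlib
import Cfsg.Prelude.Def_Local
import Cfsg.Agent.Lib.Cores
import Cfsg.Agent.Helper11.PSolvable

set_option autoImplicit false

namespace Cfsg.Agent.Helper62

open Cfsg Cfsg.Agent.Lib

variable {G : Type*} [Group G]

/-- `O_p(X / O_p(X)) = 1` -/
theorem pCore_quotient_pCore_eq_bot (p : ℕ) : pCore p (G ⧸ pCore p G) = ⊥ := by
  have h1 : IsPGroup p ((pCore p (G ⧸ pCore p G)).comap (QuotientGroup.mk' (pCore p G))) := by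
    apply IsPGroup.comap_of_ker_isPGroup (isPGroup_pCore p)
    rw [QuotientGroup.ker_mk']
    exact isPGroup_pCore p
  have h2 : (pCore p (G ⧸ pCore p G)).comap (QuotientGroup.mk' (pCore p G)) ≤ pCore p G :=
    le_pCore inferInstance h1
  rw [eq_bot_iff]
  intro y hy
  obtain ⟨x, rfl⟩ := QuotientGroup.mk_surjective y
  rw [Subgroup.mem_bot, QuotientGroup.eq_one_iff]
  exact h2 hy

/-- Key step for the dual Hall–Higman lemma: if `D ⊴ G` has a central `p'`-subgroup `E` of `p`-power
index and `O_p(G) = 1`, then `D` is a `p'`-group. -/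
theorem coprime_card_of_central_of_ppow_relIndex [Finite G] {p : ℕ} [hp : Fact p.Prime]
    (hO : pCore p G = ⊥) (E D : Subgroup G) [hDn : D.Normal] (hED : E ≤ D)
    (hE : (Nat.card E).Coprime p) (hcent : ∀ e ∈ E, ∀ d ∈ D, e * d = d * e)
    (hpow : ∃ m : ℕ, E.relIndex D = p ^ m) : (Nat.card D).Coprime p := by
  classical
  obtain ⟨m, hm⟩ := hpow
  obtain ⟨P⟩ : Nonempty (Sylow p ↥D) := inferInstance
  set E' : Subgroup ↥D := E.subgroupOf D with hE'
  have hE'idx : E'.index = p ^ m := hm
  -- `E' ⊔ P = ⊤`
  have htop : E' ⊔ (P : Subgroup ↥D) = ⊤ := by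
    rw [← Subgroup.index_eq_one]
    have h1 : (E' ⊔ (P : Subgroup ↥D)).index ∣ p ^ m := by
      rw [← hE'idx]; exact Subgroup.index_dvd_of_le le_sup_left
    have h2 : (E' ⊔ (P : Subgroup ↥D)).index ∣ (P : Subgroup ↥D).index :=
      Subgroup.index_dvd_of_le le_sup_right
    have h3 : ((P : Subgroup ↥D).index).Coprime (p ^ m) :=
      Nat.Coprime.pow_right m ((Nat.coprime_comm.mp ((Nat.Prime.coprime_iff_not_dvd hp.out).mpr
        P.not_dvd_index)))
    exact Nat.eq_one_of_dvd_coprimes h3 h2 h1
  -- `P` is normal in `D`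
  have hPn : (P : Subgroup ↥D).Normal := by
    rw [← Subgroup.normalizer_eq_top_iff, eq_top_iff, ← htop]
    refine sup_le ?_ Subgroup.le_normalizer
    intro e he
    rw [Subgroup.mem_normalizer_iff]
    intro x
    have hc : e * x = x * e := by
      apply Subtype.ext
      exact hcent (e : G) (Subgroup.mem_subgroupOf.mp he) (x : G) x.2
    have : e * x * e⁻¹ = x := by rw [hc]; group
    rw [this]
  haveI hPchar : (P : Subgroup ↥D).Characteristic := Sylow.characteristic_of_normal P hPn
  have hPGn : ((P : Subgroup ↥D).map D.subtype).Normal := inferInstance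
  have hPGp : IsPGroup p ((P : Subgroup ↥D).map D.subtype) := P.isPGroup'.map _
  have hle := le_pCore hPGn hPGp
  rw [hO, le_bot_iff, Subgroup.map_eq_bot_iff_of_injective _ D.subtype_injective] at hle
  have hidx := P.not_dvd_index
  rw [hle, Subgroup.index_bot] at hidx
  exact (Nat.coprime_comm.mp ((Nat.Prime.coprime_iff_not_dvd hp.out).mpr hidx))

/-- **Hall–Higman Lemma 1.2.3**, dual `p`-solvable form: in a finite `p`-solvable group with trivial
`p`-core, the `p'`-core contains its own centralizer. -/
theorem centralizer_pPrimeCore_le_of_isPSolvable [Finite G] {p : ℕ} [hp : Fact p.Prime]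
    (hsol : IsPSolvable p G) (hO : pCore p G = ⊥) :
    Subgroup.centralizer (pPrimeCore p G : Set G) ≤ pPrimeCore p G := by
  obtain ⟨n, K, h0, hlast, hmono, hnorm, hstep⟩ := hsol
  set Q := pPrimeCore p G with hQ
  set C := Subgroup.centralizer (Q : Set G) with hC
  haveI hQchar : Q.Characteristic := pPrimeCore_characteristic p
  haveI hQn : Q.Normal := Subgroup.normal_of_characteristic _
  haveI hCn : C.Normal := Subgroup.normal_centralizer
  have hQp : (Nat.card Q).Coprime p := card_pPrimeCore_coprime p
  have key : ∀ i : Fin (n + 1), C ⊓ K i ≤ Q := by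
    intro i
    induction i using Fin.induction with
    | zero => rw [h0]; simp
    | succ i ih =>
      haveI := hnorm i.castSucc
      haveI := hnorm i.succ
      set E := C ⊓ K i.castSucc with hE
      set D := C ⊓ K i.succ with hD
      haveI hEn : E.Normal := Subgroup.normal_inf_normal _ _
      haveI hDn : D.Normal := Subgroup.normal_inf_normal _ _
      have hKle : K i.castSucc ≤ K i.succ := hmono (Fin.castSucc_le_succ i)
      have hED : E ≤ D := inf_le_inf_left C hKle
      have hEp : (Nat.card E).Coprime p :=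
        Nat.Coprime.coprime_dvd_left (Subgroup.card_dvd_of_le ih) hQp
      have hdvd : E.relIndex D ∣ (K i.castSucc).relIndex (K i.succ) := by
        have h1 : E = K i.castSucc ⊓ D := by
          rw [hE, hD, inf_comm C (K i.succ), ← inf_assoc, inf_of_le_left hKle, inf_comm]
        rw [h1, Subgroup.inf_relIndex_right]
        exact Cfsg.Agent.Helper11.relIndex_dvd_relIndex_of_le_right inf_le_right
      have hDp : (Nat.card D).Coprime p := by
        rcases Cfsg.Agent.Helper11.ppow_or_coprime_of_dvd hp.out hdvd (hstep i) with ⟨m, hm⟩ | hco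
        · apply coprime_card_of_central_of_ppow_relIndex hO E D hED hEp _ ⟨m, hm⟩
          intro e he d hd
          have h1 : d ∈ C := hd.1
          have h2 : e ∈ Q := ih he
          exact (Subgroup.mem_centralizer_iff.mp h1 e h2)
        · have := Cfsg.Agent.Helper11.card_mul_relIndex hED
          rw [← this]
          exact Nat.Coprime.mul_left hEp hco
      exact le_pPrimeCore hDn hDp
  have := key (Fin.last n)
  rwa [hlast, inf_top_eq] at this

end Cfsg.Agent.Helper62
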