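/-
helper62: a small framework for "radicals" (largest normal `P`-subgroup) relative to a subgroup,
used to show that subnormal `P`-subgroups lie in the radical of the whole group.
Everything lives in `namespace Cfsg.Agent.Helper62`.
-/
import Mathlib
import Cfsg.Agent.Lib.Cores
import Cfsg.Prelude.Def_OddOrderLocal

set_option autoImplicit false

namespace Cfsg.Agent.Helper62

variable {G : Type*} [Group G]

/-- The conjugate `g N g⁻¹` of a subgroup, in the form used by the statements. -/
abbrev cj (g : G) (N : Subgroup G) : Subgroup G := N.map (MulAut.conj g).toMonoidHom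

theorem mem_cj {g x : G} {N : Subgroup G} : x ∈ cj g N ↔ ∃ n ∈ N, g * n * g⁻¹ = x := by
  simp [Subgroup.mem_map]

theorem cj_mul (g h : G) (N : Subgroup G) : cj g (cj h N) = cj (g * h) N := by
  unfold cj
  rw [Subgroup.map_map]
  congr 1
  ext x
  simp [mul_assoc]

theorem cj_one (N : Subgroup G) : cj 1 N = N := by
  ext x
  simp

theorem cj_mono (g : G) {N M : Subgroup G} (h : N ≤ M) : cj g N ≤ cj g M :=
  Subgroup.map_mono h

theorem cj_eq_self_of_mem_normalizer {N : Subgroup G} {n : G}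
    (hn : n ∈ Subgroup.normalizer (N : Set G)) : cj n N = N := by
  ext y
  rw [mem_cj]
  constructor
  · rintro ⟨k, hk, rfl⟩
    exact (Subgroup.mem_normalizer_iff.mp hn k).mp hk
  · intro hy
    refine ⟨n⁻¹ * y * n, ?_, by group⟩
    rw [Subgroup.mem_normalizer_iff.mp hn (n⁻¹ * y * n)]
    have e : n * (n⁻¹ * y * n) * n⁻¹ = y := by group
    rw [e]; exact hy

theorem mem_normalizer_of_cj_eq_self {N : Subgroup G} {n : G} (hn : cj n N = N) :
    n ∈ Subgroup.normalizer (N : Set G) := by
  rw [Subgroup.mem_normalizer_iff]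
  intro k
  constructor
  · intro hk
    rw [← hn]
    exact mem_cj.mpr ⟨k, hk, rfl⟩
  · intro hk
    rw [← hn] at hk
    obtain ⟨k', hk', e⟩ := mem_cj.mp hk
    have : k' = k := by
      have := congrArg (fun t => n⁻¹ * t * n) e
      simpa [mul_assoc] using this
    rw [← this]; exact hk'

theorem mem_normalizer_iff_cj_eq_self {N : Subgroup G} {n : G} :
    n ∈ Subgroup.normalizer (N : Set G) ↔ cj n N = N :=
  ⟨cj_eq_self_of_mem_normalizer, mem_normalizer_of_cj_eq_self⟩

theorem cj_sup (g : G) (N M : Subgroup G) : cj g (N ⊔ M) = cj g N ⊔ cj g M :=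
  Subgroup.map_sup _ _ _

theorem le_normalizer_sup {K N M : Subgroup G} (hN : K ≤ Subgroup.normalizer (N : Set G))
    (hM : K ≤ Subgroup.normalizer (M : Set G)) : K ≤ Subgroup.normalizer ((N ⊔ M : Subgroup G) : Set G) := by
  intro k hk
  rw [mem_normalizer_iff_cj_eq_self, cj_sup, cj_eq_self_of_mem_normalizer (hN hk),
    cj_eq_self_of_mem_normalizer (hM hk)]

theorem normalizer_cj (g : G) (N : Subgroup G) :
    cj g (Subgroup.normalizer (N : Set G)) ≤ Subgroup.normalizer ((cj g N : Subgroup G) : Set G) :=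
  Subgroup.le_normalizer_map _

/-- The hypotheses on a property of subgroups needed for the radical machinery. -/
structure RadProp (P : Subgroup G → Prop) : Prop where
  bot : P ⊥
  conj : ∀ (g : G) (N : Subgroup G), P N → P (cj g N)
  sup : ∀ N₁ N₂ : Subgroup G, N₁ ≤ Subgroup.normalizer (N₂ : Set G) →
    N₂ ≤ Subgroup.normalizer (N₁ : Set G) → P N₁ → P N₂ → P (N₁ ⊔ N₂)

/-- The candidates for the `P`-radical of `K`: the `P`-subgroups of `K` normalised by `K`. -/
def radSet (P : Subgroup G → Prop) (K : Subgroup G) : Set (Subgroup G) :=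
  {N | N ≤ K ∧ K ≤ Subgroup.normalizer (N : Set G) ∧ P N}

/-- The `P`-radical of `K`, as a subgroup of `G`. -/
def rad (P : Subgroup G → Prop) (K : Subgroup G) : Subgroup G := sSup (radSet P K)

theorem sSup_mem_radSet [Finite G] {P : Subgroup G → Prop} (hP : RadProp P) (K : Subgroup G)
    (s : Set (Subgroup G)) (hs : s ⊆ radSet P K) : sSup s ∈ radSet P K := by
  classical
  have hfin : s.Finite := Set.toFinite _
  induction s, hfin using Set.Finite.induction_on with
  | empty =>
    simp only [sSup_empty]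
    refine ⟨bot_le, ?_, hP.bot⟩
    intro k _
    rw [mem_normalizer_iff_cj_eq_self]
    exact Subgroup.map_bot _
  | insert _ _ ih =>
    rw [sSup_insert]
    obtain ⟨h1, h2, h3⟩ := ih fun N hN => hs (Set.mem_insert_of_mem _ hN)
    obtain ⟨h4, h5, h6⟩ := hs (Set.mem_insert _ _)
    exact ⟨sup_le h4 h1, le_normalizer_sup h5 h2, hP.sup _ _ (h4.trans h2) (h1.trans h5) h6 h3⟩

theorem rad_mem_radSet [Finite G] {P : Subgroup G → Prop} (hP : RadProp P) (K : Subgroup G) :
    rad P K ∈ radSet P K :=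
  sSup_mem_radSet hP K _ subset_rfl

theorem rad_le [Finite G] {P : Subgroup G → Prop} (hP : RadProp P) (K : Subgroup G) :
    rad P K ≤ K := (rad_mem_radSet hP K).1

theorem prop_rad [Finite G] {P : Subgroup G → Prop} (hP : RadProp P) (K : Subgroup G) :
    P (rad P K) := (rad_mem_radSet hP K).2.2

theorem cj_rad_le {P : Subgroup G → Prop} (hP : RadProp P) (K : Subgroup G) {g : G}
    (hg : g ∈ Subgroup.normalizer (K : Set G)) : cj g (rad P K) ≤ rad P K := by
  unfold rad cj
  rw [Subgroup.map_le_iff_le_comap]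
  refine sSup_le fun N hN => ?_
  rw [← Subgroup.map_le_iff_le_comap]
  refine le_sSup ⟨?_, ?_, hP.conj g N hN.2.2⟩
  · have := cj_mono g hN.1
    rwa [cj_eq_self_of_mem_normalizer hg] at this
  · have h1 := cj_mono g hN.2.1
    rw [cj_eq_self_of_mem_normalizer hg] at h1
    exact h1.trans (normalizer_cj g N)

theorem normalizer_le_normalizer_rad {P : Subgroup G → Prop} (hP : RadProp P) (K : Subgroup G) :
    Subgroup.normalizer (K : Set G) ≤ Subgroup.normalizer ((rad P K : Subgroup G) : Set G) := by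
  intro g hg
  rw [mem_normalizer_iff_cj_eq_self]
  apply le_antisymm (cj_rad_le hP K hg)
  have h := cj_mono g (cj_rad_le hP K (Subgroup.inv_mem _ hg))
  rwa [cj_mul, mul_inv_cancel, cj_one] at h

theorem rad_le_rad_of_normal [Finite G] {P : Subgroup G → Prop} (hP : RadProp P) {H K : Subgroup G}
    (hHK : H ≤ K) (hn : K ≤ Subgroup.normalizer (H : Set G)) : rad P H ≤ rad P K :=
  le_sSup ⟨(rad_le hP H).trans hHK, hn.trans (normalizer_le_normalizer_rad hP H), prop_rad hP H⟩

theorem rad_le_rad_top_of_isSubnormal [Finite G] {P : Subgroup G → Prop} (hP : RadProp P)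
    {A : Subgroup G} (hA : A.IsSubnormal) : rad P A ≤ rad P ⊤ := by
  induction hA with
  | top => exact le_rfl
  | step H K h_le _ hN ih =>
    rw [Subgroup.normal_subgroupOf_iff_le_normalizer h_le] at hN
    exact (rad_le_rad_of_normal hP h_le hN).trans ih

theorem le_rad_self {P : Subgroup G → Prop} {A : Subgroup G} (hA : P A) : A ≤ rad P A :=
  le_sSup ⟨le_rfl, Subgroup.le_normalizer, hA⟩

theorem rad_top (P : Subgroup G → Prop) : rad P ⊤ = sSup {N : Subgroup G | N.Normal ∧ P N} := by
  unfold rad radSet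
  congr 1
  ext N
  simp only [Set.mem_ofPred_eq, le_top, true_and, top_le_iff, Subgroup.normalizer_eq_top_iff]

/-- A subnormal `P`-subgroup of a finite group lies in the join of all normal `P`-subgroups. -/
theorem le_sSup_normal_of_isSubnormal [Finite G] {P : Subgroup G → Prop} (hP : RadProp P)
    {A : Subgroup G} (hA : A.IsSubnormal) (hPA : P A) :
    A ≤ sSup {N : Subgroup G | N.Normal ∧ P N} := by
  rw [← rad_top]
  exact (le_rad_self hPA).trans (rad_le_rad_top_of_isSubnormal hP hA)

/-! ### The two instances: nilpotent subgroups and `π`-subgroups -/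

theorem isNilpotent_sup_of_normalize [Finite G] {N₁ N₂ : Subgroup G}
    (h12 : N₁ ≤ Subgroup.normalizer (N₂ : Set G)) (h21 : N₂ ≤ Subgroup.normalizer (N₁ : Set G))
    (h1 : Group.IsNilpotent N₁) (h2 : Group.IsNilpotent N₂) :
    Group.IsNilpotent (N₁ ⊔ N₂ : Subgroup G) := by
  have hn1 : (N₁.subgroupOf (N₁ ⊔ N₂)).Normal :=
    (Subgroup.normal_subgroupOf_iff_le_normalizer le_sup_left).mpr
      (sup_le Subgroup.le_normalizer h21)
  have hn2 : (N₂.subgroupOf (N₁ ⊔ N₂)).Normal :=
    (Subgroup.normal_subgroupOf_iff_le_normalizer le_sup_right).mpr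
      (sup_le h12 Subgroup.le_normalizer)
  have hnil1 : Group.IsNilpotent (N₁.subgroupOf (N₁ ⊔ N₂)) :=
    (Group.isNilpotent_congr (Subgroup.subgroupOfEquivOfLe (le_sup_left : N₁ ≤ N₁ ⊔ N₂))).mpr h1
  have hnil2 : Group.IsNilpotent (N₂.subgroupOf (N₁ ⊔ N₂)) :=
    (Group.isNilpotent_congr (Subgroup.subgroupOfEquivOfLe (le_sup_right : N₂ ≤ N₁ ⊔ N₂))).mpr h2
  have hle1 := Cfsg.Agent.Lib.le_fittingSubgroup hn1 hnil1
  have hle2 := Cfsg.Agent.Lib.le_fittingSubgroup hn2 hnil2
  have htop : Cfsg.fittingSubgroup (N₁ ⊔ N₂ : Subgroup G) = ⊤ := by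
    rw [eq_top_iff, ← Subgroup.subgroupOf_self (N₁ ⊔ N₂),
      Subgroup.subgroupOf_sup le_sup_left le_sup_right]
    exact sup_le hle1 hle2
  have hF := Cfsg.Agent.Lib.isNilpotent_fittingSubgroup (G := (N₁ ⊔ N₂ : Subgroup G))
  rw [htop] at hF
  exact (Group.isNilpotent_congr (Subgroup.topEquiv (G := (N₁ ⊔ N₂ : Subgroup G)))).mp hF

theorem radProp_nilpotent [Finite G] :
    RadProp (fun N : Subgroup G => Group.IsNilpotent N) where
  bot := inferInstance
  conj g N hN :=
    (Group.isNilpotent_congr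
      (N.equivMapOfInjective (MulAut.conj g).toMonoidHom (MulAut.conj g).injective)).mp hN
  sup _ _ h12 h21 h1 h2 := isNilpotent_sup_of_normalize h12 h21 h1 h2

/-- the property of being a `π`-group -/
def IsPiGroup (π : Set ℕ) (N : Subgroup G) : Prop :=
  ∀ p : ℕ, p.Prime → p ∣ Nat.card N → p ∈ π

theorem card_sup_dvd_of_le_normalizer [Finite G] {N₁ N₂ : Subgroup G}
    (h12 : N₁ ≤ Subgroup.normalizer (N₂ : Set G)) :
    Nat.card (N₁ ⊔ N₂ : Subgroup G) ∣ Nat.card N₁ * Nat.card N₂ := by
  have hn1 := Subgroup.normal_subgroupOf_of_le_normalizer h12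
  have hn2 := Subgroup.normal_subgroupOf_sup_of_le_normalizer h12
  have e := QuotientGroup.quotientInfEquivProdNormalizerQuotient N₁ N₂ h12
  have h1 : (N₂.subgroupOf N₁).index = (N₂.subgroupOf (N₁ ⊔ N₂)).index := by
    rw [Subgroup.index_eq_card, Subgroup.index_eq_card]
    exact Nat.card_congr e.toEquiv
  have h2 : Nat.card (N₁ ⊔ N₂ : Subgroup G) =
      Nat.card (N₂.subgroupOf (N₁ ⊔ N₂)) * (N₂.subgroupOf (N₁ ⊔ N₂)).index :=
    (Subgroup.card_mul_index _).symm
  have h3 : Nat.card (N₂.subgroupOf (N₁ ⊔ N₂)) = Nat.card N₂ :=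
    Nat.card_congr (Subgroup.subgroupOfEquivOfLe (le_sup_right : N₂ ≤ N₁ ⊔ N₂)).toEquiv
  rw [h2, h3, ← h1, mul_comm]
  exact Nat.mul_dvd_mul_right (Subgroup.relIndex_dvd_card N₂ N₁) _

theorem radProp_piGroup [Finite G] (π : Set ℕ) : RadProp (IsPiGroup (G := G) π) where
  bot := by
    intro p hp hdvd
    rw [Subgroup.card_bot] at hdvd
    exact absurd (Nat.dvd_one.mp hdvd) hp.one_lt.ne'
  conj g N hN := by
    intro p hp hdvd
    apply hN p hp
    have : Nat.card (cj g N) = Nat.card N :=
      Nat.card_congr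
        (N.equivMapOfInjective (MulAut.conj g).toMonoidHom (MulAut.conj g).injective).symm.toEquiv
    rwa [this] at hdvd
  sup N₁ N₂ h12 _ h1 h2 := by
    intro p hp hdvd
    have := hdvd.trans (card_sup_dvd_of_le_normalizer h12)
    rcases (Nat.Prime.dvd_mul hp).mp this with h | h
    · exact h1 p hp h
    · exact h2 p hp h

/-- A subnormal nilpotent subgroup of a finite group lies in the Fitting subgroup. -/
theorem le_fittingSubgroup_of_isSubnormal [Finite G] {A : Subgroup G} (hA : A.IsSubnormal)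
    (hnil : Group.IsNilpotent A) : A ≤ Cfsg.fittingSubgroup G :=
  le_sSup_normal_of_isSubnormal radProp_nilpotent hA hnil

/-- A subnormal `π`-subgroup of a finite group lies in `O_π(G)`. -/
theorem le_piCore_of_isSubnormal [Finite G] (π : Set ℕ) {A : Subgroup G} (hA : A.IsSubnormal)
    (hπ : ∀ p : ℕ, p.Prime → p ∣ Nat.card A → p ∈ π) : A ≤ Cfsg.piCore π G :=
  le_sSup_normal_of_isSubnormal (radProp_piGroup π) hA hπ

end Cfsg.Agent.Helper62
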