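/-
helper62: small general lemmas about subgroups (commuting joins, centralizers).
Everything lives in `namespace Cfsg.Agent.Helper62`.
-/
import Mathlib
import Cfsg.Agent.Helper62.Radical

set_option autoImplicit false

namespace Cfsg.Agent.Helper62

variable {G : Type*} [Group G]

/-- elementwise commuting subgroups: one lies in the centralizer of the other -/
theorem le_centralizer_of_commute {W T : Subgroup G} (hc : ∀ w ∈ W, ∀ t ∈ T, w * t = t * w) :
    W ≤ Subgroup.centralizer (T : Set G) := by
  intro w hw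
  rw [Subgroup.mem_centralizer_iff]
  intro t ht
  exact (hc w hw t ht).symm

theorem commute_of_le_centralizer {W T : Subgroup G} (h : W ≤ Subgroup.centralizer (T : Set G)) :
    ∀ w ∈ W, ∀ t ∈ T, w * t = t * w := by
  intro w hw t ht
  exact ((Subgroup.mem_centralizer_iff.mp (h hw)) t ht).symm

theorem commute_of_commutator_eq_bot {W T : Subgroup G} (h : ⁅W, T⁆ = ⊥) :
    ∀ w ∈ W, ∀ t ∈ T, w * t = t * w :=
  commute_of_le_centralizer (Subgroup.commutator_eq_bot_iff_le_centralizer.mp h)

/-- elements of the join of two elementwise commuting subgroups are products -/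
theorem mem_sup_of_commute {W T : Subgroup G} (hc : ∀ w ∈ W, ∀ t ∈ T, w * t = t * w) {x : G}
    (hx : x ∈ W ⊔ T) : ∃ w ∈ W, ∃ t ∈ T, x = w * t := by
  have hle : W ≤ Subgroup.normalizer (T : Set G) :=
    (le_centralizer_of_commute hc).trans (Subgroup.centralizer_le_normalizer _)
  have := Subgroup.coe_mul_of_left_le_normalizer_right W T hle
  have hx' : x ∈ ((W ⊔ T : Subgroup G) : Set G) := hx
  rw [this] at hx'
  obtain ⟨w, hw, t, ht, rfl⟩ := Set.mem_mul.mp hx'
  exact ⟨w, hw, t, ht, rfl⟩

/-- `M ≤ N_G(N)` for `N` normal -/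
theorem le_normalizer_of_normal' (M N : Subgroup G) [hN : N.Normal] :
    M ≤ Subgroup.normalizer (N : Set G) := by
  rw [Subgroup.normalizer_eq_top_iff.mpr hN]
  exact le_top

/-- if `M` normalises `A` and `B` then it normalises `A ⊓ B` -/
theorem le_normalizer_inf {K A B : Subgroup G} (hA : K ≤ Subgroup.normalizer (A : Set G))
    (hB : K ≤ Subgroup.normalizer (B : Set G)) :
    K ≤ Subgroup.normalizer ((A ⊓ B : Subgroup G) : Set G) := by
  intro x hx
  rw [Subgroup.mem_normalizer_iff]
  intro y
  rw [Subgroup.mem_inf, Subgroup.mem_inf, ← Subgroup.mem_normalizer_iff.mp (hA hx) y,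
    ← Subgroup.mem_normalizer_iff.mp (hB hx) y]

end Cfsg.Agent.Helper62
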