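/-
helper62: Hall `π`-subgroups of a solvable subgroup `G ≤ X` (in the `Cfsg.IsPiHallOf` form) and
coprime action: existence, conjugacy and domination of `A`-invariant Hall `π`-subgroups.
-/
import Mathlib
import Cfsg.Prelude.Def_OddOrderLocal
import Cfsg.Agent.Lib.Hall
import Cfsg.Agent.Helper60.Hall
import Cfsg.Agent.Helper1.CoprimeSylow
import Cfsg.Agent.Helper11.PSolvable
import Cfsg.Agent.Helper62.Radical
import Cfsg.Agent.Helper62.Basic

set_option autoImplicit false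

namespace Cfsg.Agent.Helper62

open Pointwise

universe u

variable {X : Type u} [Group X]

/-- A `π`-number and a `π'`-number are coprime. -/
theorem coprime_of_pi_of_pi' {π : Set ℕ} {m n : ℕ} (hm : ∀ p : ℕ, p.Prime → p ∣ m → p ∈ π)
    (hn : ∀ p : ℕ, p.Prime → p ∈ π → ¬ p ∣ n) : m.Coprime n :=
  Nat.coprime_of_dvd fun k hk hkm hkn => hn k hk (hm k hk hkm) hkn

theorem isPiHallOf_card_mul_relIndex {π : Set ℕ} {H G : Subgroup X}
    (h : Cfsg.IsPiHallOf π H G) : Nat.card H * H.relIndex G = Nat.card G :=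
  Cfsg.Agent.Helper11.card_mul_relIndex h.1

theorem isPiHallOf_coprime {π : Set ℕ} {H G : Subgroup X}
    (h : Cfsg.IsPiHallOf π H G) : (Nat.card H).Coprime (H.relIndex G) :=
  coprime_of_pi_of_pi' h.2.1 h.2.2

/-- Two Hall `π`-subgroups of `G` have the same order. -/
theorem card_eq_of_isPiHallOf [Finite X] {π : Set ℕ} {H₁ H₂ G : Subgroup X}
    (h₁ : Cfsg.IsPiHallOf π H₁ G) (h₂ : Cfsg.IsPiHallOf π H₂ G) : Nat.card H₁ = Nat.card H₂ := by
  have e₁ := isPiHallOf_card_mul_relIndex h₁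
  have e₂ := isPiHallOf_card_mul_relIndex h₂
  have c12 : (Nat.card H₁).Coprime (H₂.relIndex G) := coprime_of_pi_of_pi' h₁.2.1 h₂.2.2
  have c21 : (Nat.card H₂).Coprime (H₁.relIndex G) := coprime_of_pi_of_pi' h₂.2.1 h₁.2.2
  apply Nat.dvd_antisymm
  · exact c12.dvd_of_dvd_mul_right ⟨H₁.relIndex G, by rw [e₂, e₁]⟩
  · exact c21.dvd_of_dvd_mul_right ⟨H₂.relIndex G, by rw [e₁, e₂]⟩

/-- A subgroup of `G` of the order of a Hall `π`-subgroup is a Hall `π`-subgroup. -/
theorem isPiHallOf_of_card_eq [Finite X] {π : Set ℕ} {H₁ H₂ G : Subgroup X}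
    (h₁ : Cfsg.IsPiHallOf π H₁ G) (hle : H₂ ≤ G) (hc : Nat.card H₂ = Nat.card H₁) :
    Cfsg.IsPiHallOf π H₂ G := by
  have e₁ := isPiHallOf_card_mul_relIndex h₁
  have e₂ := Cfsg.Agent.Helper11.card_mul_relIndex hle
  have hr : H₂.relIndex G = H₁.relIndex G := by
    rw [hc, ← e₁] at e₂
    exact Nat.eq_of_mul_eq_mul_left Nat.card_pos e₂
  refine ⟨hle, ?_, ?_⟩
  · rw [hc]; exact h₁.2.1
  · rw [hr]; exact h₁.2.2

/-- Hall `π`-subgroups from orders: `H ≤ G`, `|H|` a `π`-number, `|G| = |H| * r` with `r` a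
`π'`-number. -/
theorem isPiHallOf_of_card_mul [Finite X] {π : Set ℕ} {H G : Subgroup X} (hle : H ≤ G) (r : ℕ)
    (hH : ∀ p : ℕ, p.Prime → p ∣ Nat.card H → p ∈ π) (hr : ∀ p : ℕ, p.Prime → p ∈ π → ¬ p ∣ r)
    (hG : Nat.card G = Nat.card H * r) : Cfsg.IsPiHallOf π H G := by
  have e₂ := Cfsg.Agent.Helper11.card_mul_relIndex hle
  have : H.relIndex G = r := by
    rw [hG] at e₂
    exact Nat.eq_of_mul_eq_mul_left Nat.card_pos e₂
  exact ⟨hle, hH, this ▸ hr⟩

theorem conj_smul_le_of_mem_normalizer {H G : Subgroup X} (hle : H ≤ G) {g : X}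
    (hg : g ∈ Subgroup.normalizer (G : Set X)) : MulAut.conj g • H ≤ G := by
  have h1 : MulAut.conj g • H ≤ MulAut.conj g • G :=
    Subgroup.pointwise_smul_le_pointwise_smul_iff.mpr hle
  rwa [Cfsg.Agent.Helper1.conj_smul_eq_of_mem_normalizer hg] at h1

/-- Conjugates of Hall `π`-subgroups of `G` by elements normalizing `G` are Hall `π`-subgroups. -/
theorem isPiHallOf_conj [Finite X] {π : Set ℕ} {H G : Subgroup X} (h : Cfsg.IsPiHallOf π H G)
    {g : X} (hg : g ∈ Subgroup.normalizer (G : Set X)) :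
    Cfsg.IsPiHallOf π (MulAut.conj g • H) G :=
  isPiHallOf_of_card_eq h (conj_smul_le_of_mem_normalizer h.1 hg)
    (Cfsg.Agent.Helper1.card_conj_smul H g)

/-- Existence of Hall `π`-subgroups of a solvable subgroup. -/
theorem exists_isPiHallOf [Finite X] (π : Set ℕ) (G : Subgroup X) [Group.IsSolvable G] :
    ∃ H : Subgroup X, Cfsg.IsPiHallOf π H G := by
  obtain ⟨S, hS1, hS2⟩ := Cfsg.Agent.Helper60.exists_hall (fun l => l ∈ π) G
  refine ⟨S.map G.subtype, Subgroup.map_subtype_le _, ?_, ?_⟩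
  · have hc : Nat.card (S.map G.subtype) = Nat.card S :=
      (Nat.card_congr (S.equivMapOfInjective _ G.subtype_injective).toEquiv).symm
    rw [hc]; exact hS1
  · intro p hp hpπ hdvd
    have : (S.map G.subtype).relIndex G = S.index := by
      unfold Subgroup.relIndex Subgroup.subgroupOf
      rw [Subgroup.comap_map_eq_self_of_injective G.subtype_injective]
    rw [this] at hdvd
    exact hS2 p hp hdvd hpπ

/-- Conjugacy of Hall `π`-subgroups of a solvable subgroup. -/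
theorem isPiHallOf_conj_of_solvable [Finite X] {π : Set ℕ} {H₁ H₂ G : Subgroup X}
    [Group.IsSolvable G] (h₁ : Cfsg.IsPiHallOf π H₁ G) (h₂ : Cfsg.IsPiHallOf π H₂ G) :
    ∃ g ∈ G, MulAut.conj g • H₁ = H₂ := by
  have hc := card_eq_of_isPiHallOf h₁ h₂
  have hG : Nat.card G = Nat.card H₁ * H₁.relIndex G := (isPiHallOf_card_mul_relIndex h₁).symm
  have hcop := isPiHallOf_coprime h₁
  have c1 : Nat.card (H₁.subgroupOf G) = Nat.card H₁ :=
    Cfsg.Agent.Helper1.card_subgroupOf_of_le h₁.1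
  have c2 : Nat.card (H₂.subgroupOf G) = Nat.card H₁ := by
    rw [Cfsg.Agent.Helper1.card_subgroupOf_of_le h₂.1, hc]
  obtain ⟨g, hg⟩ := Cfsg.Agent.Lib.hall_conj (G := G) _ _ hG hcop _ _ c1 c2
  exact ⟨g, g.2, Cfsg.Agent.Helper1.conj_of_subgroupOf h₁.1 h₂.1 g hg⟩

section coprime

variable [Finite X] (A G : Subgroup X) (hAG : A ≤ Subgroup.normalizer (G : Set X))
  (hcop : (Nat.card A).Coprime (Nat.card G)) [hsolv : Group.IsSolvable G] (π : Set ℕ)

include hAG hcop in
/-- Coprime action on a solvable group: `A`-invariant Hall `π`-subgroups exist, and any two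
are conjugate under `C_G(A)`. -/
theorem invariant_hall_main :
    (∃ H : Subgroup X, Cfsg.IsPiHallOf π H G ∧ A ≤ Subgroup.normalizer (H : Set X)) ∧
    (∀ H₁ H₂ : Subgroup X, Cfsg.IsPiHallOf π H₁ G → A ≤ Subgroup.normalizer (H₁ : Set X) →
      Cfsg.IsPiHallOf π H₂ G → A ≤ Subgroup.normalizer (H₂ : Set X) →
      ∃ c ∈ G ⊓ Subgroup.centralizer (A : Set X), MulAut.conj c • H₁ = H₂) := by
  letI := Cfsg.Agent.Helper1.conjActSubgroup X
  have hsmul : ∀ (g : X) (S : Subgroup X), g • S = MulAut.conj g • S := fun _ _ => rfl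
  obtain ⟨⟨H, hHT, hfix⟩, h2⟩ := Cfsg.Agent.Helper1.glauberman_ambient (Ω := Subgroup X) A G hAG
    hcop (Or.inr hsolv) {H | Cfsg.IsPiHallOf π H G} (exists_isPiHallOf π G)
    (fun k hk S hS => by
      rw [hsmul]; exact isPiHallOf_conj hS (Subgroup.le_normalizer hk))
    (fun a ha S hS => by
      rw [hsmul]; exact isPiHallOf_conj hS (hAG ha))
    (fun S hS S' hS' => by
      obtain ⟨g, hg, hgS⟩ := isPiHallOf_conj_of_solvable hS hS'
      exact ⟨g, hg, by rw [hsmul]; exact hgS⟩)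
  refine ⟨⟨H, hHT, fun a ha => Cfsg.Agent.Helper1.mem_normalizer_of_conj_smul_eq ?_⟩, ?_⟩
  · rw [← hsmul]; exact hfix a ha
  · intro H₁ H₂ h₁ hA₁ h₂ hA₂
    obtain ⟨c, hc, hcH⟩ := h2 H₁ h₁ H₂ h₂
      (fun a ha => by
        rw [hsmul]; exact Cfsg.Agent.Helper1.conj_smul_eq_of_mem_normalizer (hA₁ ha))
      (fun a ha => by
        rw [hsmul]; exact Cfsg.Agent.Helper1.conj_smul_eq_of_mem_normalizer (hA₂ ha))
    exact ⟨c, hc, hcH⟩

end coprime

/-- A Hall `π`-subgroup of `L ≤ G` is a Hall `π`-subgroup of `G` when `|G : L|` is a `π'`-number. -/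
theorem isPiHallOf_of_le [Finite X] {π : Set ℕ} {H L G : Subgroup X} (h : Cfsg.IsPiHallOf π H L)
    (hLG : L ≤ G) (r : ℕ) (hr : ∀ p : ℕ, p.Prime → p ∈ π → ¬ p ∣ r)
    (hG : Nat.card G = Nat.card L * r) : Cfsg.IsPiHallOf π H G := by
  refine isPiHallOf_of_card_mul (h.1.trans hLG) (H.relIndex L * r) h.2.1 ?_ ?_
  · intro p hp hpπ hdvd
    rcases (Nat.Prime.dvd_mul hp).mp hdvd with h1 | h1
    · exact h.2.2 p hp hpπ h1
    · exact hr p hp hpπ h1
  · rw [hG, ← isPiHallOf_card_mul_relIndex h, mul_assoc]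

/-- `A` normalizes `c H c⁻¹` when it normalizes `H` and `c` centralizes `A`. -/
theorem le_normalizer_conj_smul_of_mem_centralizer {A H : Subgroup X} {c : X}
    (hA : A ≤ Subgroup.normalizer (H : Set X)) (hc : c ∈ Subgroup.centralizer (A : Set X)) :
    A ≤ Subgroup.normalizer ((MulAut.conj c • H : Subgroup X) : Set X) := by
  intro a ha
  apply Cfsg.Agent.Helper1.mem_normalizer_of_conj_smul_eq
  have hac : a * c = c * a := (Subgroup.mem_centralizer_iff.mp hc a ha)
  rw [← mul_smul, ← map_mul, hac, map_mul, mul_smul,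
    Cfsg.Agent.Helper1.conj_smul_eq_of_mem_normalizer (hA ha)]

/-- Key step: `N ⊴ Γ` a `π'`-group inside the solvable `L`, with `|L| = |N| * m`, `m` a
`π`-number; an `A`-invariant `π`-subgroup `U ≤ L` lies in an `A`-invariant Hall `π`-subgroup
of `L`. -/
theorem invariant_hall_le_key [Finite X] {π : Set ℕ} (A L N U : Subgroup X) [N.Normal]
    (hAL : A ≤ Subgroup.normalizer (L : Set X)) (hcop : (Nat.card A).Coprime (Nat.card L))
    [hsolv : Group.IsSolvable L] (hNL : N ≤ L) (hUL : U ≤ L)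
    (hAU : A ≤ Subgroup.normalizer (U : Set X))
    (hUπ : ∀ p : ℕ, p.Prime → p ∣ Nat.card U → p ∈ π)
    (hNπ : ∀ p : ℕ, p.Prime → p ∈ π → ¬ p ∣ Nat.card N)
    (m : ℕ) (hm : ∀ p : ℕ, p.Prime → p ∣ m → p ∈ π) (hL : Nat.card L = Nat.card N * m) :
    ∃ H : Subgroup X, Cfsg.IsPiHallOf π H L ∧ A ≤ Subgroup.normalizer (H : Set X) ∧ U ≤ H := by
  obtain ⟨⟨H₀, hH₀, hAH₀⟩, -⟩ := invariant_hall_main A L hAL hcop π
  -- `|H₀| = m`
  have e₀ := isPiHallOf_card_mul_relIndex hH₀
  have hH₀m : Nat.card H₀ = m := by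
    apply Nat.dvd_antisymm
    · have c1 : (Nat.card H₀).Coprime (Nat.card N) := coprime_of_pi_of_pi' hH₀.2.1 hNπ
      exact c1.dvd_of_dvd_mul_left ⟨H₀.relIndex L, by rw [← hL, e₀]⟩
    · have c2 : m.Coprime (H₀.relIndex L) := coprime_of_pi_of_pi' hm hH₀.2.2
      exact c2.dvd_of_dvd_mul_right ⟨Nat.card N, by rw [e₀, hL, mul_comm]⟩
  have hNH₀cop : (Nat.card N).Coprime (Nat.card H₀) :=
    (coprime_of_pi_of_pi' hH₀.2.1 hNπ).symm
  -- `L = N ⊔ H₀`
  have hsupL : N ⊔ H₀ = L := by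
    have hle : N ⊔ H₀ ≤ L := sup_le hNL hH₀.1
    have h1 : Nat.card N ∣ Nat.card (N ⊔ H₀ : Subgroup X) := Subgroup.card_dvd_of_le le_sup_left
    have h2 : Nat.card H₀ ∣ Nat.card (N ⊔ H₀ : Subgroup X) := Subgroup.card_dvd_of_le le_sup_right
    have h3 : Nat.card N * Nat.card H₀ ∣ Nat.card (N ⊔ H₀ : Subgroup X) :=
      hNH₀cop.mul_dvd_of_dvd_of_dvd h1 h2
    rw [hH₀m, ← hL] at h3
    exact Subgroup.eq_of_le_of_card_ge hle (Nat.le_of_dvd Nat.card_pos h3)
  set V : Subgroup X := U ⊔ N with hV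
  have hNV : N ≤ V := le_sup_right
  have hUV : U ≤ V := le_sup_left
  have hVL : V ≤ L := sup_le hUL hNL
  have hAN : A ≤ Subgroup.normalizer (N : Set X) := le_normalizer_of_normal' A N
  have hAV : A ≤ Subgroup.normalizer (V : Set X) := le_normalizer_sup hAU hAN
  have hcopV : (Nat.card A).Coprime (Nat.card V) :=
    Nat.Coprime.coprime_dvd_right (Subgroup.card_dvd_of_le hVL) hcop
  haveI : Group.IsSolvable V :=
    Group.isSolvable_of_isSolvable_injective (Subgroup.inclusion_injective hVL)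
  -- `U` is a Hall `π`-subgroup of `V`
  have hUhall : Cfsg.IsPiHallOf π U V := by
    have e := Cfsg.Agent.Helper11.card_mul_relIndex hUV
    have hd : Nat.card V ∣ Nat.card U * Nat.card N :=
      card_sup_dvd_of_le_normalizer (le_normalizer_of_normal' U N)
    have hr : U.relIndex V ∣ Nat.card N := by
      rw [← e] at hd
      exact Nat.dvd_of_mul_dvd_mul_left Nat.card_pos hd
    exact ⟨hUV, hUπ, fun p hp hpπ hdvd => hNπ p hp hpπ (hdvd.trans hr)⟩
  -- `V ⊓ H₀` is a Hall `π`-subgroup of `V`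
  have hWhall : Cfsg.IsPiHallOf π (V ⊓ H₀) V := by
    have hsupV : V = (V ⊓ H₀) ⊔ N := by
      apply le_antisymm
      · intro x hx
        have hxL : x ∈ N ⊔ H₀ := by rw [hsupL]; exact hVL hx
        rw [← SetLike.mem_coe, Subgroup.normal_mul] at hxL
        obtain ⟨n, hn, h, hh, rfl⟩ := hxL
        have hhV : h ∈ V := by
          have : h = n⁻¹ * (n * h) := by group
          rw [this]; exact V.mul_mem (V.inv_mem (hNV hn)) hx
        have h1 : n ∈ (V ⊓ H₀) ⊔ N := Subgroup.mem_sup_right hn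
        have h2 : h ∈ (V ⊓ H₀) ⊔ N := Subgroup.mem_sup_left (Subgroup.mem_inf.mpr ⟨hhV, hh⟩)
        exact Subgroup.mul_mem _ h1 h2
      · exact sup_le inf_le_left hNV
    have e := Cfsg.Agent.Helper11.card_mul_relIndex (inf_le_left : V ⊓ H₀ ≤ V)
    have hd : Nat.card V ∣ Nat.card (V ⊓ H₀ : Subgroup X) * Nat.card N := by
      have := card_sup_dvd_of_le_normalizer (le_normalizer_of_normal' (V ⊓ H₀) N)
      rwa [← hsupV] at this
    have hr : (V ⊓ H₀).relIndex V ∣ Nat.card N := by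
      rw [← e] at hd
      exact Nat.dvd_of_mul_dvd_mul_left Nat.card_pos hd
    refine ⟨inf_le_left, fun p hp hdvd => ?_, fun p hp hpπ hdvd => hNπ p hp hpπ (hdvd.trans hr)⟩
    exact hH₀.2.1 p hp (hdvd.trans (Subgroup.card_dvd_of_le inf_le_right))
  have hAW : A ≤ Subgroup.normalizer ((V ⊓ H₀ : Subgroup X) : Set X) := le_normalizer_inf hAV hAH₀
  obtain ⟨-, hconj⟩ := invariant_hall_main A V hAV hcopV π
  obtain ⟨c, hc, hcU⟩ := hconj (V ⊓ H₀) U hWhall hAW hUhall hAU
  have hcV : c ∈ V := (Subgroup.mem_inf.mp hc).1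
  have hcA : c ∈ Subgroup.centralizer (A : Set X) := (Subgroup.mem_inf.mp hc).2
  refine ⟨MulAut.conj c • H₀, isPiHallOf_conj hH₀ (Subgroup.le_normalizer (hVL hcV)),
    le_normalizer_conj_smul_of_mem_centralizer hAH₀ hcA, ?_⟩
  rw [← hcU]
  exact Subgroup.pointwise_smul_le_pointwise_smul_iff.mpr inf_le_right

/-- Coprime action on a solvable group `G ⊴ Γ`: every `A`-invariant `π`-subgroup lies in an
`A`-invariant Hall `π`-subgroup. Induction on `|G|`. -/
theorem invariant_hall_le_aux (π : Set ℕ) : ∀ (k : ℕ) (Γ : Type u) [Group Γ] [Finite Γ]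
    (A G U : Subgroup Γ) [G.Normal], Nat.card G = k → Group.IsSolvable G →
    (Nat.card A).Coprime (Nat.card G) → U ≤ G → A ≤ Subgroup.normalizer (U : Set Γ) →
    (∀ p : ℕ, p.Prime → p ∣ Nat.card U → p ∈ π) →
    ∃ H : Subgroup Γ, Cfsg.IsPiHallOf π H G ∧ A ≤ Subgroup.normalizer (H : Set Γ) ∧ U ≤ H := by
  intro k
  induction k using Nat.strong_induction_on with
  | _ k ih =>
  intro Γ _ _ A G U hGn hk hsolv hcop hUG hAU hUπ
  by_cases hG : G = ⊥
  · subst hG
    refine ⟨⊥, ?_, le_normalizer_of_normal' A ⊥, hUG⟩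
    refine isPiHallOf_of_card_mul le_rfl 1 ?_ ?_ (by simp)
    · intro p hp hdvd
      rw [Subgroup.card_bot] at hdvd
      exact absurd (Nat.dvd_one.mp hdvd) hp.ne_one
    · intro p hp _ hdvd
      exact absurd (Nat.dvd_one.mp hdvd) hp.ne_one
  · haveI : Nontrivial G := (Subgroup.nontrivial_iff_ne_bot G).mpr hG
    obtain ⟨q, hq, R, hRn, hRne, hRq⟩ := Cfsg.Agent.Helper1.exists_normal_pSubgroup G
    haveI : Fact q.Prime := ⟨hq⟩
    have hcore : Cfsg.pCore q G ≠ ⊥ := by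
      intro h
      apply hRne
      rw [eq_bot_iff, ← h]
      exact Cfsg.Agent.Lib.le_pCore hRn hRq
    haveI : (Cfsg.pCore q G).Characteristic := Cfsg.Agent.Lib.pCore_characteristic q
    set N : Subgroup Γ := (Cfsg.pCore q G).map G.subtype with hN
    haveI hNn : N.Normal := ConjAct.normal_of_characteristic_of_normal
    have hNG : N ≤ G := Subgroup.map_subtype_le _
    have hNne : N ≠ ⊥ := by
      intro h
      exact hcore ((Subgroup.map_eq_bot_iff_of_injective _ G.subtype_injective).mp h)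
    have hNq : IsPGroup q N := (Cfsg.Agent.Lib.isPGroup_pCore q).map _
    obtain ⟨e, he⟩ := IsPGroup.iff_card.mp hNq
    have hN2 : 2 ≤ Nat.card N := by
      have h1 : Nat.card N ≠ 1 := fun h => hNne (Subgroup.card_eq_one.mp h)
      have h0 : 0 < Nat.card N := Nat.card_pos
      omega
    -- the quotient
    set φ : Γ →* Γ ⧸ N := QuotientGroup.mk' N with hφ
    have hφs : Function.Surjective φ := QuotientGroup.mk'_surjective N
    set Gb : Subgroup (Γ ⧸ N) := G.map φ with hGb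
    haveI : Gb.Normal := Subgroup.Normal.map hGn φ hφs
    have hcomapG : Gb.comap φ = G := by
      rw [hGb, Subgroup.comap_map_eq, hφ, QuotientGroup.ker_mk', sup_eq_left.mpr hNG]
    have hcardG : Nat.card G = Nat.card N * Nat.card Gb := by
      rw [← Cfsg.Agent.Lib.card_comap_mk', ← hφ, hcomapG]
    have hGbpos : 0 < Nat.card Gb := Nat.card_pos
    have hlt : Nat.card Gb < k := by
      rw [← hk, hcardG]; nlinarith
    haveI := hsolv
    have hsolvb : Group.IsSolvable Gb := Cfsg.Agent.Helper1.isSolvable_map G φ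
    have hcopb : (Nat.card (A.map φ)).Coprime (Nat.card Gb) :=
      Nat.Coprime.coprime_dvd_left (Subgroup.card_map_dvd _ _)
        (Nat.Coprime.coprime_dvd_right ⟨Nat.card N, by rw [hcardG, mul_comm]⟩ hcop)
    have hUb : U.map φ ≤ Gb := Subgroup.map_mono hUG
    have hAUb : A.map φ ≤ Subgroup.normalizer ((U.map φ : Subgroup (Γ ⧸ N)) : Set (Γ ⧸ N)) :=
      (Subgroup.map_mono hAU).trans (Subgroup.le_normalizer_map φ)
    have hUbπ : ∀ p : ℕ, p.Prime → p ∣ Nat.card (U.map φ) → p ∈ π := fun p hp h =>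
      hUπ p hp (h.trans (Subgroup.card_map_dvd _ _))
    obtain ⟨Hb, hHb, hAHb, hUHb⟩ :=
      ih _ hlt (Γ ⧸ N) (A.map φ) Gb (U.map φ) rfl hsolvb hcopb hUb hAUb hUbπ
    set L : Subgroup Γ := Hb.comap φ with hL
    have hNL : N ≤ L := by
      intro x hx
      rw [hL, Subgroup.mem_comap]
      have : φ x = 1 := (QuotientGroup.eq_one_iff x).mpr hx
      rw [this]; exact Hb.one_mem
    have hLG : L ≤ G := by rw [← hcomapG]; exact Subgroup.comap_mono hHb.1
    have hUL : U ≤ L := (Subgroup.le_comap_map φ U).trans (Subgroup.comap_mono hUHb)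
    have hAL : A ≤ Subgroup.normalizer (L : Set Γ) :=
      (Subgroup.le_comap_map φ A).trans ((Subgroup.comap_mono hAHb).trans
        (Subgroup.le_normalizer_comap φ))
    have hcardL : Nat.card L = Nat.card N * Nat.card Hb := Cfsg.Agent.Lib.card_comap_mk' N Hb
    have hGL : Nat.card G = Nat.card L * Hb.relIndex Gb := by
      rw [hcardG, hcardL, mul_assoc, Cfsg.Agent.Helper11.card_mul_relIndex hHb.1]
    by_cases hqπ : q ∈ π
    · refine ⟨L, isPiHallOf_of_card_mul hLG _ ?_ hHb.2.2 hGL, hAL, hUL⟩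
      intro p hp hdvd
      rw [hcardL, he] at hdvd
      rcases (Nat.Prime.dvd_mul hp).mp hdvd with h | h
      · have := (Nat.prime_dvd_prime_iff_eq hp hq).mp (hp.dvd_of_dvd_pow h)
        rw [this]; exact hqπ
      · exact hHb.2.1 p hp h
    · have hNπ : ∀ p : ℕ, p.Prime → p ∈ π → ¬ p ∣ Nat.card N := by
        intro p hp hpπ hdvd
        rw [he] at hdvd
        have := (Nat.prime_dvd_prime_iff_eq hp hq).mp (hp.dvd_of_dvd_pow hdvd)
        exact hqπ (this ▸ hpπ)
      haveI : Group.IsSolvable L :=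
        Group.isSolvable_of_isSolvable_injective (Subgroup.inclusion_injective hLG)
      have hcopL : (Nat.card A).Coprime (Nat.card L) :=
        Nat.Coprime.coprime_dvd_right (Subgroup.card_dvd_of_le hLG) hcop
      obtain ⟨H, hH, hAH, hUH⟩ := invariant_hall_le_key A L N U hAL hcopL hNL hUL hAU hUπ hNπ
        (Nat.card Hb) hHb.2.1 hcardL
      exact ⟨H, isPiHallOf_of_le hH hLG _ hHb.2.2 hGL, hAH, hUH⟩

/-- **Coprime action on a solvable group**: every `A`-invariant `π`-subgroup of `G` lies in an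
`A`-invariant Hall `π`-subgroup of `G`. -/
theorem invariant_hall_le [Finite X] (A G : Subgroup X)
    (hAG : A ≤ Subgroup.normalizer (G : Set X)) (hcop : (Nat.card A).Coprime (Nat.card G))
    [hsolv : Group.IsSolvable G] (π : Set ℕ) (U : Subgroup X) (hUG : U ≤ G)
    (hAU : A ≤ Subgroup.normalizer (U : Set X))
    (hUπ : ∀ p : ℕ, p.Prime → p ∣ Nat.card U → p ∈ π) :
    ∃ H : Subgroup X, Cfsg.IsPiHallOf π H G ∧ A ≤ Subgroup.normalizer (H : Set X) ∧ U ≤ H := by
  set Y : Subgroup X := Subgroup.normalizer (G : Set X) with hY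
  have hGY : G ≤ Y := Subgroup.le_normalizer
  haveI : (G.subgroupOf Y).Normal := Subgroup.normal_in_normalizer
  have hcG : Nat.card (G.subgroupOf Y) = Nat.card G := Cfsg.Agent.Helper1.card_subgroupOf_of_le hGY
  have hcA : Nat.card (A.subgroupOf Y) = Nat.card A := Cfsg.Agent.Helper1.card_subgroupOf_of_le hAG
  have hcU : Nat.card (U.subgroupOf Y) = Nat.card U :=
    Cfsg.Agent.Helper1.card_subgroupOf_of_le (hUG.trans hGY)
  have hAU' : A.subgroupOf Y ≤
      Subgroup.normalizer ((U.subgroupOf Y : Subgroup Y) : Set Y) := by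
    intro a ha
    have ha' : (a : X) ∈ A := Subgroup.mem_subgroupOf.mp ha
    rw [Subgroup.mem_normalizer_iff]
    intro x
    rw [Subgroup.mem_subgroupOf, Subgroup.mem_subgroupOf]
    exact Subgroup.mem_normalizer_iff.mp (hAU ha') x
  obtain ⟨H', hH', hAH', hUH'⟩ := invariant_hall_le_aux π _ Y (A.subgroupOf Y) (G.subgroupOf Y)
    (U.subgroupOf Y) rfl (Cfsg.Agent.Helper1.isSolvable_subgroupOf G Y)
    (by rw [hcA, hcG]; exact hcop)
    (by
      intro x hx
      rw [Subgroup.mem_subgroupOf] at hx ⊢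
      exact hUG hx)
    hAU' (by rw [hcU]; exact hUπ)
  set H : Subgroup X := H'.map Y.subtype with hH
  have hcH : Nat.card H = Nat.card H' :=
    (Nat.card_congr (H'.equivMapOfInjective _ Y.subtype_injective).toEquiv).symm
  have hHG : H ≤ G := by
    rintro _ ⟨y, hy, rfl⟩
    exact Subgroup.mem_subgroupOf.mp (hH'.1 hy)
  refine ⟨H, ?_, ?_, ?_⟩
  · refine isPiHallOf_of_card_mul hHG (H'.relIndex (G.subgroupOf Y)) ?_ hH'.2.2 ?_
    · rw [hcH]; exact hH'.2.1
    · rw [hcH, ← hcG]; exact (isPiHallOf_card_mul_relIndex hH').symm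
  · intro a ha
    have ha' : (⟨a, hAG ha⟩ : Y) ∈ A.subgroupOf Y := Subgroup.mem_subgroupOf.mpr ha
    have h1 := Subgroup.le_normalizer_map (H := H') Y.subtype
      (Subgroup.mem_map_of_mem Y.subtype (hAH' ha'))
    exact h1
  · intro x hx
    have hx' : (⟨x, hGY (hUG hx)⟩ : Y) ∈ U.subgroupOf Y := Subgroup.mem_subgroupOf.mpr hx
    exact ⟨_, hUH' hx', rfl⟩

end Cfsg.Agent.Helper62
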