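import Mathlib

/-!
# Frobenius actions I: character idempotents

Algebraic preliminaries for the theorem that a Frobenius group `U ⋊ E` (with nilpotent kernel `U`)
acting on a module in coprime characteristic, makes the commutator module `[V,U]` a free `E`-module.

* `exists_transversal_sum`: free permutation of orthogonal idempotents.
* `proj`, `mul_proj`, `proj_mul_proj`, `sum_proj`: Fourier idempotents of a finite group with
  respect to the linear characters trivial on a normal subgroup with abelian quotient.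
-/

set_option autoImplicit false

namespace Cfsg.Agent.Helper62.FrobAct

open Finset
open scoped Classical

/-- **Free permutation of orthogonal idempotents.**  A group `Γ` acts on an index type `I`;
`P i` are pairwise orthogonal idempotents permuted by conjugation; a subgroup `E` acts freely on
an `E`-stable finite set `S`.  Then there is a sub-sum `δ` of the `P i`, `i ∈ S`, whose
`E`-conjugates are pairwise orthogonal and sum to `∑ i ∈ S, P i`. -/
theorem exists_transversal_sum {R : Type*} [Ring R] {Γ : Type*} [Group Γ] {I : Type*}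
    [DecidableEq I] [MulAction Γ I] (ρ : Γ →* R) (P : I → R)
    (hP : ∀ i j, P i * P j = if i = j then P i else 0)
    (hconj : ∀ (γ : Γ) (i : I), ρ γ * P i * ρ γ⁻¹ = P (γ • i))
    (E : Subgroup Γ) [Fintype E] (S : Finset I)
    (hS : ∀ e ∈ E, ∀ i ∈ S, e • i ∈ S)
    (hfree : ∀ e ∈ E, e ≠ 1 → ∀ i ∈ S, e • i ≠ i) :
    ∃ T : Finset I, T ⊆ S ∧
      (∀ e ∈ E, ∀ e' ∈ E, e ≠ e' →
        (ρ e * (∑ i ∈ T, P i) * ρ e⁻¹) * (ρ e' * (∑ i ∈ T, P i) * ρ e'⁻¹) = 0) ∧
      (∑ e : E, ρ (e : Γ) * (∑ i ∈ T, P i) * ρ (e : Γ)⁻¹) = ∑ i ∈ S, P i := by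
  classical
  -- an injective rank function on `S`
  obtain ⟨r, hr⟩ : ∃ r : I → ℕ, Set.InjOn r (S : Set I) := by
    have : Finite (S : Set I) := S.finite_toSet
    obtain ⟨n, ⟨f⟩⟩ := Finite.exists_equiv_fin (S : Set I)
    refine ⟨fun i => if h : i ∈ S then (f ⟨i, h⟩ : ℕ) else 0, ?_⟩
    intro i hi j hj hij
    have hi' : i ∈ S := hi
    have hj' : j ∈ S := hj
    simp only [hi', hj', dif_pos] at hij
    have := f.injective (Fin.ext hij)
    exact congrArg Subtype.val this
  let T : Finset I := S.filter (fun i => ∀ e : E, r i ≤ r ((e : Γ) • i))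
  have hTS : T ⊆ S := Finset.filter_subset _ _
  have hTmem : ∀ i, i ∈ T ↔ i ∈ S ∧ ∀ e : E, r i ≤ r ((e : Γ) • i) := fun i => by
    simp [T]
  -- key: `e • i = e' • j` with `i, j ∈ T` forces `i = j` and `e = e'`
  have key : ∀ e ∈ E, ∀ e' ∈ E, ∀ i ∈ T, ∀ j ∈ T, e • i = e' • j → i = j ∧ e = e' := by
    intro e he e' he' i hi j hj h
    obtain ⟨hiS, himin⟩ := (hTmem i).1 hi
    obtain ⟨hjS, hjmin⟩ := (hTmem j).1 hj
    have hj_eq : j = (e'⁻¹ * e) • i := by
      rw [mul_smul, h, inv_smul_smul]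
    have hi_eq : i = (e⁻¹ * e') • j := by
      rw [mul_smul, ← h, inv_smul_smul]
    have h1 : r i ≤ r j := by
      have := himin ⟨e'⁻¹ * e, E.mul_mem (E.inv_mem he') he⟩
      rwa [← hj_eq] at this
    have h2 : r j ≤ r i := by
      have := hjmin ⟨e⁻¹ * e', E.mul_mem (E.inv_mem he) he'⟩
      rwa [← hi_eq] at this
    have hij : i = j := hr hiS hjS (le_antisymm h1 h2)
    refine ⟨hij, ?_⟩
    by_contra hne
    have hne' : e'⁻¹ * e ≠ 1 := by
      intro h1
      apply hne
      have := inv_mul_eq_one.mp h1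
      exact this.symm
    apply hfree (e'⁻¹ * e) (E.mul_mem (E.inv_mem he') he) hne' i hiS
    rw [← hj_eq, hij]
  have hconjsum : ∀ γ : Γ, ρ γ * (∑ i ∈ T, P i) * ρ γ⁻¹ = ∑ i ∈ T, P (γ • i) := by
    intro γ
    rw [Finset.mul_sum, Finset.sum_mul]
    exact Finset.sum_congr rfl (fun i _ => hconj γ i)
  refine ⟨T, hTS, ?_, ?_⟩
  · intro e he e' he' hne
    rw [hconjsum, hconjsum, Finset.sum_mul_sum]
    apply Finset.sum_eq_zero
    intro i hi
    apply Finset.sum_eq_zero
    intro j hj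
    rw [hP, if_neg]
    intro h
    exact hne (key e he e' he' i hi j hj h).2
  · have h1 : ∀ e : E, ρ (e : Γ) * (∑ i ∈ T, P i) * ρ (e : Γ)⁻¹ = ∑ i ∈ T, P ((e : Γ) • i) :=
      fun e => hconjsum e
    simp_rw [h1]
    rw [← Finset.sum_product']
    refine Finset.sum_bij (fun (x : E × I) _ => (x.1 : Γ) • x.2) ?_ ?_ ?_ ?_
    · rintro ⟨e, i⟩ hx
      simp only [Finset.mem_product, Finset.mem_univ, true_and] at hx
      exact hS e e.2 i (hTS hx)
    · rintro ⟨e, i⟩ hx ⟨e', j⟩ hy h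
      simp only [Finset.mem_product, Finset.mem_univ, true_and] at hx hy
      obtain ⟨h1, h2⟩ := key e e.2 e' e'.2 i hx j hy h
      exact Prod.ext (Subtype.ext h2) h1
    · intro s hs
      -- minimise the rank over the orbit
      obtain ⟨e0, -, he0⟩ := Finset.exists_min_image (Finset.univ : Finset E)
        (fun e : E => r ((e : Γ) • s)) ⟨1, Finset.mem_univ _⟩
      refine ⟨(e0⁻¹, (e0 : Γ) • s), ?_, ?_⟩
      · simp only [Finset.mem_product, Finset.mem_univ, true_and]
        rw [hTmem]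
        refine ⟨hS e0 e0.2 s hs, fun e => ?_⟩
        have := he0 (e * e0) (Finset.mem_univ _)
        rw [← mul_smul]
        exact this
      · simp
    · intro x _
      rfl

section Fourier

variable {K : Type*} [Field K] {R : Type*} [Ring R] [Algebra K R]
variable {G : Type*} [Group G] [Fintype G]

/-- The "isotypic projection" attached to a linear character `ψ` of the finite group `G`,
inside a `K`-algebra `R` receiving a monoid homomorphism `σ` from `G`. -/
noncomputable def proj (σ : G →* R) (ψ : G →* Kˣ) : R :=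
  ((Nat.card G : K))⁻¹ • ∑ g : G, (((ψ g)⁻¹ : Kˣ) : K) • σ g

theorem mul_proj (σ : G →* R) (ψ : G →* Kˣ) (g₀ : G) :
    σ g₀ * proj σ ψ = ((ψ g₀ : Kˣ) : K) • proj σ ψ := by
  have key : σ g₀ * ∑ g : G, (((ψ g)⁻¹ : Kˣ) : K) • σ g =
      ((ψ g₀ : Kˣ) : K) • ∑ g : G, (((ψ g)⁻¹ : Kˣ) : K) • σ g := by
    rw [Finset.mul_sum, Finset.smul_sum]
    refine Fintype.sum_equiv (Equiv.mulLeft g₀)
      (fun g => σ g₀ * ((((ψ g)⁻¹ : Kˣ) : K) • σ g))
      (fun g => ((ψ g₀ : Kˣ) : K) • ((((ψ g)⁻¹ : Kˣ) : K) • σ g)) (fun g => ?_)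
    simp only [Equiv.coe_mulLeft, mul_smul_comm, ← map_mul, smul_smul]
    congr 1
    rw [map_mul, mul_inv_rev, ← Units.val_mul]
    congr 1
    rw [mul_comm (ψ g)⁻¹, mul_inv_cancel_left]
  unfold proj
  rw [mul_smul_comm, key, smul_comm]

theorem proj_mul (σ : G →* R) (ψ : G →* Kˣ) (g₀ : G) :
    proj σ ψ * σ g₀ = ((ψ g₀ : Kˣ) : K) • proj σ ψ := by
  have key : (∑ g : G, (((ψ g)⁻¹ : Kˣ) : K) • σ g) * σ g₀ =
      ((ψ g₀ : Kˣ) : K) • ∑ g : G, (((ψ g)⁻¹ : Kˣ) : K) • σ g := by
    rw [Finset.sum_mul, Finset.smul_sum]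
    refine Fintype.sum_equiv (Equiv.mulRight g₀)
      (fun g => ((((ψ g)⁻¹ : Kˣ) : K) • σ g) * σ g₀)
      (fun g => ((ψ g₀ : Kˣ) : K) • ((((ψ g)⁻¹ : Kˣ) : K) • σ g)) (fun g => ?_)
    simp only [Equiv.coe_mulRight, smul_mul_assoc, ← map_mul, smul_smul]
    congr 1
    rw [map_mul, mul_inv_rev, ← Units.val_mul]
    congr 1
    rw [mul_inv_cancel_left]
  unfold proj
  rw [smul_mul_assoc, key, smul_comm]

theorem proj_mul_proj (hG : (Nat.card G : K) ≠ 0) (σ : G →* R) (ψ μ : G →* Kˣ) :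
    proj σ ψ * proj σ μ = if ψ = μ then proj σ ψ else 0 := by
  have h1 : proj σ ψ * proj σ μ =
      ((Nat.card G : K))⁻¹ • ∑ g : G, ((((ψ g)⁻¹ : Kˣ) : K) * ((μ g : Kˣ) : K)) • proj σ μ := by
    conv_lhs => rw [proj]
    rw [smul_mul_assoc, Finset.sum_mul]
    congr 1
    refine Finset.sum_congr rfl (fun g _ => ?_)
    rw [smul_mul_assoc, mul_proj, smul_smul]
  rw [h1, ← Finset.sum_smul, smul_smul]
  by_cases h : ψ = μ
  · subst h
    rw [if_pos rfl]
    have : ∀ g : G, (((ψ g)⁻¹ : Kˣ) : K) * ((ψ g : Kˣ) : K) = 1 := fun g => by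
      rw [← Units.val_mul, inv_mul_cancel, Units.val_one]
    simp only [this, Finset.sum_const, Finset.card_univ, nsmul_eq_mul, mul_one]
    rw [← Nat.card_eq_fintype_card, inv_mul_cancel₀ hG, one_smul]
  · rw [if_neg h]
    have hne : (Units.coeHom K).comp (ψ⁻¹ * μ) ≠ 1 := by
      intro h1
      apply h
      ext g
      have := DFunLike.congr_fun h1 g
      simp only [MonoidHom.coe_comp, Function.comp_apply, MonoidHom.mul_apply,
        MonoidHom.inv_apply, Units.coeHom_apply, MonoidHom.one_apply] at this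
      have h2 : (ψ g)⁻¹ * μ g = 1 := Units.ext this
      have := inv_mul_eq_one.mp h2
      rw [this]
    have h0 := sum_hom_units_eq_zero _ hne
    have h2 : ∑ g : G, (((ψ g)⁻¹ : Kˣ) : K) * ((μ g : Kˣ) : K) = 0 := by
      rw [← h0]
      refine Finset.sum_congr rfl (fun g _ => ?_)
      simp
    rw [h2, mul_zero, zero_smul]

theorem proj_one (σ : G →* R) :
    proj σ (1 : G →* Kˣ) = ((Nat.card G : K))⁻¹ • ∑ g : G, σ g := by
  unfold proj
  simp

end Fourier

section Dual

variable {K : Type*} [Field K] [IsAlgClosed K]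
variable {G : Type*} [Group G] [Finite G]

/-- separating characters modulo a normal subgroup with abelian quotient -/
theorem exists_char_ne_one (hG : (Nat.card G : K) ≠ 0) (N : Subgroup G) [N.Normal]
    (hab : ∀ a b : G, a * b * a⁻¹ * b⁻¹ ∈ N) {g : G} (hg : g ∉ N) :
    ∃ ψ : G →* Kˣ, N ≤ ψ.ker ∧ ψ g ≠ 1 := by
  let _ : CommGroup (G ⧸ N) :=
    { (inferInstance : Group (G ⧸ N)) with
      mul_comm := by
        intro a b
        induction a using QuotientGroup.induction_on with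
        | H a =>
          induction b using QuotientGroup.induction_on with
          | H b =>
            rw [← QuotientGroup.mk_mul, ← QuotientGroup.mk_mul, QuotientGroup.eq]
            have := hab b⁻¹ a⁻¹
            simpa [mul_assoc] using this }
  have hdvd : Monoid.exponent (G ⧸ N) ∣ Nat.card G :=
    (Group.exponent_dvd_nat_card (G := G ⧸ N)).trans (Subgroup.card_quotient_dvd_card N)
  have : NeZero ((Monoid.exponent (G ⧸ N) : ℕ) : K) := by
    refine ⟨fun h0 => hG ?_⟩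
    obtain ⟨c, hc⟩ := hdvd
    rw [hc, Nat.cast_mul, h0, zero_mul]
  have hne : (QuotientGroup.mk g : G ⧸ N) ≠ 1 := by
    rw [Ne, QuotientGroup.eq_one_iff]
    exact hg
  obtain ⟨φ, hφ⟩ := CommGroup.exists_apply_ne_one_of_hasEnoughRootsOfUnity (G ⧸ N) K hne
  refine ⟨φ.comp (QuotientGroup.mk' N), ?_, ?_⟩
  · intro n hn
    rw [MonoidHom.mem_ker, MonoidHom.comp_apply, QuotientGroup.mk'_apply,
      (QuotientGroup.eq_one_iff n).mpr hn, map_one]
  · simpa using hφ

theorem card_chars_mul (hG : (Nat.card G : K) ≠ 0) (N : Subgroup G) [N.Normal]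
    (hab : ∀ a b : G, a * b * a⁻¹ * b⁻¹ ∈ N) :
    Nat.card {ψ : G →* Kˣ // N ≤ ψ.ker} * Nat.card N = Nat.card G := by
  let _ : CommGroup (G ⧸ N) :=
    { (inferInstance : Group (G ⧸ N)) with
      mul_comm := by
        intro a b
        induction a using QuotientGroup.induction_on with
        | H a =>
          induction b using QuotientGroup.induction_on with
          | H b =>
            rw [← QuotientGroup.mk_mul, ← QuotientGroup.mk_mul, QuotientGroup.eq]
            have := hab b⁻¹ a⁻¹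
            simpa [mul_assoc] using this }
  have hdvd : Monoid.exponent (G ⧸ N) ∣ Nat.card G :=
    (Group.exponent_dvd_nat_card (G := G ⧸ N)).trans (Subgroup.card_quotient_dvd_card N)
  have : NeZero ((Monoid.exponent (G ⧸ N) : ℕ) : K) := by
    refine ⟨fun h0 => hG ?_⟩
    obtain ⟨c, hc⟩ := hdvd
    rw [hc, Nat.cast_mul, h0, zero_mul]
  have h1 := CommGroup.card_monoidHom_of_hasEnoughRootsOfUnity (G ⧸ N) K
  have e : {ψ : G →* Kˣ // N ≤ ψ.ker} ≃ (G ⧸ N →* Kˣ) :=
    { toFun := fun ψ => QuotientGroup.lift N ψ.1 ψ.2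
      invFun := fun φ => ⟨φ.comp (QuotientGroup.mk' N), by
        intro n hn
        rw [MonoidHom.mem_ker, MonoidHom.comp_apply, QuotientGroup.mk'_apply,
          (QuotientGroup.eq_one_iff n).mpr hn, map_one]⟩
      left_inv := by
        intro ψ
        apply Subtype.ext
        ext g
        simp
      right_inv := by
        intro φ
        apply MonoidHom.ext
        intro x
        induction x using QuotientGroup.induction_on with
        | H x => simp }
  rw [Nat.card_congr e, h1, ← Subgroup.card_eq_card_quotient_mul_card_subgroup]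

/-- dual orthogonality -/
theorem sum_chars_apply (hG : (Nat.card G : K) ≠ 0) (N : Subgroup G) [N.Normal]
    (hab : ∀ a b : G, a * b * a⁻¹ * b⁻¹ ∈ N) [Fintype {ψ : G →* Kˣ // N ≤ ψ.ker}] (g : G) :
    ∑ ψ : {ψ : G →* Kˣ // N ≤ ψ.ker}, ((ψ.1 g : Kˣ) : K) =
      if g ∈ N then (Nat.card {ψ : G →* Kˣ // N ≤ ψ.ker} : K) else 0 := by
  by_cases hg : g ∈ N
  · rw [if_pos hg]
    have : ∀ ψ : {ψ : G →* Kˣ // N ≤ ψ.ker}, ((ψ.1 g : Kˣ) : K) = 1 := by
      intro ψ
      have := ψ.2 hg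
      rw [MonoidHom.mem_ker] at this
      rw [this, Units.val_one]
    simp only [this, Finset.sum_const, Finset.card_univ, nsmul_eq_mul, mul_one,
      Nat.card_eq_fintype_card]
  · rw [if_neg hg]
    obtain ⟨ψ₀, hψ₀, hψ₀g⟩ := exists_char_ne_one hG N hab hg
    let ψ₀' : {ψ : G →* Kˣ // N ≤ ψ.ker} := ⟨ψ₀, hψ₀⟩
    let e : {ψ : G →* Kˣ // N ≤ ψ.ker} ≃ {ψ : G →* Kˣ // N ≤ ψ.ker} :=
      { toFun := fun ψ => ⟨ψ₀ * ψ.1, by
          intro n hn
          have h1 := hψ₀ hn
          have h2 := ψ.2 hn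
          rw [MonoidHom.mem_ker] at h1 h2 ⊢
          rw [MonoidHom.mul_apply, h1, h2, one_mul]⟩
        invFun := fun ψ => ⟨ψ₀⁻¹ * ψ.1, by
          intro n hn
          have h1 := hψ₀ hn
          have h2 := ψ.2 hn
          rw [MonoidHom.mem_ker] at h1 h2 ⊢
          rw [MonoidHom.mul_apply, MonoidHom.inv_apply, h1, h2, inv_one, one_mul]⟩
        left_inv := by
          intro ψ
          apply Subtype.ext
          exact inv_mul_cancel_left ψ₀ ψ.1
        right_inv := by
          intro ψ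
          apply Subtype.ext
          exact mul_inv_cancel_left ψ₀ ψ.1 }
    have h1 : ∑ ψ : {ψ : G →* Kˣ // N ≤ ψ.ker}, ((ψ.1 g : Kˣ) : K) =
        ((ψ₀ g : Kˣ) : K) * ∑ ψ : {ψ : G →* Kˣ // N ≤ ψ.ker}, ((ψ.1 g : Kˣ) : K) := by
      rw [Finset.mul_sum]
      refine (Fintype.sum_equiv e (fun ψ => ((ψ₀ g : Kˣ) : K) * ((ψ.1 g : Kˣ) : K))
        (fun ψ => ((ψ.1 g : Kˣ) : K)) (fun ψ => ?_)).symm
      simp [e]
    have h2 : (1 - ((ψ₀ g : Kˣ) : K)) *
        ∑ ψ : {ψ : G →* Kˣ // N ≤ ψ.ker}, ((ψ.1 g : Kˣ) : K) = 0 := by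
      rw [sub_mul, one_mul, ← h1, sub_self]
    rcases mul_eq_zero.mp h2 with h3 | h3
    · exfalso
      apply hψ₀g
      apply Units.ext
      rw [Units.val_one]
      exact (sub_eq_zero.mp h3).symm
    · exact h3

end Dual

section SumProj

variable {K : Type*} [Field K] [IsAlgClosed K] {R : Type*} [Ring R] [Algebra K R]
variable {G : Type*} [Group G] [Fintype G]

theorem sum_proj (hG : (Nat.card G : K) ≠ 0) (N : Subgroup G) [N.Normal]
    (hab : ∀ a b : G, a * b * a⁻¹ * b⁻¹ ∈ N) [Fintype {ψ : G →* Kˣ // N ≤ ψ.ker}] [Fintype N]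
    (σ : G →* R) :
    ∑ ψ : {ψ : G →* Kˣ // N ≤ ψ.ker}, proj σ ψ.1 = ((Nat.card N : K))⁻¹ • ∑ n : N, σ n := by
  set d : K := (Nat.card {ψ : G →* Kˣ // N ≤ ψ.ker} : K) with hd
  have h1 : ∀ g : G, ∑ ψ : {ψ : G →* Kˣ // N ≤ ψ.ker}, (((ψ.1 g)⁻¹ : Kˣ) : K) =
      if g ∈ N then d else 0 := by
    intro g
    have := sum_chars_apply hG N hab g⁻¹
    simp only [map_inv, inv_mem_iff] at this
    exact this
  have h2 : ∑ ψ : {ψ : G →* Kˣ // N ≤ ψ.ker}, proj σ ψ.1 =
      ((Nat.card G : K))⁻¹ • ∑ g : G, (if g ∈ N then d else 0) • σ g := by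
    unfold proj
    rw [← Finset.smul_sum, Finset.sum_comm]
    congr 1
    refine Finset.sum_congr rfl (fun g _ => ?_)
    rw [← Finset.sum_smul, h1]
  have h3 : ∑ g : G, (if g ∈ N then d else 0) • σ g = d • ∑ n : N, σ n := by
    rw [Finset.smul_sum]
    have h4 : ∑ n : N, d • σ (n : G) = ∑ g ∈ Finset.univ.filter (· ∈ N), d • σ g :=
      (Finset.sum_subtype (Finset.univ.filter (· ∈ N)) (p := (· ∈ N)) (by simp)
        (fun g => d • σ g)).symm
    rw [h4, Finset.sum_filter]
    refine Finset.sum_congr rfl (fun g _ => ?_)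
    split_ifs <;> simp
  rw [h2, h3, smul_smul]
  congr 1
  have hcard := card_chars_mul (K := K) hG N hab
  have hcard' : d * (Nat.card N : K) = (Nat.card G : K) := by
    rw [hd, ← Nat.cast_mul, hcard]
  have hN0 : (Nat.card N : K) ≠ 0 := by
    intro h0
    apply hG
    rw [← hcard', h0, mul_zero]
  rw [← hcard', mul_inv_rev, mul_assoc, inv_mul_cancel₀, mul_one]
  intro h0
  apply hG
  rw [← hcard', h0, zero_mul]

end SumProj

end Cfsg.Agent.Helper62.FrobAct
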