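import Mathlib
import Cfsg.Agent.Helper62.FrobActFourier

/-!
# Frobenius actions II: the free idempotent

`exists_free_idempotent`: let `U ⊴ A` be nilpotent, `E ≤ A` act fixed-point-freely on `U` by
conjugation, `K` an algebraically closed field in which `|U|` is invertible, and `ρ : A →* R` a
monoid homomorphism into a `K`-algebra.  Then there is an idempotent `ε ∈ R` commuting with `ρ U`
whose `E`-conjugates are pairwise orthogonal and sum to `1 - avg U` (the projection onto `[V,U]`).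
-/

set_option autoImplicit false
set_option linter.unusedSectionVars false
set_option linter.unusedSimpArgs false
set_option linter.style.haveILetI false

namespace Cfsg.Agent.Helper62.FrobAct

open Finset
open scoped Classical
open scoped commutatorElement

section Avg

variable (K : Type*) [Field K] {R : Type*} [Ring R] [Algebra K R]
variable {A : Type*} [Group A] (ρ : A →* R)

/-- the averaging element `|N|⁻¹ ∑_{n ∈ N} ρ n` -/
noncomputable def avg (N : Subgroup A) : R :=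
  ((Nat.card N : K))⁻¹ • ∑ᶠ n : N, ρ n

theorem avg_eq (N : Subgroup A) [Fintype N] :
    avg K ρ N = ((Nat.card N : K))⁻¹ • ∑ n : N, ρ n := by
  rw [avg, finsum_eq_sum_of_fintype]

variable {K}

theorem mul_avg (N : Subgroup A) [Finite N] {n : A} (hn : n ∈ N) :
    ρ n * avg K ρ N = avg K ρ N := by
  have := Fintype.ofFinite N
  rw [avg_eq, mul_smul_comm, Finset.mul_sum]
  congr 1
  refine Fintype.sum_equiv (Equiv.mulLeft (⟨n, hn⟩ : N)) (fun m => ρ n * ρ m) (fun m => ρ m)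
    (fun m => ?_)
  simp

theorem avg_mul (N : Subgroup A) [Finite N] {n : A} (hn : n ∈ N) :
    avg K ρ N * ρ n = avg K ρ N := by
  have := Fintype.ofFinite N
  rw [avg_eq, smul_mul_assoc, Finset.sum_mul]
  congr 1
  refine Fintype.sum_equiv (Equiv.mulRight (⟨n, hn⟩ : N)) (fun m => ρ m * ρ n) (fun m => ρ m)
    (fun m => ?_)
  simp

theorem avg_mul_avg_of_le {N M : Subgroup A} [Finite N] [Finite M] (h : N ≤ M)
    (hN : (Nat.card N : K) ≠ 0) : avg K ρ N * avg K ρ M = avg K ρ M := by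
  have := Fintype.ofFinite N
  rw [avg_eq K ρ N, smul_mul_assoc, Finset.sum_mul]
  have : ∀ n : N, ρ n * avg K ρ M = avg K ρ M := fun n => mul_avg ρ M (h n.2)
  simp only [this, Finset.sum_const, Finset.card_univ]
  rw [← Nat.card_eq_fintype_card, ← Nat.cast_smul_eq_nsmul K, smul_smul, inv_mul_cancel₀ hN,
    one_smul]

theorem avg_mul_avg_of_le' {N M : Subgroup A} [Finite N] [Finite M] (h : N ≤ M)
    (hN : (Nat.card N : K) ≠ 0) : avg K ρ M * avg K ρ N = avg K ρ M := by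
  have := Fintype.ofFinite N
  rw [avg_eq K ρ N, mul_smul_comm, Finset.mul_sum]
  have : ∀ n : N, avg K ρ M * ρ n = avg K ρ M := fun n => avg_mul ρ M (h n.2)
  simp only [this, Finset.sum_const, Finset.card_univ]
  rw [← Nat.card_eq_fintype_card, ← Nat.cast_smul_eq_nsmul K, smul_smul, inv_mul_cancel₀ hN,
    one_smul]

theorem avg_idem {N : Subgroup A} [Finite N] (hN : (Nat.card N : K) ≠ 0) :
    avg K ρ N * avg K ρ N = avg K ρ N :=
  avg_mul_avg_of_le ρ le_rfl hN

theorem avg_bot : avg K ρ (⊥ : Subgroup A) = 1 := by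
  rw [avg_eq]
  have h : ((default : (⊥ : Subgroup A)) : A) = 1 := Subgroup.mem_bot.mp (default : (⊥ : Subgroup A)).2
  simp [h]

/-- conjugation invariance of the average over a normal subgroup -/
theorem conj_avg (N : Subgroup A) [N.Normal] [Finite N] (a : A) :
    ρ a * avg K ρ N * ρ a⁻¹ = avg K ρ N := by
  have := Fintype.ofFinite N
  rw [avg_eq, mul_smul_comm, smul_mul_assoc, Finset.mul_sum, Finset.sum_mul]
  congr 1
  refine Fintype.sum_equiv (MulAut.conjNormal a : N ≃* N).toEquiv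
    (fun m => ρ a * ρ m * ρ a⁻¹) (fun m => ρ m) (fun m => ?_)
  simp [MulAut.conjNormal_apply]

theorem commute_avg (N : Subgroup A) [N.Normal] [Finite N] (a : A) :
    ρ a * avg K ρ N = avg K ρ N * ρ a := by
  have h := conj_avg (K := K) ρ N a
  have h1 : ρ a⁻¹ * ρ a = 1 := by rw [← map_mul, inv_mul_cancel, map_one]
  calc ρ a * avg K ρ N = ρ a * avg K ρ N * (ρ a⁻¹ * ρ a) := by rw [h1, mul_one]
    _ = (ρ a * avg K ρ N * ρ a⁻¹) * ρ a := by simp only [mul_assoc]
    _ = avg K ρ N * ρ a := by rw [h]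

end Avg


section Layer

variable {K : Type*} [Field K] {R : Type*} [Ring R] [Algebra K R]
variable {A : Type*} [Group A] (ρ : A →* R)

/-- The action of the ambient group on the linear characters of a normal subgroup `Z` which are
trivial on a normal subgroup `N`. -/
def charSmul (Z N : Subgroup A) [Z.Normal] [N.Normal] (a : A)
    (ψ : {ψ : Z →* Kˣ // N.subgroupOf Z ≤ ψ.ker}) : {ψ : Z →* Kˣ // N.subgroupOf Z ≤ ψ.ker} :=
  ⟨ψ.1.comp (MulAut.conjNormal a⁻¹ : Z ≃* Z).toMonoidHom, by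
    intro z hz
    rw [MonoidHom.mem_ker, MonoidHom.comp_apply]
    have h1 : (MulAut.conjNormal a⁻¹ : Z ≃* Z) z ∈ N.subgroupOf Z := by
      rw [Subgroup.mem_subgroupOf, MulAut.conjNormal_apply]
      exact ‹N.Normal›.conj_mem _ (Subgroup.mem_subgroupOf.mp hz) _
    exact ψ.2 h1⟩

theorem charSmul_apply (Z N : Subgroup A) [Z.Normal] [N.Normal] (a : A)
    (ψ : {ψ : Z →* Kˣ // N.subgroupOf Z ≤ ψ.ker}) (z : Z) :
    (charSmul Z N a ψ).1 z = ψ.1 ((MulAut.conjNormal a⁻¹ : Z ≃* Z) z) := rfl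

@[instance_reducible]
def charAct (Z N : Subgroup A) [Z.Normal] [N.Normal] :
    MulAction A {ψ : Z →* Kˣ // N.subgroupOf Z ≤ ψ.ker} where
  smul := charSmul Z N
  one_smul ψ := by
    apply Subtype.ext
    ext z
    change ((charSmul Z N 1 ψ).1 z : K) = _
    rw [charSmul_apply]
    simp
  mul_smul a b ψ := by
    apply Subtype.ext
    ext z
    change ((charSmul Z N (a * b) ψ).1 z : K) = ((charSmul Z N a (charSmul Z N b ψ)).1 z : K)
    rw [charSmul_apply, charSmul_apply, charSmul_apply]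
    simp [mul_inv_rev, map_mul]

end Layer

section LayerMain

variable {K : Type*} [Field K] [IsAlgClosed K] {R : Type*} [Ring R] [Algebra K R]
variable {A : Type*} [Group A] [Finite A] (ρ : A →* R)

/-- conjugating a Fourier idempotent -/
theorem conj_proj (Z N : Subgroup A) [Z.Normal] [N.Normal] [Fintype Z] (a : A)
    (ψ : {ψ : Z →* Kˣ // N.subgroupOf Z ≤ ψ.ker}) :
    ρ a * proj (ρ.comp Z.subtype) ψ.1 * ρ a⁻¹ =
      proj (ρ.comp Z.subtype) (charSmul Z N a ψ).1 := by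
  unfold proj
  rw [mul_smul_comm, smul_mul_assoc, Finset.mul_sum, Finset.sum_mul]
  congr 1
  refine Fintype.sum_equiv (MulAut.conjNormal a : Z ≃* Z).toEquiv
    (fun z => ρ a * ((((ψ.1 z)⁻¹ : Kˣ) : K) • (ρ.comp Z.subtype) z) * ρ a⁻¹)
    (fun z => ((((charSmul Z N a ψ).1 z)⁻¹ : Kˣ) : K) • (ρ.comp Z.subtype) z) (fun z => ?_)
  rw [mul_smul_comm, smul_mul_assoc]
  have h1 : (charSmul Z N a ψ).1 ((MulAut.conjNormal a : Z ≃* Z).toEquiv z) = ψ.1 z := by
    rw [charSmul_apply]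
    congr 1
    apply Subtype.ext
    simp [MulAut.conjNormal_apply, mul_assoc]
  rw [h1]
  congr 1
  simp [MulAut.conjNormal_apply]

/-- **The layer lemma.** -/
theorem layer (U E Z N : Subgroup A) [U.Normal] [Z.Normal] [N.Normal] (hNZ : N ≤ Z)
    (hZU : Z ≤ U) (hcomm : ⁅Z, U⁆ ≤ N) (hU : (Nat.card U : K) ≠ 0)
    (hfpf : ∀ e ∈ E, e ≠ 1 → ∀ u ∈ U, e * u = u * e → u = 1) [Fintype E] :
    ∃ δ : R, δ * δ = δ ∧ (∀ u ∈ U, ρ u * δ = δ * ρ u) ∧
      (∀ e ∈ E, ∀ e' ∈ E, e ≠ e' → (ρ e * δ * ρ e⁻¹) * (ρ e' * δ * ρ e'⁻¹) = 0) ∧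
      ∑ e : E, ρ (e : A) * δ * ρ (e : A)⁻¹ = avg K ρ N - avg K ρ Z := by
  have instZ : Fintype Z := Fintype.ofFinite Z
  let D := {ψ : Z →* Kˣ // N.subgroupOf Z ≤ ψ.ker}
  have instD : Fintype D := Fintype.ofFinite D
  letI : MulAction A D := charAct Z N
  have hsmul : ∀ (a : A) (ψ : D), a • ψ = charSmul Z N a ψ := fun _ _ => rfl
  let σ : Z →* R := ρ.comp Z.subtype
  have hZ0 : (Nat.card Z : K) ≠ 0 := by
    intro h0
    apply hU
    obtain ⟨c, hc⟩ := Subgroup.card_dvd_of_le hZU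
    rw [hc, Nat.cast_mul, h0, zero_mul]
  let P : D → R := fun ψ => proj σ ψ.1
  have hP : ∀ i j : D, P i * P j = if i = j then P i else 0 := by
    intro i j
    have := proj_mul_proj hZ0 σ i.1 j.1
    rw [this]
    by_cases h : i = j
    · rw [if_pos h, if_pos (congrArg Subtype.val h)]
    · rw [if_neg h, if_neg (fun h' => h (Subtype.ext h'))]
  have hconj : ∀ (a : A) (i : D), ρ a * P i * ρ a⁻¹ = P (a • i) := by
    intro a i
    rw [hsmul]
    exact conj_proj ρ Z N a i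
  -- the trivial character
  let one : D := ⟨1, fun z _ => by simp [MonoidHom.mem_ker]⟩
  let S : Finset D := Finset.univ.filter (fun ψ => ψ ≠ one)
  have hS_mem : ∀ ψ : D, ψ ∈ S ↔ ψ ≠ one := fun ψ => by simp [S]
  have hone_smul : ∀ a : A, a • one = one := by
    intro a
    apply Subtype.ext
    ext z
    rw [hsmul, charSmul_apply]
    rfl
  have hS : ∀ e ∈ E, ∀ i ∈ S, e • i ∈ S := by
    intro e _ i hi
    rw [hS_mem] at hi ⊢
    intro h
    apply hi
    have : e⁻¹ • (e • i) = e⁻¹ • one := by rw [h]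
    rwa [inv_smul_smul, hone_smul] at this
  have hfree : ∀ e ∈ E, e ≠ 1 → ∀ i ∈ S, e • i ≠ i := by
    intro e he he1 ψ hψ hfix
    rw [hS_mem] at hψ
    apply hψ
    -- ψ is invariant under the fixed-point-free `e⁻¹`
    obtain ⟨φ, hφ⟩ : ∃ φ : Z ≃* Z, φ = (MulAut.conjNormal e⁻¹ : Z ≃* Z) := ⟨_, rfl⟩
    have hφval : ∀ z : Z, ((φ z : Z) : A) = e⁻¹ * z * e := by
      intro z
      rw [hφ, MulAut.conjNormal_apply, inv_inv]
    have hinv : ∀ z : Z, ψ.1 (φ z) = ψ.1 z := by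
      intro z
      have := congrArg (fun μ : D => μ.1 z) hfix
      simp only [hsmul, charSmul_apply] at this
      rw [hφ]
      exact this
    let θ : Z → Z := fun z => (φ z)⁻¹ * z
    have hθinj : Function.Injective θ := by
      intro z w hzw
      have h1 : φ (z * w⁻¹) = z * w⁻¹ := by
        rw [map_mul, map_inv]
        have h2 : (φ z)⁻¹ * z = (φ w)⁻¹ * w := hzw
        have h3 : z = φ z * ((φ w)⁻¹ * w) := by rw [← h2]; group
        calc φ z * (φ w)⁻¹ = (φ z * ((φ w)⁻¹ * w)) * w⁻¹ := by group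
          _ = z * w⁻¹ := by rw [← h3]
      have h4 : e⁻¹ * ((z * w⁻¹ : Z) : A) = ((z * w⁻¹ : Z) : A) * e⁻¹ := by
        have := congrArg Subtype.val h1
        rw [hφval] at this
        calc e⁻¹ * ((z * w⁻¹ : Z) : A) = (e⁻¹ * ((z * w⁻¹ : Z) : A) * e) * e⁻¹ := by group
          _ = ((z * w⁻¹ : Z) : A) * e⁻¹ := by rw [this]
      have h5 : ((z * w⁻¹ : Z) : A) = 1 :=
        hfpf e⁻¹ (E.inv_mem he) (fun h => he1 (inv_eq_one.mp h)) _ (hZU (z * w⁻¹).2) h4
      have h6 : z * w⁻¹ = 1 := Subtype.ext h5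
      exact mul_inv_eq_one.mp h6
    have hθsurj : Function.Surjective θ := Finite.surjective_of_injective hθinj
    apply Subtype.ext
    ext z
    obtain ⟨w, rfl⟩ := hθsurj z
    have : ψ.1 (θ w) = 1 := by
      show ψ.1 ((φ w)⁻¹ * w) = 1
      rw [map_mul, map_inv, hinv, inv_mul_cancel]
    rw [this]
    rfl
  obtain ⟨T, hTS, horth, hsum⟩ := exists_transversal_sum ρ P hP hconj E S hS hfree
  refine ⟨∑ i ∈ T, P i, ?_, ?_, horth, ?_⟩
  · rw [Finset.sum_mul_sum]
    refine Finset.sum_congr rfl (fun i hi => ?_)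
    simp only [hP]
    rw [Finset.sum_ite_eq, if_pos hi]
  · intro u hu
    rw [Finset.mul_sum, Finset.sum_mul]
    refine Finset.sum_congr rfl (fun i _ => ?_)
    -- `u` fixes every character in `D`
    have hfix : u • i = i := by
      apply Subtype.ext
      ext z
      rw [hsmul, charSmul_apply]
      have hmem : u⁻¹ * z * u * (z : A)⁻¹ ∈ ⁅Z, U⁆ := by
        have h3 : u⁻¹ * z * u * (z : A)⁻¹ = ⁅u⁻¹, (z : A)⁆ := by
          rw [commutatorElement_def, inv_inv]
        rw [h3, Subgroup.commutator_comm]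
        exact Subgroup.commutator_mem_commutator (U.inv_mem hu) z.2
      have hmemZ : u⁻¹ * z * u * (z : A)⁻¹ ∈ Z := by
        have := ‹Z.Normal›.conj_mem z z.2 u⁻¹
        rw [inv_inv] at this
        exact Z.mul_mem this (Z.inv_mem z.2)
      have h1 : (MulAut.conjNormal u⁻¹ : Z ≃* Z) z =
          (⟨u⁻¹ * z * u * (z : A)⁻¹, hmemZ⟩ : Z) * z := by
        apply Subtype.ext
        simp [MulAut.conjNormal_apply, mul_assoc]
      rw [h1, map_mul]
      have h2 : (⟨u⁻¹ * z * u * (z : A)⁻¹, hmemZ⟩ : Z) ∈ N.subgroupOf Z := by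
        rw [Subgroup.mem_subgroupOf]
        exact hcomm hmem
      have h4 := i.2 h2
      rw [MonoidHom.mem_ker] at h4
      rw [h4, one_mul]
    have h5 := hconj u i
    rw [hfix] at h5
    have h6 : ρ u⁻¹ * ρ u = 1 := by rw [← map_mul, inv_mul_cancel, map_one]
    calc ρ u * P i = ρ u * P i * (ρ u⁻¹ * ρ u) := by rw [h6, mul_one]
      _ = (ρ u * P i * ρ u⁻¹) * ρ u := by simp only [mul_assoc]
      _ = P i * ρ u := by rw [h5]
  · rw [hsum]
    -- `∑_{ψ ≠ 1} P ψ = ∑_ψ P ψ - P 1`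
    have h1 : ∑ i ∈ S, P i = ∑ i : D, P i - P one := by
      have : S = Finset.univ.erase one := by
        ext ψ
        simp [S]
      rw [this, Finset.sum_erase_eq_sub (Finset.mem_univ one)]
    rw [h1]
    have hab : ∀ a b : Z, a * b * a⁻¹ * b⁻¹ ∈ N.subgroupOf Z := by
      intro a b
      rw [Subgroup.mem_subgroupOf]
      apply hcomm
      have : ((a * b * a⁻¹ * b⁻¹ : Z) : A) = ⁅(a : A), (b : A)⁆ := by
        rw [commutatorElement_def]
        simp
      rw [this]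
      exact Subgroup.commutator_mem_commutator a.2 (hZU b.2)
    have instN' : Fintype (N.subgroupOf Z) := Fintype.ofFinite _
    have hG : (Nat.card Z : K) ≠ 0 := hZ0
    have h2 := sum_proj (K := K) hG (N.subgroupOf Z) hab σ
    have h3 : ∑ i : D, P i = avg K ρ N := by
      rw [h2]
      have instN : Fintype N := Fintype.ofFinite N
      rw [avg_eq, Nat.card_congr (Subgroup.subgroupOfEquivOfLe hNZ).toEquiv]
      congr 1
      refine Fintype.sum_equiv (Subgroup.subgroupOfEquivOfLe hNZ).toEquiv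
        (fun n => σ (n : Z)) (fun n => ρ n) (fun n => ?_)
      rfl
    have h4 : P one = avg K ρ Z := by
      show proj σ (1 : Z →* Kˣ) = _
      rw [proj_one, avg_eq]
      rfl
    rw [h3, h4]

end LayerMain

section Assembly

variable {K : Type*} [Field K] [IsAlgClosed K] {R : Type*} [Ring R] [Algebra K R]
variable {A : Type*} [Group A] [Finite A] (ρ : A →* R)

omit [IsAlgClosed K] [Algebra K R] [Finite A] in
/-- conjugates of an idempotent with pairwise orthogonal conjugates are absorbed by their sum -/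
theorem conj_mul_total (E : Subgroup A) [Fintype E] {ε f : R} (hε : ε * ε = ε)
    (horth : ∀ e ∈ E, ∀ e' ∈ E, e ≠ e' → (ρ e * ε * ρ e⁻¹) * (ρ e' * ε * ρ e'⁻¹) = 0)
    (hsum : ∑ e : E, ρ (e : A) * ε * ρ (e : A)⁻¹ = f) {e : A} (he : e ∈ E) :
    (ρ e * ε * ρ e⁻¹) * f = ρ e * ε * ρ e⁻¹ ∧ f * (ρ e * ε * ρ e⁻¹) = ρ e * ε * ρ e⁻¹ := by
  have h1 : ρ e⁻¹ * ρ e = 1 := by rw [← map_mul, inv_mul_cancel, map_one]
  have hidem : (ρ e * ε * ρ e⁻¹) * (ρ e * ε * ρ e⁻¹) = ρ e * ε * ρ e⁻¹ := by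
    calc (ρ e * ε * ρ e⁻¹) * (ρ e * ε * ρ e⁻¹) = ρ e * ε * (ρ e⁻¹ * ρ e) * ε * ρ e⁻¹ := by
          simp only [mul_assoc]
      _ = ρ e * (ε * ε) * ρ e⁻¹ := by rw [h1, mul_one]; simp only [mul_assoc]
      _ = ρ e * ε * ρ e⁻¹ := by rw [hε]
  constructor
  · rw [← hsum, Finset.mul_sum, Finset.sum_eq_single (⟨e, he⟩ : E)]
    · exact hidem
    · intro b _ hb
      exact horth e he b b.2 (fun h => hb (Subtype.ext h.symm))
    · intro h; exact absurd (Finset.mem_univ _) h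
  · rw [← hsum, Finset.sum_mul, Finset.sum_eq_single (⟨e, he⟩ : E)]
    · exact hidem
    · intro b _ hb
      exact horth b b.2 e he (fun h => hb (Subtype.ext h))
    · intro h; exact absurd (Finset.mem_univ _) h

/-- The invariant carried along the lower central series. -/
def Good (K : Type*) [Field K] {R : Type*} [Ring R] [Algebra K R] {A : Type*} [Group A]
    (ρ : A →* R) (U E : Subgroup A) [Fintype E] (M : Subgroup A) : Prop :=
  ∃ ε : R, ε * ε = ε ∧ (∀ u ∈ U, ρ u * ε = ε * ρ u) ∧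
    (∀ e ∈ E, ∀ e' ∈ E, e ≠ e' → (ρ e * ε * ρ e⁻¹) * (ρ e' * ε * ρ e'⁻¹) = 0) ∧
    ∑ e : E, ρ (e : A) * ε * ρ (e : A)⁻¹ = avg K ρ M - avg K ρ U

theorem good_step (U E M N : Subgroup A) [U.Normal] [M.Normal] [N.Normal] [Fintype E]
    (hNM : N ≤ M) (hMU : M ≤ U) (hcomm : ⁅M, U⁆ ≤ N) (hU : (Nat.card U : K) ≠ 0)
    (hfpf : ∀ e ∈ E, e ≠ 1 → ∀ u ∈ U, e * u = u * e → u = 1)
    (hM : Good K ρ U E M) : Good K ρ U E N := by
  obtain ⟨ε, hε, hεU, hεorth, hεsum⟩ := hM
  obtain ⟨δ, hδ, hδU, hδorth, hδsum⟩ := layer (K := K) ρ U E M N hNM hMU hcomm hU hfpf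
  have hM0 : (Nat.card M : K) ≠ 0 := by
    intro h0
    apply hU
    obtain ⟨c, hc⟩ := Subgroup.card_dvd_of_le hMU
    rw [hc, Nat.cast_mul, h0, zero_mul]
  have hN0 : (Nat.card N : K) ≠ 0 := by
    intro h0
    apply hM0
    obtain ⟨c, hc⟩ := Subgroup.card_dvd_of_le hNM
    rw [hc, Nat.cast_mul, h0, zero_mul]
  set f : R := avg K ρ M - avg K ρ U with hf
  set g : R := avg K ρ N - avg K ρ M with hg
  have hfg : f * g = 0 := by
    rw [hf, hg, sub_mul, mul_sub, mul_sub, avg_mul_avg_of_le' ρ hNM hN0, avg_idem ρ hM0,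
      avg_mul_avg_of_le' ρ (hNM.trans hMU) hN0, avg_mul_avg_of_le' ρ hMU hM0]
    simp
  have hgf : g * f = 0 := by
    rw [hf, hg, sub_mul, mul_sub, mul_sub, avg_mul_avg_of_le ρ hNM hN0, avg_idem ρ hM0,
      avg_mul_avg_of_le ρ (hNM.trans hMU) hN0, avg_mul_avg_of_le ρ hMU hM0]
    simp
  have hcross1 : ∀ e ∈ E, ∀ e' ∈ E, (ρ e * ε * ρ e⁻¹) * (ρ e' * δ * ρ e'⁻¹) = 0 := by
    intro e he e' he'
    have h1 := (conj_mul_total ρ E hε hεorth hεsum he).1
    have h2 := (conj_mul_total ρ E hδ hδorth hδsum he').2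
    calc (ρ e * ε * ρ e⁻¹) * (ρ e' * δ * ρ e'⁻¹)
        = ((ρ e * ε * ρ e⁻¹) * f) * (g * (ρ e' * δ * ρ e'⁻¹)) := by rw [h1, h2]
      _ = (ρ e * ε * ρ e⁻¹) * (f * g) * (ρ e' * δ * ρ e'⁻¹) := by simp only [mul_assoc]
      _ = 0 := by rw [hfg, mul_zero, zero_mul]
  have hcross2 : ∀ e ∈ E, ∀ e' ∈ E, (ρ e' * δ * ρ e'⁻¹) * (ρ e * ε * ρ e⁻¹) = 0 := by
    intro e he e' he'
    have h1 := (conj_mul_total ρ E hε hεorth hεsum he).2
    have h2 := (conj_mul_total ρ E hδ hδorth hδsum he').1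
    calc (ρ e' * δ * ρ e'⁻¹) * (ρ e * ε * ρ e⁻¹)
        = ((ρ e' * δ * ρ e'⁻¹) * g) * (f * (ρ e * ε * ρ e⁻¹)) := by rw [h1, h2]
      _ = (ρ e' * δ * ρ e'⁻¹) * (g * f) * (ρ e * ε * ρ e⁻¹) := by simp only [mul_assoc]
      _ = 0 := by rw [hgf, mul_zero, zero_mul]
  have hεδ : ε * δ = 0 := by
    have := hcross1 1 E.one_mem 1 E.one_mem
    simpa using this
  have hδε : δ * ε = 0 := by
    have := hcross2 1 E.one_mem 1 E.one_mem
    simpa using this
  have hsplit : ∀ a : A, ρ a * (ε + δ) * ρ a⁻¹ = ρ a * ε * ρ a⁻¹ + ρ a * δ * ρ a⁻¹ := by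
    intro a
    rw [mul_add, add_mul]
  refine ⟨ε + δ, ?_, ?_, ?_, ?_⟩
  · rw [add_mul, mul_add, mul_add, hε, hδ, hεδ, hδε]
    simp
  · intro u hu
    rw [mul_add, add_mul, hεU u hu, hδU u hu]
  · intro e he e' he' hne
    rw [hsplit, hsplit, add_mul, mul_add, mul_add, hεorth e he e' he' hne,
      hδorth e he e' he' hne, hcross1 e he e' he', hcross2 e' he' e he]
    simp
  · simp_rw [hsplit]
    rw [Finset.sum_add_distrib, hεsum, hδsum, hf, hg]
    abel

/-- **Free idempotent for a Frobenius action** (algebraic form).  `U ⊴ A` nilpotent of order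
invertible in the algebraically closed field `K`, `E ≤ A` acting fixed-point-freely on `U`.  For
any monoid homomorphism `ρ` from `A` to a `K`-algebra there is an idempotent `ε` commuting with
`ρ U`, whose `E`-conjugates are pairwise orthogonal and sum to `1 - avg U`. -/
theorem exists_free_idempotent (U E : Subgroup A) [U.Normal] [Fintype E]
    [hnil : Group.IsNilpotent U] (hU : (Nat.card U : K) ≠ 0)
    (hfpf : ∀ e ∈ E, e ≠ 1 → ∀ u ∈ U, e * u = u * e → u = 1) :
    ∃ ε : R, ε * ε = ε ∧ (∀ u ∈ U, ρ u * ε = ε * ρ u) ∧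
      (∀ e ∈ E, ∀ e' ∈ E, e ≠ e' → (ρ e * ε * ρ e⁻¹) * (ρ e' * ε * ρ e'⁻¹) = 0) ∧
      ∑ e : E, ρ (e : A) * ε * ρ (e : A)⁻¹ = 1 - avg K ρ U := by
  have hgood : ∀ n : ℕ, Good K ρ U E (U.lowerCentralSeries n) := by
    intro n
    induction n with
    | zero =>
      refine ⟨0, by simp, by simp, by simp, ?_⟩
      simp
    | succ n ih =>
      exact good_step ρ U E (U.lowerCentralSeries n) (U.lowerCentralSeries (n + 1))
        (U.lowerCentralSeries_antitone (Nat.le_succ n)) (U.lowerCentralSeries_le_self n)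
        (by rw [Subgroup.lowerCentralSeries_succ]) hU hfpf ih
  have hbot : U.lowerCentralSeries (Group.nilpotencyClass U) = ⊥ :=
    Subgroup.lowerCentralSeries_eq_bot_of_nilpotencyClass_le le_rfl
  have := hgood (Group.nilpotencyClass U)
  rw [hbot] at this
  obtain ⟨ε, h1, h2, h3, h4⟩ := this
  refine ⟨ε, h1, h2, h3, ?_⟩
  rw [h4, avg_bot]

end Assembly

end Cfsg.Agent.Helper62.FrobAct
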