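import Mathlib
import Cfsg.Agent.Helper62.FrobActCore

/-!
# Frobenius actions III: linear consequences over an algebraically closed field

* `rk`: rank of an endomorphism, with additivity on orthogonal idempotents.
* `frob_key`: the free idempotent together with the two rank identities.
* `frob_rank_formula_closed`: `dim V + |E| dim C_V(UE) = |E| dim C_V(E) + dim C_V(U)`.
* `frob_commute_closed`: if `dim C_V(E) ≤ 1` then `U` acts as an abelian group.
-/

set_option autoImplicit false
set_option linter.unusedSectionVars false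
set_option linter.unusedSimpArgs false
set_option linter.unusedVariables false
set_option linter.style.haveILetI false

namespace Cfsg.Agent.Helper62.FrobAct

open Finset
open scoped Classical

section Rank

variable {K : Type*} [Field K] {V : Type*} [AddCommGroup V] [Module K V] [FiniteDimensional K V]

/-- rank of an endomorphism -/
noncomputable def rk (p : Module.End K V) : ℕ := Module.finrank K (LinearMap.range p)

theorem rk_one : rk (1 : Module.End K V) = Module.finrank K V := by
  unfold rk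
  rw [Module.End.one_eq_id, LinearMap.range_id, finrank_top]

theorem rk_zero : rk (0 : Module.End K V) = 0 := by
  unfold rk
  rw [LinearMap.range_zero, finrank_bot]

theorem rk_mul_le_left (a p : Module.End K V) : rk (a * p) ≤ rk p := by
  unfold rk
  rw [Module.End.mul_eq_comp, LinearMap.range_comp]
  exact Submodule.finrank_map_le a _

theorem rk_mul_le_right (p a : Module.End K V) : rk (p * a) ≤ rk p := by
  unfold rk
  rw [Module.End.mul_eq_comp]
  exact Submodule.finrank_mono (LinearMap.range_comp_le_range a p)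

theorem rk_smul_le (c : K) (p : Module.End K V) : rk (c • p) ≤ rk p := by
  have : c • p = (c • (1 : Module.End K V)) * p := by rw [smul_mul_assoc, one_mul]
  rw [this]
  exact rk_mul_le_left _ _

theorem rk_add_of_orth {p q : Module.End K V} (hp : p * p = p) (hq : q * q = q)
    (hpq : p * q = 0) (hqp : q * p = 0) : rk (p + q) = rk p + rk q := by
  unfold rk
  have h1 : LinearMap.range (p + q) = LinearMap.range p ⊔ LinearMap.range q := by
    apply le_antisymm
    · rintro _ ⟨v, rfl⟩
      rw [LinearMap.add_apply]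
      exact Submodule.add_mem_sup ⟨v, rfl⟩ ⟨v, rfl⟩
    · rw [sup_le_iff]
      constructor
      · rintro _ ⟨v, rfl⟩
        refine ⟨p v, ?_⟩
        rw [LinearMap.add_apply]
        have h2 : p (p v) = p v := by
          have := LinearMap.congr_fun hp v
          simpa [Module.End.mul_apply] using this
        have h3 : q (p v) = 0 := by
          have := LinearMap.congr_fun hqp v
          simpa [Module.End.mul_apply] using this
        rw [h2, h3, add_zero]
      · rintro _ ⟨v, rfl⟩
        refine ⟨q v, ?_⟩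
        rw [LinearMap.add_apply]
        have h2 : q (q v) = q v := by
          have := LinearMap.congr_fun hq v
          simpa [Module.End.mul_apply] using this
        have h3 : p (q v) = 0 := by
          have := LinearMap.congr_fun hpq v
          simpa [Module.End.mul_apply] using this
        rw [h2, h3, zero_add]
  have h2 : LinearMap.range p ⊓ LinearMap.range q = ⊥ := by
    rw [eq_bot_iff]
    rintro x ⟨⟨v, rfl⟩, ⟨w, hw⟩⟩
    rw [Submodule.mem_bot]
    have h3 : p (p v) = p v := by
      have := LinearMap.congr_fun hp v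
      simpa [Module.End.mul_apply] using this
    have h4 : p (q w) = 0 := by
      have := LinearMap.congr_fun hpq w
      simpa [Module.End.mul_apply] using this
    rw [← h3, ← hw, h4]
  have := Submodule.finrank_sup_add_finrank_inf_eq (LinearMap.range p) (LinearMap.range q)
  rw [h2, finrank_bot, add_zero] at this
  rw [h1, this]

theorem rk_sum_of_orth {ι : Type*} (s : Finset ι) (p : ι → Module.End K V)
    (hp : ∀ i ∈ s, p i * p i = p i) (horth : ∀ i ∈ s, ∀ j ∈ s, i ≠ j → p i * p j = 0) :
    rk (∑ i ∈ s, p i) = ∑ i ∈ s, rk (p i) := by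
  induction s using Finset.induction_on with
  | empty => simp [rk_zero]
  | insert a s ha ih =>
    rw [Finset.sum_insert ha, Finset.sum_insert ha]
    have hp' : ∀ i ∈ s, p i * p i = p i := fun i hi => hp i (Finset.mem_insert_of_mem hi)
    have horth' : ∀ i ∈ s, ∀ j ∈ s, i ≠ j → p i * p j = 0 := fun i hi j hj hij =>
      horth i (Finset.mem_insert_of_mem hi) j (Finset.mem_insert_of_mem hj) hij
    rw [← ih hp' horth']
    apply rk_add_of_orth (hp a (Finset.mem_insert_self a s))
    · rw [Finset.sum_mul_sum]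
      refine Finset.sum_congr rfl (fun i hi => ?_)
      rw [Finset.sum_eq_single i]
      · exact hp' i hi
      · intro j hj hji
        exact horth' i hi j hj (Ne.symm hji)
      · intro h; exact absurd hi h
    · rw [Finset.mul_sum]
      apply Finset.sum_eq_zero
      intro i hi
      exact horth a (Finset.mem_insert_self a s) i (Finset.mem_insert_of_mem hi)
        (fun h => ha (h ▸ hi))
    · rw [Finset.sum_mul]
      apply Finset.sum_eq_zero
      intro i hi
      exact horth i (Finset.mem_insert_of_mem hi) a (Finset.mem_insert_self a s)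
        (fun h => ha (h ▸ hi))

theorem rk_conj {a b : Module.End K V} (hab : a * b = 1) (hba : b * a = 1) (p : Module.End K V) :
    rk (a * p * b) = rk p := by
  apply le_antisymm
  · exact (rk_mul_le_right _ _).trans (rk_mul_le_left _ _)
  · have : p = b * (a * p * b) * a := by
      calc p = (b * a) * p * (b * a) := by rw [hba, one_mul, mul_one]
        _ = b * (a * p * b) * a := by simp only [mul_assoc]
    conv_lhs => rw [this]
    exact (rk_mul_le_right _ _).trans (rk_mul_le_left _ _)

/-- an idempotent of rank at most one: operators commuting with it commute on its range -/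
theorem mul_mul_eq_of_rk_le_one {p a b : Module.End K V} (hp : p * p = p) (hrk : rk p ≤ 1)
    (ha : a * p = p * a) (hb : b * p = p * b) : a * b * p = b * a * p := by
  unfold rk at hrk
  rw [finrank_le_one_iff] at hrk
  obtain ⟨w, hw⟩ := hrk
  have hpw : p (w : V) = w := by
    obtain ⟨v, hv⟩ := w.2
    rw [← hv]
    have := LinearMap.congr_fun hp v
    simpa [Module.End.mul_apply] using this
  have hmem : ∀ x : Module.End K V, x * p = p * x → ∃ c : K, x (w : V) = c • (w : V) := by
    intro x hx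
    have h1 : x (w : V) ∈ LinearMap.range p := by
      refine ⟨x w, ?_⟩
      have := LinearMap.congr_fun hx (w : V)
      simp only [Module.End.mul_apply] at this
      rw [← this, hpw]
    obtain ⟨c, hc⟩ := hw ⟨x w, h1⟩
    exact ⟨c, (congrArg Subtype.val hc).symm⟩
  obtain ⟨α, hα⟩ := hmem a ha
  obtain ⟨β, hβ⟩ := hmem b hb
  ext v
  obtain ⟨c, hc⟩ := hw ⟨p v, ⟨v, rfl⟩⟩
  have hpv : p v = c • (w : V) := (congrArg Subtype.val hc).symm
  simp only [Module.End.mul_apply]
  rw [hpv, map_smul, map_smul, map_smul, map_smul, hα, hβ, map_smul, map_smul, hα, hβ]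
  simp only [smul_smul]
  congr 1
  ring

end Rank

section Linear

variable {K : Type*} [Field K] [IsAlgClosed K] {V : Type*} [AddCommGroup V] [Module K V]
  [FiniteDimensional K V]
variable {A : Type*} [Group A] [Finite A] (ρ : A →* Module.End K V)

/-- **Structure of a Frobenius action on a vector space** (algebraically closed field,
coprime characteristic): the free idempotent and the two rank identities. -/
theorem frob_key (U E : Subgroup A) [U.Normal] [Group.IsNilpotent U]
    (hU : (Nat.card U : K) ≠ 0) (hE : (Nat.card E : K) ≠ 0)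
    (hfpf : ∀ e ∈ E, e ≠ 1 → ∀ u ∈ U, e * u = u * e → u = 1) [Fintype E] :
    ∃ ε : Module.End K V, ε * ε = ε ∧ (∀ u ∈ U, ρ u * ε = ε * ρ u) ∧
      (∀ e ∈ E, ∀ e' ∈ E, e ≠ e' → (ρ e * ε * ρ e⁻¹) * (ρ e' * ε * ρ e'⁻¹) = 0) ∧
      ∑ e : E, ρ (e : A) * ε * ρ (e : A)⁻¹ = 1 - avg K ρ U ∧
      Module.finrank K V = rk (avg K ρ U) + Nat.card E * rk ε ∧
      rk (avg K ρ E) = rk (avg K ρ E * avg K ρ U) + rk ε := by
  obtain ⟨ε, hε, hεU, horth, hsum⟩ := exists_free_idempotent (K := K) ρ U E hU hfpf
  refine ⟨ε, hε, hεU, horth, hsum, ?_, ?_⟩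
  all_goals
    set πU := avg K ρ U with hπU_def
    set πE := avg K ρ E with hπE_def
    have hπU : πU * πU = πU := avg_idem ρ hU
    have hπE : πE * πE = πE := avg_idem ρ hE
    have hinv : ∀ a : A, ρ a * ρ a⁻¹ = 1 ∧ ρ a⁻¹ * ρ a = 1 := fun a => by
      constructor
      · rw [← map_mul, mul_inv_cancel, map_one]
      · rw [← map_mul, inv_mul_cancel, map_one]
    have hq : (1 - πU) * (1 - πU) = 1 - πU := by
      rw [sub_mul, mul_sub, mul_sub, hπU]; simp
    have hpq : πU * (1 - πU) = 0 := by rw [mul_sub, hπU]; simp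
    have hqp : (1 - πU) * πU = 0 := by rw [sub_mul, hπU]; simp
    have hxidem : ∀ e : A, (ρ e * ε * ρ e⁻¹) * (ρ e * ε * ρ e⁻¹) = ρ e * ε * ρ e⁻¹ := by
      intro e
      calc (ρ e * ε * ρ e⁻¹) * (ρ e * ε * ρ e⁻¹) = ρ e * ε * (ρ e⁻¹ * ρ e) * ε * ρ e⁻¹ := by
            simp only [mul_assoc]
        _ = ρ e * (ε * ε) * ρ e⁻¹ := by rw [(hinv e).2, mul_one]; simp only [mul_assoc]
        _ = ρ e * ε * ρ e⁻¹ := by rw [hε]
    have hrkx : ∀ e : A, rk (ρ e * ε * ρ e⁻¹) = rk ε := fun e =>
      rk_conj (hinv e).1 (hinv e).2 ε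
  · -- dimension count
    have h1 : Module.finrank K V = rk πU + rk (1 - πU) := by
      rw [← rk_add_of_orth hπU hq hpq hqp, add_sub_cancel, rk_one]
    have h2 : rk (1 - πU) = Nat.card E * rk ε := by
      rw [← hsum, rk_sum_of_orth Finset.univ (fun e : E => ρ (e : A) * ε * ρ (e : A)⁻¹)
        (fun e _ => hxidem e) (fun e _ e' _ hne => horth e e.2 e' e'.2
          (fun h => hne (Subtype.ext h)))]
      simp only [hrkx, Finset.sum_const, Finset.card_univ, smul_eq_mul, Nat.card_eq_fintype_card]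
    rw [h1, h2]
  · -- fixed points of `E`
    have hcomm : πE * πU = πU * πE := by
      rw [hπE_def, avg_eq, smul_mul_assoc, mul_smul_comm, Finset.sum_mul, Finset.mul_sum]
      congr 1
      refine Finset.sum_congr rfl (fun e _ => ?_)
      exact commute_avg ρ U e
    have hεf := conj_mul_total ρ E hε horth hsum E.one_mem
    simp only [map_one, inv_one, one_mul, mul_one] at hεf
    obtain ⟨hεf1, hεf2⟩ := hεf
    set g := πE * (1 - πU) with hg
    have hg' : g = (1 - πU) * πE := by
      rw [hg, mul_sub, sub_mul, hcomm]; simp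
    have hp : (πE * πU) * (πE * πU) = πE * πU := by
      calc (πE * πU) * (πE * πU) = πE * (πU * πE) * πU := by simp only [mul_assoc]
        _ = πE * (πE * πU) * πU := by rw [hcomm]
        _ = (πE * πE) * (πU * πU) := by simp only [mul_assoc]
        _ = πE * πU := by rw [hπE, hπU]
    have hgg : g * g = g := by
      calc g * g = πE * ((1 - πU) * πE) * (1 - πU) := by rw [hg]; simp only [mul_assoc]
        _ = πE * (πE * (1 - πU)) * (1 - πU) := by rw [← hg', hg]
        _ = (πE * πE) * ((1 - πU) * (1 - πU)) := by simp only [mul_assoc]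
        _ = g := by rw [hπE, hq]
    have hpg : (πE * πU) * g = 0 := by
      calc (πE * πU) * g = πE * (πU * πE) * (1 - πU) := by rw [hg]; simp only [mul_assoc]
        _ = πE * (πE * πU) * (1 - πU) := by rw [hcomm]
        _ = πE * πE * (πU * (1 - πU)) := by simp only [mul_assoc]
        _ = 0 := by rw [hpq, mul_zero]
    have hgp : g * (πE * πU) = 0 := by
      calc g * (πE * πU) = πE * ((1 - πU) * πE) * πU := by rw [hg]; simp only [mul_assoc]
        _ = πE * (πE * (1 - πU)) * πU := by rw [← hg', hg]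
        _ = πE * πE * ((1 - πU) * πU) := by simp only [mul_assoc]
        _ = 0 := by rw [hqp, mul_zero]
    have hsplit : πE = πE * πU + g := by
      rw [hg, ← mul_add, add_sub_cancel, mul_one]
    have h1 : rk πE = rk (πE * πU) + rk g := by
      conv_lhs => rw [hsplit]
      exact rk_add_of_orth hp hgg hpg hgp
    -- `rk g = rk ε`
    have hc1 : ∑ e : E, ε * ρ (e : A) * ε = ε := by
      rw [Finset.sum_eq_single (⟨1, E.one_mem⟩ : E)]
      · simp [hε]
      · intro e _ he
        have h2 : ε * ρ (e : A) * ε = (ε * (ρ (e : A) * ε * ρ (e : A)⁻¹)) * ρ (e : A) := by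
          calc ε * ρ (e : A) * ε = ε * ρ (e : A) * ε * (ρ (e : A)⁻¹ * ρ (e : A)) := by
                rw [(hinv _).2, mul_one]
            _ = (ε * (ρ (e : A) * ε * ρ (e : A)⁻¹)) * ρ (e : A) := by simp only [mul_assoc]
        have h3 := horth 1 E.one_mem e e.2 (fun h => he (Subtype.ext h.symm))
        simp only [map_one, inv_one, one_mul, mul_one] at h3
        rw [h2, h3, zero_mul]
      · intro h; exact absurd (Finset.mem_univ _) h
    have hc1' : ε * πE * ε = ((Nat.card E : K))⁻¹ • ε := by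
      rw [hπE_def, avg_eq, mul_smul_comm, smul_mul_assoc, Finset.mul_sum, Finset.sum_mul, hc1]
    have hc2 : ∑ e : E, ρ (e : A) * ε * πE = (1 - πU) * πE := by
      rw [← hsum, Finset.sum_mul]
      refine Finset.sum_congr rfl (fun e _ => ?_)
      have : ρ (e : A)⁻¹ * πE = πE := mul_avg ρ E (E.inv_mem e.2)
      rw [mul_assoc (ρ (e : A) * ε) (ρ (e : A)⁻¹) πE, this]
    have hc2' : πE * ε * πE = ((Nat.card E : K))⁻¹ • g := by
      rw [hg']
      have hπE_sum : πE = ((Nat.card E : K))⁻¹ • ∑ e : E, ρ (e : A) := by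
        rw [hπE_def, avg_eq]
      calc πE * ε * πE = (((Nat.card E : K))⁻¹ • ∑ e : E, ρ (e : A)) * ε * πE := by
            rw [← hπE_sum]
        _ = ((Nat.card E : K))⁻¹ • ∑ e : E, ρ (e : A) * ε * πE := by
            rw [smul_mul_assoc, smul_mul_assoc, Finset.sum_mul, Finset.sum_mul]
        _ = ((Nat.card E : K))⁻¹ • ((1 - πU) * πE) := by rw [hc2]
    have h2 : rk ε ≤ rk g := by
      have : ε = ((Nat.card E : K) • ε) * g * ε := by
        have h3 : g * ε = πE * ε := by rw [hg, mul_assoc, hεf2]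
        rw [smul_mul_assoc, smul_mul_assoc, mul_assoc, h3, ← mul_assoc, hc1', smul_smul,
          mul_inv_cancel₀ hE, one_smul]
      calc rk ε = rk (((Nat.card E : K) • ε) * g * ε) := by rw [← this]
        _ ≤ rk (((Nat.card E : K) • ε) * g) := rk_mul_le_right _ _
        _ ≤ rk g := rk_mul_le_left _ _
    have h3 : rk g ≤ rk ε := by
      have : g = ((Nat.card E : K) • πE) * ε * πE := by
        rw [smul_mul_assoc, smul_mul_assoc, hc2', smul_smul, mul_inv_cancel₀ hE, one_smul]
      calc rk g = rk (((Nat.card E : K) • πE) * ε * πE) := by rw [← this]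
        _ ≤ rk (((Nat.card E : K) • πE) * ε) := rk_mul_le_right _ _
        _ ≤ rk ε := rk_mul_le_left _ _
    rw [h1, le_antisymm h3 h2]

end Linear

section Linear2

variable {K : Type*} [Field K] [IsAlgClosed K] {V : Type*} [AddCommGroup V] [Module K V]
  [FiniteDimensional K V]
variable {A : Type*} [Group A] [Finite A] (ρ : A →* Module.End K V)

/-- **Wielandt-type rank formula for a Frobenius action** (algebraically closed field). -/
theorem frob_rank_formula_closed (U E : Subgroup A) [U.Normal] [Group.IsNilpotent U]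
    (hU : (Nat.card U : K) ≠ 0) (hE : (Nat.card E : K) ≠ 0)
    (hfpf : ∀ e ∈ E, e ≠ 1 → ∀ u ∈ U, e * u = u * e → u = 1) :
    Module.finrank K V + Nat.card E * rk (avg K ρ E * avg K ρ U) =
      Nat.card E * rk (avg K ρ E) + rk (avg K ρ U) := by
  have := Fintype.ofFinite E
  obtain ⟨ε, -, -, -, -, h1, h2⟩ := frob_key ρ U E hU hE hfpf
  rw [h1, h2]
  ring

/-- If `E` has at most one-dimensional fixed space then the kernel `U` acts as an abelian group
(algebraically closed field). -/
theorem frob_commute_closed (U E : Subgroup A) [U.Normal] [Group.IsNilpotent U]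
    (hU : (Nat.card U : K) ≠ 0) (hE : (Nat.card E : K) ≠ 0)
    (hfpf : ∀ e ∈ E, e ≠ 1 → ∀ u ∈ U, e * u = u * e → u = 1)
    (hrk : rk (avg K ρ E) ≤ 1) {u₁ u₂ : A} (hu₁ : u₁ ∈ U) (hu₂ : u₂ ∈ U) :
    ρ u₁ * ρ u₂ = ρ u₂ * ρ u₁ := by
  have := Fintype.ofFinite E
  obtain ⟨ε, hε, hεU, horth, hsum, -, h2⟩ := frob_key ρ U E hU hE hfpf
  have hrkε : rk ε ≤ 1 := by omega
  have hinv : ∀ a : A, ρ a * ρ a⁻¹ = 1 ∧ ρ a⁻¹ * ρ a = 1 := fun a => by
    constructor
    · rw [← map_mul, mul_inv_cancel, map_one]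
    · rw [← map_mul, inv_mul_cancel, map_one]
  have hxidem : ∀ e : A, (ρ e * ε * ρ e⁻¹) * (ρ e * ε * ρ e⁻¹) = ρ e * ε * ρ e⁻¹ := by
    intro e
    calc (ρ e * ε * ρ e⁻¹) * (ρ e * ε * ρ e⁻¹) = ρ e * ε * (ρ e⁻¹ * ρ e) * ε * ρ e⁻¹ := by
          simp only [mul_assoc]
      _ = ρ e * (ε * ε) * ρ e⁻¹ := by rw [(hinv e).2, mul_one]; simp only [mul_assoc]
      _ = ρ e * ε * ρ e⁻¹ := by rw [hε]
  have hrkx : ∀ e : A, rk (ρ e * ε * ρ e⁻¹) ≤ 1 := fun e => by
    rw [rk_conj (hinv e).1 (hinv e).2 ε]; exact hrkε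
  have hxU : ∀ e : A, ∀ u ∈ U, ρ u * (ρ e * ε * ρ e⁻¹) = (ρ e * ε * ρ e⁻¹) * ρ u := by
    intro e u hu
    have hu' : e⁻¹ * u * e ∈ U := by
      have := ‹U.Normal›.conj_mem u hu e⁻¹
      rwa [inv_inv] at this
    have h1 : ρ u * ρ e = ρ e * ρ (e⁻¹ * u * e) := by
      rw [← map_mul, ← map_mul]; congr 1; group
    have h2 : ρ (e⁻¹ * u * e) * ρ e⁻¹ = ρ e⁻¹ * ρ u := by
      rw [← map_mul, ← map_mul]; congr 1; group
    calc ρ u * (ρ e * ε * ρ e⁻¹) = (ρ u * ρ e) * ε * ρ e⁻¹ := by simp only [mul_assoc]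
      _ = ρ e * (ρ (e⁻¹ * u * e) * ε) * ρ e⁻¹ := by rw [h1]; simp only [mul_assoc]
      _ = ρ e * (ε * ρ (e⁻¹ * u * e)) * ρ e⁻¹ := by rw [hεU _ hu']
      _ = ρ e * ε * (ρ (e⁻¹ * u * e) * ρ e⁻¹) := by simp only [mul_assoc]
      _ = (ρ e * ε * ρ e⁻¹) * ρ u := by rw [h2]; simp only [mul_assoc]
  have hone : (1 : Module.End K V) = avg K ρ U + ∑ e : E, ρ (e : A) * ε * ρ (e : A)⁻¹ := by
    rw [hsum]; abel
  have hU1 : ∀ u ∈ U, ρ u * avg K ρ U = avg K ρ U := fun u hu => mul_avg ρ U hu
  calc ρ u₁ * ρ u₂ = ρ u₁ * ρ u₂ * 1 := by rw [mul_one]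
    _ = ρ u₁ * ρ u₂ * avg K ρ U + ∑ e : E, ρ u₁ * ρ u₂ * (ρ (e : A) * ε * ρ (e : A)⁻¹) := by
        rw [hone, mul_add, Finset.mul_sum]
    _ = ρ u₂ * ρ u₁ * avg K ρ U + ∑ e : E, ρ u₂ * ρ u₁ * (ρ (e : A) * ε * ρ (e : A)⁻¹) := by
        congr 1
        · rw [mul_assoc, hU1 u₂ hu₂, hU1 u₁ hu₁, mul_assoc, hU1 u₁ hu₁, hU1 u₂ hu₂]
        · refine Finset.sum_congr rfl (fun e _ => ?_)
          exact mul_mul_eq_of_rk_le_one (hxidem e) (hrkx e) (hxU e u₁ hu₁) (hxU e u₂ hu₂)
    _ = ρ u₂ * ρ u₁ * 1 := by rw [hone, mul_add, Finset.mul_sum]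
    _ = ρ u₂ * ρ u₁ := by rw [mul_one]

end Linear2

end Cfsg.Agent.Helper62.FrobAct
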