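import Mathlib
import Cfsg.Agent.Helper62.FrobActLin

/-!
# Frobenius actions IV: descent to arbitrary fields of coprime characteristic

Base change to the algebraic closure preserves the rank of idempotents and is injective on
endomorphisms, so the results of `FrobActLin` hold over any field in which `|U|`, `|E|` are
invertible:

* `frob_rank_formula`: `dim V + |E| rk(π_E π_U) = |E| rk π_E + rk π_U`.
* `frob_commute`: if `rk π_E ≤ 1` then `ρ(U)` is commutative.
-/

set_option autoImplicit false
set_option linter.unusedSectionVars false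
set_option linter.unusedSimpArgs false
set_option linter.unusedVariables false
set_option linter.style.haveILetI false

namespace Cfsg.Agent.Helper62.FrobAct

open Finset TensorProduct
open scoped Classical

section Descent

variable {F : Type*} [Field F] {V : Type*} [AddCommGroup V] [Module F V] [FiniteDimensional F V]
variable (K : Type*) [Field K] [Algebra F K]

theorem rk_baseChange_le (x : Module.End F V) :
    rk (Module.End.baseChangeHom F K V x) ≤ rk x := by
  unfold rk
  have h1 : x = (LinearMap.range x).subtype ∘ₗ x.rangeRestrict := by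
    ext v; rfl
  have h2 : Module.End.baseChangeHom F K V x =
      ((LinearMap.range x).subtype.baseChange K) ∘ₗ (x.rangeRestrict.baseChange K) := by
    rw [← LinearMap.baseChange_comp, ← h1]
    rfl
  rw [h2]
  calc Module.finrank K (LinearMap.range
        (((LinearMap.range x).subtype.baseChange K) ∘ₗ (x.rangeRestrict.baseChange K)))
      ≤ Module.finrank K (LinearMap.range ((LinearMap.range x).subtype.baseChange K)) :=
        Submodule.finrank_mono (LinearMap.range_comp_le_range _ _)
    _ ≤ Module.finrank K (K ⊗[F] (LinearMap.range x)) := LinearMap.finrank_range_le _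
    _ = Module.finrank F (LinearMap.range x) := Module.finrank_baseChange

theorem rk_baseChange_of_idem {x : Module.End F V} (hx : x * x = x) :
    rk (Module.End.baseChangeHom F K V x) = rk x := by
  have h1 := rk_baseChange_le K x
  have h2 := rk_baseChange_le K (1 - x)
  have hq : (1 - x) * (1 - x) = 1 - x := by rw [sub_mul, mul_sub, mul_sub, hx]; simp
  have hpq : x * (1 - x) = 0 := by rw [mul_sub, hx]; simp
  have hqp : (1 - x) * x = 0 := by rw [sub_mul, hx]; simp
  have h3 : rk x + rk (1 - x) = Module.finrank F V := by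
    rw [← rk_add_of_orth hx hq hpq hqp, add_sub_cancel, rk_one]
  set β := Module.End.baseChangeHom F K V with hβ
  have h4 : rk (β x) + rk (β (1 - x)) = Module.finrank K (K ⊗[F] V) := by
    rw [← rk_add_of_orth (p := β x) (q := β (1 - x))]
    · rw [← map_add, add_sub_cancel, map_one, rk_one]
    · rw [← map_mul, hx]
    · rw [← map_mul, hq]
    · rw [← map_mul, hpq, map_zero]
    · rw [← map_mul, hqp, map_zero]
  have h5 : Module.finrank K (K ⊗[F] V) = Module.finrank F V := Module.finrank_baseChange
  omega

theorem baseChangeHom_injective :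
    Function.Injective (Module.End.baseChangeHom F K V) :=
  LinearMap.baseChangeHom_injective F V K

variable {A : Type*} [Group A] (ρ : A →* Module.End F V)

/-- the base-changed representation -/
noncomputable def baseRep : A →* Module.End K (K ⊗[F] V) :=
  ((Module.End.baseChangeHom F K V : Module.End F V →* Module.End K (K ⊗[F] V))).comp ρ

theorem baseRep_apply (a : A) : baseRep K ρ a = Module.End.baseChangeHom F K V (ρ a) := rfl

theorem avg_baseRep (N : Subgroup A) [Finite N] :
    avg K (baseRep K ρ) N = Module.End.baseChangeHom F K V (avg F ρ N) := by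
  have := Fintype.ofFinite N
  rw [avg_eq, avg_eq, map_smul, map_sum]
  simp only [baseRep_apply]
  rw [← algebraMap_smul K ((Nat.card N : F))⁻¹, map_inv₀, map_natCast]

end Descent

section Field

variable {F : Type*} [Field F] {V : Type*} [AddCommGroup V] [Module F V] [FiniteDimensional F V]
variable {A : Type*} [Group A] [Finite A] (ρ : A →* Module.End F V)

omit [FiniteDimensional F V] [Finite A] in
theorem avg_comm_of_normal (U E : Subgroup A) [U.Normal] [Finite U] [Finite E] :
    avg F ρ E * avg F ρ U = avg F ρ U * avg F ρ E := by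
  have := Fintype.ofFinite E
  rw [avg_eq F ρ E, smul_mul_assoc, mul_smul_comm, Finset.sum_mul, Finset.mul_sum]
  congr 1
  refine Finset.sum_congr rfl (fun e _ => ?_)
  exact commute_avg ρ U e

omit [FiniteDimensional F V] [Finite A] in
theorem avg_mul_avg_idem (U E : Subgroup A) [U.Normal] [Finite U] [Finite E]
    (hU : (Nat.card U : F) ≠ 0) (hE : (Nat.card E : F) ≠ 0) :
    (avg F ρ E * avg F ρ U) * (avg F ρ E * avg F ρ U) = avg F ρ E * avg F ρ U := by
  have hcomm := avg_comm_of_normal ρ U E
  calc (avg F ρ E * avg F ρ U) * (avg F ρ E * avg F ρ U)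
      = avg F ρ E * (avg F ρ U * avg F ρ E) * avg F ρ U := by simp only [mul_assoc]
    _ = avg F ρ E * (avg F ρ E * avg F ρ U) * avg F ρ U := by rw [hcomm]
    _ = (avg F ρ E * avg F ρ E) * (avg F ρ U * avg F ρ U) := by simp only [mul_assoc]
    _ = avg F ρ E * avg F ρ U := by rw [avg_idem ρ hE, avg_idem ρ hU]

theorem frob_rank_formula_aux (K : Type*) [Field K] [Algebra F K] [IsAlgClosed K]
    (U E : Subgroup A) [U.Normal] [Group.IsNilpotent U]
    (hU : (Nat.card U : F) ≠ 0) (hE : (Nat.card E : F) ≠ 0)
    (hfpf : ∀ e ∈ E, e ≠ 1 → ∀ u ∈ U, e * u = u * e → u = 1) :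
    Module.finrank F V + Nat.card E * rk (avg F ρ E * avg F ρ U) =
      Nat.card E * rk (avg F ρ E) + rk (avg F ρ U) := by
  have hcast : ∀ n : ℕ, (n : F) ≠ 0 → (n : K) ≠ 0 := by
    intro n hn
    rw [← map_natCast (algebraMap F K)]
    exact (map_ne_zero (algebraMap F K)).mpr hn
  have h := frob_rank_formula_closed (baseRep K ρ) U E (hcast _ hU) (hcast _ hE) hfpf
  rw [avg_baseRep, avg_baseRep, ← map_mul, rk_baseChange_of_idem K (avg_idem ρ hE),
    rk_baseChange_of_idem K (avg_idem ρ hU),
    rk_baseChange_of_idem K (avg_mul_avg_idem ρ U E hU hE)] at h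
  rw [← h]
  congr 1
  exact Module.finrank_baseChange.symm

/-- **Wielandt-type rank formula for a Frobenius action** over an arbitrary field in which
`|U|` and `|E|` are invertible. -/
theorem frob_rank_formula (U E : Subgroup A) [U.Normal] [Group.IsNilpotent U]
    (hU : (Nat.card U : F) ≠ 0) (hE : (Nat.card E : F) ≠ 0)
    (hfpf : ∀ e ∈ E, e ≠ 1 → ∀ u ∈ U, e * u = u * e → u = 1) :
    Module.finrank F V + Nat.card E * rk (avg F ρ E * avg F ρ U) =
      Nat.card E * rk (avg F ρ E) + rk (avg F ρ U) :=
  frob_rank_formula_aux ρ (AlgebraicClosure F) U E hU hE hfpf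

theorem frob_commute_aux (K : Type*) [Field K] [Algebra F K] [IsAlgClosed K]
    (U E : Subgroup A) [U.Normal] [Group.IsNilpotent U]
    (hU : (Nat.card U : F) ≠ 0) (hE : (Nat.card E : F) ≠ 0)
    (hfpf : ∀ e ∈ E, e ≠ 1 → ∀ u ∈ U, e * u = u * e → u = 1)
    (hrk : rk (avg F ρ E) ≤ 1) {u₁ u₂ : A} (hu₁ : u₁ ∈ U) (hu₂ : u₂ ∈ U) :
    ρ u₁ * ρ u₂ = ρ u₂ * ρ u₁ := by
  have hcast : ∀ n : ℕ, (n : F) ≠ 0 → (n : K) ≠ 0 := by
    intro n hn
    rw [← map_natCast (algebraMap F K)]
    exact (map_ne_zero (algebraMap F K)).mpr hn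
  have hrk' : rk (avg K (baseRep K ρ) E) ≤ 1 := by
    rw [avg_baseRep, rk_baseChange_of_idem K (avg_idem ρ hE)]
    exact hrk
  have h := frob_commute_closed (baseRep K ρ) U E (hcast _ hU) (hcast _ hE) hfpf hrk' hu₁ hu₂
  apply baseChangeHom_injective (F := F) (V := V) K
  rw [map_mul, map_mul]
  exact h

/-- If `E` has at most one-dimensional fixed space then the kernel `U` acts as an abelian group
(arbitrary field of coprime characteristic). -/
theorem frob_commute (U E : Subgroup A) [U.Normal] [Group.IsNilpotent U]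
    (hU : (Nat.card U : F) ≠ 0) (hE : (Nat.card E : F) ≠ 0)
    (hfpf : ∀ e ∈ E, e ≠ 1 → ∀ u ∈ U, e * u = u * e → u = 1)
    (hrk : rk (avg F ρ E) ≤ 1) {u₁ u₂ : A} (hu₁ : u₁ ∈ U) (hu₂ : u₂ ∈ U) :
    ρ u₁ * ρ u₂ = ρ u₂ * ρ u₁ :=
  frob_commute_aux ρ (AlgebraicClosure F) U E hU hE hfpf hrk hu₁ hu₂

end Field

end Cfsg.Agent.Helper62.FrobAct
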