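import Mathlib
import Cfsg.Agent.Helper62.FrobActField

/-!
# Frobenius actions V: operators on finite abelian groups of coprime order

`A` finite group, `U ⊴ A` nilpotent, `E ≤ A` acting fixed-point-freely on `U`; `φ : A →* MulAut W`
with `W` finite abelian of order coprime to `|A|`.  For every `φ`-invariant subgroup `W₀`:

* `|C_{W₀}(UE)|^|E| |W₀| = |C_{W₀}(E)|^|E| |C_{W₀}(U)|`;
* if `C_{W₀}(E)` is cyclic then `U'` acts trivially on `W₀`.

(`abelian_main`; elementary abelian case `elemAb_main`.)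
-/

set_option autoImplicit false
set_option linter.unusedSectionVars false
set_option linter.style.haveILetI false

namespace Cfsg.Agent.Helper62.FrobAct

open Finset
open scoped Classical

section FixedRange

variable {F : Type*} [Field F] {V : Type*} [AddCommGroup V] [Module F V]
variable {A : Type*} [Group A] (ρ : A →* Module.End F V)

theorem mem_range_avg_iff (B : Subgroup A) [Finite B] (hB : (Nat.card B : F) ≠ 0) (v : V) :
    v ∈ LinearMap.range (avg F ρ B) ↔ ∀ b ∈ B, ρ b v = v := by
  constructor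
  · rintro ⟨w, rfl⟩ b hb
    have := LinearMap.congr_fun (mul_avg (K := F) ρ B hb) w
    simpa [Module.End.mul_apply] using this
  · intro h
    refine ⟨v, ?_⟩
    have := Fintype.ofFinite B
    rw [avg_eq, LinearMap.smul_apply, LinearMap.sum_apply]
    have h1 : ∀ b : B, ρ (b : A) v = v := fun b => h b b.2
    simp only [h1, Finset.sum_const, Finset.card_univ]
    rw [← Nat.card_eq_fintype_card, ← Nat.cast_smul_eq_nsmul F, smul_smul, inv_mul_cancel₀ hB,
      one_smul]

theorem mem_range_avg_mul_iff (U E : Subgroup A) [U.Normal] [Finite U] [Finite E]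
    (hU : (Nat.card U : F) ≠ 0) (hE : (Nat.card E : F) ≠ 0) (v : V) :
    v ∈ LinearMap.range (avg F ρ E * avg F ρ U) ↔
      (∀ e ∈ E, ρ e v = v) ∧ (∀ u ∈ U, ρ u v = v) := by
  rw [← mem_range_avg_iff ρ E hE, ← mem_range_avg_iff ρ U hU]
  constructor
  · rintro ⟨w, rfl⟩
    constructor
    · exact ⟨avg F ρ U w, rfl⟩
    · rw [avg_comm_of_normal]
      exact ⟨avg F ρ E w, rfl⟩
  · rintro ⟨⟨w, hw⟩, ⟨w', hw'⟩⟩
    refine ⟨v, ?_⟩
    rw [Module.End.mul_apply]
    have h1 : avg F ρ U v = v := by
      rw [← hw']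
      have := LinearMap.congr_fun (avg_idem (K := F) ρ hU) w'
      simpa [Module.End.mul_apply] using this
    have h2 : avg F ρ E v = v := by
      rw [← hw]
      have := LinearMap.congr_fun (avg_idem (K := F) ρ hE) w
      simpa [Module.End.mul_apply] using this
    rw [h1, h2]

end FixedRange

section ElemAb

variable {A : Type*} [Group A] {W : Type*} [CommGroup W]

/-- fixed points of a subgroup of operators -/
def fixOf (φ : A →* MulAut W) (B : Subgroup A) : Subgroup W where
  carrier := {w | ∀ b ∈ B, φ b w = w}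
  one_mem' := fun b _ => map_one _
  mul_mem' := fun {x y} hx hy b hb => by rw [map_mul, hx b hb, hy b hb]
  inv_mem' := fun {x} hx b hb => by rw [map_inv, hx b hb]

theorem mem_fixOf {φ : A →* MulAut W} {B : Subgroup A} {w : W} :
    w ∈ fixOf φ B ↔ ∀ b ∈ B, φ b w = w := Iff.rfl

variable [Finite A] [Finite W]

/-- **Elementary abelian case**: the fixed-point formula and the commutativity criterion for a
Frobenius group of operators on an invariant elementary abelian `ℓ`-subgroup `W₀`. -/
theorem elemAb_main {ℓ : ℕ} [hℓ : Fact ℓ.Prime] (φ : A →* MulAut W) (W₀ : Subgroup W)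
    (hinv : ∀ a : A, ∀ w ∈ W₀, φ a w ∈ W₀) (hexp : ∀ w ∈ W₀, w ^ ℓ = 1)
    (U E : Subgroup A) [U.Normal] [Group.IsNilpotent U]
    (hℓU : ¬ ℓ ∣ Nat.card U) (hℓE : ¬ ℓ ∣ Nat.card E)
    (hfpf : ∀ e ∈ E, e ≠ 1 → ∀ u ∈ U, e * u = u * e → u = 1) :
    (Nat.card ↥(W₀ ⊓ fixOf φ U ⊓ fixOf φ E) ^ Nat.card E * Nat.card W₀ =
      Nat.card ↥(W₀ ⊓ fixOf φ E) ^ Nat.card E * Nat.card ↥(W₀ ⊓ fixOf φ U)) ∧
    (Nat.card ↥(W₀ ⊓ fixOf φ E) ≤ ℓ →
      ∀ u₁ ∈ U, ∀ u₂ ∈ U, ∀ w ∈ W₀, φ (u₁ * u₂) w = φ (u₂ * u₁) w) := by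
  have hexp' : ∀ x : Additive W₀, ℓ • x = 0 := by
    intro x
    have h1 : (Additive.toMul x : W₀) ^ ℓ = 1 := by
      apply Subtype.ext
      rw [Subgroup.coe_pow]
      exact hexp _ (Additive.toMul x).2
    have : ℓ • x = Additive.ofMul ((Additive.toMul x : W₀) ^ ℓ) := rfl
    rw [this, h1]
    rfl
  letI : Module (ZMod ℓ) (Additive W₀) := AddCommGroup.zmodModule (n := ℓ) hexp'
  -- the restricted action
  let res : A → (W₀ →* W₀) := fun a =>
    ((φ a).toMonoidHom.comp W₀.subtype).codRestrict W₀ (fun w => hinv a w w.2)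
  have hres : ∀ (a : A) (w : W₀), ((res a w : W₀) : W) = φ a w := fun _ _ => rfl
  let ρ : A →* Module.End (ZMod ℓ) (Additive W₀) :=
    { toFun := fun a => AddMonoidHom.toZModLinearMap ℓ (MonoidHom.toAdditive (res a))
      map_one' := by
        apply LinearMap.ext
        intro v
        change Additive.ofMul (res 1 (Additive.toMul v)) = v
        have : res 1 (Additive.toMul v) = Additive.toMul v := by
          apply Subtype.ext
          rw [hres, map_one]
          rfl
        rw [this]
        rfl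
      map_mul' := by
        intro a b
        apply LinearMap.ext
        intro v
        change Additive.ofMul (res (a * b) (Additive.toMul v)) =
          Additive.ofMul (res a (res b (Additive.toMul v)))
        congr 1
        apply Subtype.ext
        rw [hres, hres, hres, map_mul]
        rfl }
  have hρ : ∀ (a : A) (v : (Additive W₀)), ρ a v = Additive.ofMul (res a (Additive.toMul v)) := fun _ _ => rfl
  have hfixed : ∀ (a : A) (v : (Additive W₀)), ρ a v = v ↔ φ a ((Additive.toMul v : W₀) : W) =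
      ((Additive.toMul v : W₀) : W) := by
    intro a v
    rw [hρ]
    constructor
    · intro h
      have h1 : res a (Additive.toMul v) = Additive.toMul v := Additive.ofMul.injective h
      rw [← hres, h1]
    · intro h
      have h1 : res a (Additive.toMul v) = Additive.toMul v := Subtype.ext (by rw [hres, h])
      rw [h1]
      rfl
  have hcastne : ∀ n : ℕ, ¬ ℓ ∣ n → (n : ZMod ℓ) ≠ 0 := fun n hn h =>
    hn ((ZMod.natCast_eq_zero_iff n ℓ).mp h)
  have hU := hcastne _ hℓU
  have hE := hcastne _ hℓE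
  have hcardZ : Nat.card (ZMod ℓ) = ℓ := Nat.card_zmod ℓ
  -- cardinalities of fixed-point subgroups
  have hcardB : ∀ B : Subgroup A, (Nat.card B : ZMod ℓ) ≠ 0 →
      Nat.card ↥(W₀ ⊓ fixOf φ B) = ℓ ^ rk (avg (ZMod ℓ) ρ B) := by
    intro B hB
    unfold rk
    have hc := Module.natCard_eq_pow_finrank (K := ZMod ℓ)
      (V := LinearMap.range (avg (ZMod ℓ) ρ B))
    rw [hcardZ] at hc
    rw [← hc]
    symm
    refine Nat.card_congr
      { toFun := fun v => ⟨((Additive.toMul (v : (Additive W₀)) : W₀) : W),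
          ⟨(Additive.toMul (v : (Additive W₀)) : W₀).2, fun b hb =>
            (hfixed b v).mp ((mem_range_avg_iff ρ B hB v).mp v.2 b hb)⟩⟩
        invFun := fun w => ⟨Additive.ofMul (⟨w.1, w.2.1⟩ : W₀),
          (mem_range_avg_iff ρ B hB _).mpr (fun b hb => (hfixed b _).mpr (w.2.2 b hb))⟩
        left_inv := fun v => rfl
        right_inv := fun w => rfl }
  have hcardUE : Nat.card ↥(W₀ ⊓ fixOf φ U ⊓ fixOf φ E) =
      ℓ ^ rk (avg (ZMod ℓ) ρ E * avg (ZMod ℓ) ρ U) := by
    unfold rk
    have hc := Module.natCard_eq_pow_finrank (K := ZMod ℓ)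
      (V := LinearMap.range (avg (ZMod ℓ) ρ E * avg (ZMod ℓ) ρ U))
    rw [hcardZ] at hc
    rw [← hc]
    symm
    refine Nat.card_congr
      { toFun := fun v => ⟨((Additive.toMul (v : (Additive W₀)) : W₀) : W),
          ⟨⟨(Additive.toMul (v : (Additive W₀)) : W₀).2, fun b hb =>
            (hfixed b v).mp (((mem_range_avg_mul_iff ρ U E hU hE v).mp v.2).2 b hb)⟩,
            fun b hb =>
            (hfixed b v).mp (((mem_range_avg_mul_iff ρ U E hU hE v).mp v.2).1 b hb)⟩⟩
        invFun := fun w => ⟨Additive.ofMul (⟨w.1, w.2.1.1⟩ : W₀),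
          (mem_range_avg_mul_iff ρ U E hU hE _).mpr
            ⟨fun b hb => (hfixed b _).mpr (w.2.2 b hb),
             fun b hb => (hfixed b _).mpr (w.2.1.2 b hb)⟩⟩
        left_inv := fun v => rfl
        right_inv := fun w => rfl }
  have hcardW : Nat.card W₀ = ℓ ^ Module.finrank (ZMod ℓ) (Additive W₀) := by
    have hc := Module.natCard_eq_pow_finrank (K := ZMod ℓ) (V := Additive W₀)
    rw [hcardZ] at hc
    rw [← hc]
    rfl
  constructor
  · rw [hcardUE, hcardW, hcardB E hE, hcardB U hU, ← pow_mul, ← pow_mul, ← pow_add, ← pow_add]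
    congr 1
    have := frob_rank_formula ρ U E hU hE hfpf
    rw [mul_comm _ (Nat.card E), mul_comm _ (Nat.card E)]
    omega
  · intro hle u₁ hu₁ u₂ hu₂ w hw
    rw [hcardB E hE] at hle
    have hrk : rk (avg (ZMod ℓ) ρ E) ≤ 1 := by
      by_contra hcon
      push Not at hcon
      have : ℓ ^ 2 ≤ ℓ ^ rk (avg (ZMod ℓ) ρ E) := Nat.pow_le_pow_right hℓ.out.pos hcon
      have h2 : ℓ < ℓ ^ 2 := by
        have := hℓ.out.one_lt
        nlinarith
      omega
    have hc := frob_commute ρ U E hU hE hfpf hrk hu₁ hu₂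
    rw [← map_mul, ← map_mul] at hc
    have h1 := LinearMap.congr_fun hc (Additive.ofMul (⟨w, hw⟩ : W₀))
    rw [hρ, hρ] at h1
    have h2 := congrArg Subtype.val (Additive.ofMul.injective h1)
    rw [hres, hres] at h2
    exact h2

end ElemAb

section Abelian

variable {A : Type*} [Group A] {W : Type*} [CommGroup W]

theorem fixOf_sup (φ : A →* MulAut W) (B C : Subgroup A) :
    fixOf φ (B ⊔ C) = fixOf φ B ⊓ fixOf φ C := by
  apply le_antisymm
  · intro w hw
    exact ⟨fun b hb => hw b (Subgroup.mem_sup_left hb), fun c hc => hw c (Subgroup.mem_sup_right hc)⟩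
  · intro w hw a ha
    rw [Subgroup.sup_eq_closure] at ha
    induction ha using Subgroup.closure_induction with
    | mem x hx =>
      rcases hx with hx | hx
      · exact hw.1 x hx
      · exact hw.2 x hx
    | one => simp
    | mul x y _ _ hx hy => rw [map_mul, MulAut.mul_apply, hy, hx]
    | inv x _ hx =>
      rw [map_inv]
      conv_lhs => rw [← hx]
      exact MulAut.inv_apply_self W (φ x) w

theorem fixOf_antitone (φ : A →* MulAut W) {B C : Subgroup A} (h : B ≤ C) :
    fixOf φ C ≤ fixOf φ B := fun _ hw b hb => hw b (h hb)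

variable [Finite A] [Finite W]

/-- multiplicativity of fixed points along the `ℓ`-power map (coprime action on an abelian
group) -/
theorem card_fix_mul (φ : A →* MulAut W) (W₀ : Subgroup W)
    (hinv : ∀ a : A, ∀ w ∈ W₀, φ a w ∈ W₀) (B : Subgroup A)
    (hcop : (Nat.card W).Coprime (Nat.card B)) (ℓ : ℕ) :
    Nat.card ↥(W₀ ⊓ fixOf φ B) =
      Nat.card ↥(W₀ ⊓ (powMonoidHom ℓ : W →* W).ker ⊓ fixOf φ B) *
        Nat.card ↥((W₀.map (powMonoidHom ℓ : W →* W)) ⊓ fixOf φ B) := by
  set f : W →* W := powMonoidHom ℓ with hf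
  set H : Subgroup W := W₀ ⊓ fixOf φ B with hH
  let g : H →* W := f.comp H.subtype
  have h1 : Nat.card H = Nat.card g.ker * Nat.card g.range := by
    rw [← Subgroup.index_ker, Subgroup.card_mul_index]
  have h2 : Nat.card g.ker = Nat.card ↥(W₀ ⊓ f.ker ⊓ fixOf φ B) := by
    have : g.ker.map H.subtype = W₀ ⊓ f.ker ⊓ fixOf φ B := by
      ext w
      constructor
      · rintro ⟨x, hx, rfl⟩
        have hx' : f (x : W) = 1 := hx
        exact ⟨⟨x.2.1, hx'⟩, x.2.2⟩
      · rintro ⟨⟨hw1, hw2⟩, hw3⟩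
        exact ⟨⟨w, ⟨hw1, hw3⟩⟩, hw2, rfl⟩
    rw [← this]
    exact (Subgroup.card_map_of_injective H.subtype_injective).symm
  have h3 : g.range = W₀.map f ⊓ fixOf φ B := by
    ext y
    constructor
    · rintro ⟨x, rfl⟩
      refine ⟨⟨x, x.2.1, rfl⟩, fun b hb => ?_⟩
      show φ b (f (x : W)) = f (x : W)
      rw [hf, powMonoidHom_apply, map_pow, x.2.2 b hb]
    · rintro ⟨⟨x, hx, rfl⟩, hy⟩
      -- averaging
      have := Fintype.ofFinite B
      set n := Nat.card B with hn
      have hc : (Nat.card W).Coprime n := hcop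
      have hyfix : ∀ b ∈ B, φ b (f x) = f x := hy
      set P : W := ∏ b : B, φ (b : A) x with hP
      have hPfix : ∀ b ∈ B, φ b P = P := by
        intro b hb
        rw [hP, map_prod]
        refine Fintype.prod_equiv (Equiv.mulLeft (⟨b, hb⟩ : B)) (fun c => φ b (φ (c : A) x))
          (fun c => φ (c : A) x) (fun c => ?_)
        simp [map_mul]
      have hPW₀ : P ∈ W₀ := Subgroup.prod_mem _ (fun b _ => hinv _ _ hx)
      have hfP : f P = (f x) ^ n := by
        rw [hP, map_prod]
        have : ∀ b : B, f (φ (b : A) x) = f x := by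
          intro b
          rw [hf, powMonoidHom_apply, ← map_pow]
          exact hyfix b b.2
        simp only [this, Finset.prod_const, Finset.card_univ]
        rw [hn, Nat.card_eq_fintype_card]
      set x' : W := (powCoprime hc).symm P with hx'
      have hx'n : x' ^ n = P := (powCoprime hc).apply_symm_apply P
      have hinj : ∀ a b : W, a ^ n = b ^ n → a = b := fun a b h => (powCoprime hc).injective h
      have hx'W₀ : x' ∈ W₀ := by
        have : x' = P ^ ((Nat.card W).gcdB n) := rfl
        rw [this]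
        exact W₀.zpow_mem hPW₀ _
      have hx'fix : ∀ b ∈ B, φ b x' = x' := by
        intro b hb
        apply hinj
        rw [← map_pow, hx'n, hPfix b hb]
      have hfx' : f x' = f x := by
        apply hinj
        rw [← map_pow, hx'n, hfP]
      exact ⟨⟨x', hx'W₀, hx'fix⟩, hfx'⟩
  rw [h1, h2, h3]

end Abelian

section AbelianMain

variable {A : Type*} [Group A] {W : Type*} [CommGroup W]

theorem fixOf_bot (φ : A →* MulAut W) : fixOf φ (⊥ : Subgroup A) = ⊤ := by
  rw [eq_top_iff]
  intro w _ b hb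
  rw [Subgroup.mem_bot] at hb
  rw [hb, map_one]
  rfl

variable [Finite A] [Finite W]

/-- **Frobenius group of operators on a finite abelian group of coprime order**: the fixed-point
formula and the commutativity criterion, for every invariant subgroup `W₀`. -/
theorem abelian_main (φ : A →* MulAut W) (U E : Subgroup A) [U.Normal] [Group.IsNilpotent U]
    (hcop : (Nat.card W).Coprime (Nat.card A))
    (hfpf : ∀ e ∈ E, e ≠ 1 → ∀ u ∈ U, e * u = u * e → u = 1) :
    ∀ (n : ℕ) (W₀ : Subgroup W), Nat.card W₀ = n → (∀ a : A, ∀ w ∈ W₀, φ a w ∈ W₀) →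
      (Nat.card ↥(W₀ ⊓ fixOf φ U ⊓ fixOf φ E) ^ Nat.card E * Nat.card W₀ =
        Nat.card ↥(W₀ ⊓ fixOf φ E) ^ Nat.card E * Nat.card ↥(W₀ ⊓ fixOf φ U)) ∧
      (IsCyclic ↥(W₀ ⊓ fixOf φ E) →
        ∀ u₁ ∈ U, ∀ u₂ ∈ U, ∀ w ∈ W₀, φ (u₁ * u₂) w = φ (u₂ * u₁) w) := by
  intro n
  induction n using Nat.strong_induction_on with
  | _ n ih =>
  intro W₀ hn hinv
  have hcopB : ∀ B : Subgroup A, (Nat.card W).Coprime (Nat.card B) := fun B =>
    Nat.Coprime.coprime_dvd_right (Subgroup.card_subgroup_dvd_card B) hcop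
  by_cases hW₀ : W₀ = ⊥
  · subst hW₀
    constructor
    · simp
    · intro _ u₁ _ u₂ _ w hw
      rw [Subgroup.mem_bot] at hw
      rw [hw, map_one, map_one]
  · have hcard1 : Nat.card W₀ ≠ 1 := fun h => hW₀ (Subgroup.card_eq_one.mp h)
    obtain ⟨ℓ, hℓ, hℓd⟩ := Nat.exists_prime_and_dvd hcard1
    haveI : Fact ℓ.Prime := ⟨hℓ⟩
    have hℓW : ℓ ∣ Nat.card W := hℓd.trans (Subgroup.card_subgroup_dvd_card W₀)
    have hℓB : ∀ B : Subgroup A, ¬ ℓ ∣ Nat.card B := by
      intro B hd
      have := Nat.Coprime.eq_one_of_dvd ((hcopB B).coprime_dvd_left hℓW) hd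
      exact hℓ.one_lt.ne' this
    set f : W →* W := powMonoidHom ℓ with hf
    set K₁ : Subgroup W := W₀ ⊓ f.ker with hK₁
    set I₁ : Subgroup W := W₀.map f with hI₁
    have hK₁inv : ∀ a : A, ∀ w ∈ K₁, φ a w ∈ K₁ := by
      intro a w hw
      refine ⟨hinv a w hw.1, ?_⟩
      have h1 : f w = 1 := hw.2
      show f (φ a w) = 1
      rw [hf, powMonoidHom_apply, ← map_pow]
      rw [hf, powMonoidHom_apply] at h1
      rw [h1, map_one]
    have hI₁inv : ∀ a : A, ∀ w ∈ I₁, φ a w ∈ I₁ := by
      rintro a _ ⟨x, hx, rfl⟩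
      refine ⟨φ a x, hinv a x hx, ?_⟩
      rw [hf, powMonoidHom_apply, powMonoidHom_apply, map_pow]
    have hI₁le : I₁ ≤ W₀ := by
      rintro _ ⟨x, hx, rfl⟩
      rw [hf, powMonoidHom_apply]
      exact W₀.pow_mem hx ℓ
    by_cases hK : K₁ = W₀
    · -- elementary abelian
      have hexp : ∀ w ∈ W₀, w ^ ℓ = 1 := by
        intro w hw
        rw [← hK] at hw
        exact hw.2
      obtain ⟨h1, h2⟩ := elemAb_main φ W₀ hinv hexp U E (hℓB U) (hℓB E) hfpf
      refine ⟨h1, fun hcyc => h2 ?_⟩
      have := Fintype.ofFinite ↥(W₀ ⊓ fixOf φ E)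
      have h3 := IsCyclic.card_pow_eq_one_le (α := ↥(W₀ ⊓ fixOf φ E)) hℓ.pos
      have h4 : (Finset.univ.filter (fun a : ↥(W₀ ⊓ fixOf φ E) => a ^ ℓ = 1)) = Finset.univ := by
        ext a
        simp only [Finset.mem_filter, Finset.mem_univ, true_and, iff_true]
        apply Subtype.ext
        rw [Subgroup.coe_pow]
        exact hexp _ a.2.1
      rw [h4, Finset.card_univ, ← Nat.card_eq_fintype_card] at h3
      exact h3
    · -- proper kernel and image
      have hmulW : Nat.card W₀ = Nat.card K₁ * Nat.card I₁ := by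
        have := card_fix_mul φ W₀ hinv ⊥ (hcopB ⊥) ℓ
        simp only [fixOf_bot, inf_top_eq] at this
        exact this
      have hK₁ne : K₁ ≠ ⊥ := by
        obtain ⟨x, hx⟩ := exists_prime_orderOf_dvd_card' (G := W₀) ℓ hℓd
        intro hbot
        have hxK : (x : W) ∈ K₁ := by
          refine ⟨x.2, ?_⟩
          show f (x : W) = 1
          rw [hf, powMonoidHom_apply, ← Subgroup.coe_pow, ← hx, pow_orderOf_eq_one]
          rfl
        rw [hbot, Subgroup.mem_bot] at hxK
        have : x = 1 := Subtype.ext hxK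
        rw [this, orderOf_one] at hx
        exact hℓ.one_lt.ne hx
      have hK₁card : 1 < Nat.card K₁ := by
        have h0 : 0 < Nat.card K₁ := Nat.card_pos
        have h1 : Nat.card K₁ ≠ 1 := fun h => hK₁ne (Subgroup.card_eq_one.mp h)
        omega
      have hI₁card : 1 < Nat.card I₁ := by
        have h0 : 0 < Nat.card I₁ := Nat.card_pos
        have h1 : Nat.card I₁ ≠ 1 := by
          intro h
          apply hK
          have hbot := Subgroup.card_eq_one.mp h
          apply le_antisymm inf_le_left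
          intro w hw
          refine ⟨hw, ?_⟩
          have : f w ∈ I₁ := ⟨w, hw, rfl⟩
          rw [hbot, Subgroup.mem_bot] at this
          exact this
        omega
      have hposW : 0 < Nat.card W₀ := Nat.card_pos
      have hKlt : Nat.card K₁ < n := by
        rw [← hn, hmulW]; nlinarith
      have hIlt : Nat.card I₁ < n := by
        rw [← hn, hmulW]; nlinarith
      obtain ⟨hK1, hK2⟩ := ih _ hKlt K₁ rfl hK₁inv
      obtain ⟨hI1, hI2⟩ := ih _ hIlt I₁ rfl hI₁inv
      have hmU := card_fix_mul φ W₀ hinv U (hcopB U) ℓ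
      have hmE := card_fix_mul φ W₀ hinv E (hcopB E) ℓ
      have hmUE := card_fix_mul φ W₀ hinv (U ⊔ E) (hcopB _) ℓ
      rw [fixOf_sup, ← inf_assoc, ← inf_assoc, ← inf_assoc] at hmUE
      constructor
      · rw [hmUE, hmulW, hmE, hmU]
        rw [mul_pow, mul_pow]
        calc Nat.card ↥(K₁ ⊓ fixOf φ U ⊓ fixOf φ E) ^ Nat.card E *
              Nat.card ↥(I₁ ⊓ fixOf φ U ⊓ fixOf φ E) ^ Nat.card E * (Nat.card K₁ * Nat.card I₁)
            = (Nat.card ↥(K₁ ⊓ fixOf φ U ⊓ fixOf φ E) ^ Nat.card E * Nat.card K₁) *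
              (Nat.card ↥(I₁ ⊓ fixOf φ U ⊓ fixOf φ E) ^ Nat.card E * Nat.card I₁) := by ring
          _ = (Nat.card ↥(K₁ ⊓ fixOf φ E) ^ Nat.card E * Nat.card ↥(K₁ ⊓ fixOf φ U)) *
              (Nat.card ↥(I₁ ⊓ fixOf φ E) ^ Nat.card E * Nat.card ↥(I₁ ⊓ fixOf φ U)) := by
                rw [hK1, hI1]
          _ = _ := by ring
      · intro hcyc u₁ hu₁ u₂ hu₂ w hw
        have hcycK : IsCyclic ↥(K₁ ⊓ fixOf φ E) :=
          isCyclic_of_injective (Subgroup.inclusion
            (inf_le_inf_right _ (inf_le_left : K₁ ≤ W₀))) (Subgroup.inclusion_injective _)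
        have hcycI : IsCyclic ↥(I₁ ⊓ fixOf φ E) :=
          isCyclic_of_injective (Subgroup.inclusion
            (inf_le_inf_right _ hI₁le)) (Subgroup.inclusion_injective _)
        have hKc := hK2 hcycK u₁ hu₁ u₂ hu₂
        have hIc := hI2 hcycI u₁ hu₁ u₂ hu₂
        -- `g = φ (u₂ u₁)⁻¹ ∘ φ (u₁ u₂)` is trivial on `K₁` and `I₁`
        set c := u₁ * u₂ with hc
        set d := u₂ * u₁ with hd
        set g : MulAut W := φ (d⁻¹ * c) with hg
        have hgK : ∀ x ∈ K₁, g x = x := by
          intro x hx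
          rw [hg, map_mul, MulAut.mul_apply, hKc x hx, map_inv, MulAut.inv_apply_self]
        have hgI : ∀ x ∈ I₁, g x = x := by
          intro x hx
          rw [hg, map_mul, MulAut.mul_apply, hIc x hx, map_inv, MulAut.inv_apply_self]
        have hgW₀ : g w ∈ W₀ := hinv _ w hw
        set z : W := g w * w⁻¹ with hz
        have hzK : z ∈ K₁ := by
          refine ⟨W₀.mul_mem hgW₀ (W₀.inv_mem hw), ?_⟩
          show f z = 1
          rw [hz, map_mul, map_inv]
          have h1 : f (g w) = g (f w) := by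
            rw [hf, powMonoidHom_apply, powMonoidHom_apply, map_pow]
          rw [h1, hgI (f w) ⟨w, hw, rfl⟩, mul_inv_cancel]
        have hgz : g z = z := hgK z hzK
        have hgw : g w = w * z := by rw [hz]; simp
        have hpow : ∀ k : ℕ, (g ^ k) w = w * z ^ k := by
          intro k
          induction k with
          | zero => simp
          | succ k ihk =>
            rw [pow_succ', MulAut.mul_apply, ihk, map_mul, map_pow, hgz, hgw, pow_succ]
            simp only [mul_assoc]
            congr 1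
            exact mul_comm _ _
        have hgA : g ^ Nat.card A = 1 := by
          rw [hg, ← map_pow, pow_card_eq_one', map_one]
        have hzA : z ^ Nat.card A = 1 := by
          have := hpow (Nat.card A)
          rw [hgA, MulAut.one_apply] at this
          exact (mul_eq_left.mp this.symm)
        have hzW : z ^ Nat.card W = 1 := pow_card_eq_one'
        have hz1 : z = 1 := by
          have h1 : orderOf z ∣ Nat.card A := orderOf_dvd_of_pow_eq_one hzA
          have h2 : orderOf z ∣ Nat.card W := orderOf_dvd_of_pow_eq_one hzW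
          have h3 : orderOf z = 1 := Nat.eq_one_of_dvd_coprimes hcop h2 h1
          exact orderOf_eq_one_iff.mp h3
        have hgw1 : g w = w := by rw [hgw, hz1, mul_one]
        rw [hg, map_mul, MulAut.mul_apply, map_inv] at hgw1
        have := congrArg (φ d) hgw1
        rw [MulAut.apply_inv_self] at this
        exact this

end AbelianMain

end Cfsg.Agent.Helper62.FrobAct
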