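import Mathlib
import Cfsg.Agent.Helper62.FrobActAb
import Cfsg.Agent.Helper48.WielandtOrder
import Cfsg.Agent.Helper1.FpfThompson

/-!
# Frobenius actions VI: subgroups of an ambient finite group

* `isNilpotent_of_fpf`: a subgroup `U` normalized by a nontrivial subgroup `E` acting
  fixed-point-freely is nilpotent (Thompson).
* `frobenius_fixed_point_formula`: for `U ⋊ E` as above acting by conjugation on a solvable
  subgroup `H` of coprime order,
  `|C_H(UE)|^|E| |H| = |C_H(E)|^|E| |C_H(U)|`.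
-/

set_option autoImplicit false

namespace Cfsg.Agent.Helper62.FrobAct

open Cfsg.Agent.Helper48

variable {X : Type*} [Group X] [Finite X]

/-- **Thompson**: a subgroup admitting a nontrivial fixed-point-free group of conjugations is
nilpotent. -/
theorem isNilpotent_of_fpf (U E : Subgroup X) (hE1 : E ≠ ⊥)
    (hUn : ∀ e ∈ E, ∀ u ∈ U, e * u * e⁻¹ ∈ U)
    (hfpf : ∀ e ∈ E, e ≠ 1 → ∀ u ∈ U, e * u = u * e → u = 1) : Group.IsNilpotent U := by
  have hEcard : Nat.card E ≠ 1 := fun h => hE1 (Subgroup.card_eq_one.mp h)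
  obtain ⟨r, hr, hrd⟩ := Nat.exists_prime_and_dvd hEcard
  haveI : Fact r.Prime := ⟨hr⟩
  obtain ⟨e, he⟩ := exists_prime_orderOf_dvd_card' (G := ↥E) r hrd
  have he' : orderOf (e : X) = r := by rw [Subgroup.orderOf_coe]; exact he
  have he1 : (e : X) ≠ 1 := by
    intro h1
    rw [h1, orderOf_one] at he'
    exact hr.one_lt.ne he'
  have hnorm : ∀ x ∈ E, x ∈ Subgroup.normalizer (U : Set X) := by
    intro x hx
    rw [Subgroup.mem_normalizer_iff]
    intro u
    constructor
    · exact hUn x hx u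
    · intro h
      have := hUn x⁻¹ (E.inv_mem hx) _ h
      simpa [mul_assoc] using this
  let en : ↥(Subgroup.normalizer (U : Set X)) := ⟨e, hnorm e e.2⟩
  apply Cfsg.Agent.Helper1.fpf_prime_nilpotent hr (conjNormalizerHom U en)
  · intro u hu
    have h1 : (e : X) * u * (e : X)⁻¹ = u := congrArg Subtype.val hu
    have h2 : (e : X) * u = u * e := mul_inv_eq_iff_eq_mul.mp h1
    exact Subtype.ext (hfpf e e.2 he1 u u.2 h2)
  · rw [← map_pow]
    have : en ^ r = 1 := by
      apply Subtype.ext
      rw [Subgroup.coe_pow]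
      show (e : X) ^ r = 1
      rw [← he', pow_orderOf_eq_one]
    rw [this, map_one]

/-- the operator group `U ⊔ E` acting on the abelianization of a normalized subgroup `H` -/
noncomputable def abOp (S H : Subgroup X) (hS : S ≤ Subgroup.normalizer (H : Set X)) :
    ↥S →* MulAut (Abelianization ↥H) :=
  (abAct H).comp (Subgroup.inclusion hS)

theorem iInf_fixSub_eq_fixOf (S H : Subgroup X) (hS : S ≤ Subgroup.normalizer (H : Set X))
    (B : Subgroup X) (hB : B ≤ S) :
    (⨅ g : B, fixSub (abAct H ⟨g, hS (hB g.2)⟩)) = fixOf (abOp S H hS) (B.subgroupOf S) := by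
  ext w
  rw [Subgroup.mem_iInf, mem_fixOf]
  constructor
  · intro h b hb
    exact h ⟨b, Subgroup.mem_subgroupOf.mp hb⟩
  · intro h g
    exact h ⟨g, hB g.2⟩ (Subgroup.mem_subgroupOf.mpr g.2)

/-- **Fixed-point formula for a Frobenius group of conjugations** acting on a solvable subgroup of
coprime order. -/
theorem frobenius_fixed_point_formula (U E : Subgroup X) (hE1 : E ≠ ⊥)
    (hUn : ∀ e ∈ E, ∀ u ∈ U, e * u * e⁻¹ ∈ U)
    (hfpf : ∀ e ∈ E, e ≠ 1 → ∀ u ∈ U, e * u = u * e → u = 1) :
    ∀ (n : ℕ) (H : Subgroup X), Nat.card H = n →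
      (∀ x ∈ U ⊔ E, ∀ h ∈ H, x * h * x⁻¹ ∈ H) → Group.IsSolvable H →
      Nat.Coprime (Nat.card H) (Nat.card ↥(U ⊔ E)) →
      Nat.card ↥(H ⊓ Subgroup.centralizer ((U ⊔ E : Subgroup X) : Set X)) ^ Nat.card E *
          Nat.card H =
        Nat.card ↥(H ⊓ Subgroup.centralizer (E : Set X)) ^ Nat.card E *
          Nat.card ↥(H ⊓ Subgroup.centralizer (U : Set X)) := by
  have hnilU : Group.IsNilpotent U := isNilpotent_of_fpf U E hE1 hUn hfpf
  intro n
  induction n using Nat.strong_induction_on with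
  | _ n ih =>
  intro H hn hHn hsolv hcop
  by_cases hH : H = ⊥
  · subst hH
    simp
  · set S : Subgroup X := U ⊔ E with hSdef
    have hUS : U ≤ S := le_sup_left
    have hES : E ≤ S := le_sup_right
    -- `S` normalizes `H`
    have hS : S ≤ Subgroup.normalizer (H : Set X) := by
      intro x hx
      rw [Subgroup.mem_normalizer_iff]
      intro h
      constructor
      · exact hHn x hx h
      · intro hh
        have := hHn x⁻¹ (S.inv_mem hx) _ hh
        simpa [mul_assoc] using this
    -- the derived subgroup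
    have hlt : ⁅H, H⁆ < H := commutator_self_lt_of_isSolvable hsolv hH
    have hS' : S ≤ Subgroup.normalizer ((⁅H, H⁆ : Subgroup X) : Set X) :=
      hS.trans (normalizer_le_normalizer_commutator_self H)
    have hcard' : Nat.card ↥(⁅H, H⁆ : Subgroup X) < n := by
      rw [← hn]
      exact lt_of_le_of_ne (Subgroup.card_le_of_le hlt.le)
        (fun e => hlt.ne (Subgroup.eq_of_le_of_card_ge hlt.le e.ge))
    have hsolv' : Group.IsSolvable ↥(⁅H, H⁆ : Subgroup X) :=
      Group.isSolvable_of_isSolvable_injective (Subgroup.inclusion_injective hlt.le)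
    have hmulH := card_eq_card_commutator_mul_card_abelianization H
    have hcop' : Nat.Coprime (Nat.card ↥(⁅H, H⁆ : Subgroup X)) (Nat.card S) :=
      Nat.Coprime.coprime_dvd_left (Dvd.intro _ hmulH.symm) hcop
    have hIH := ih _ hcard' ⁅H, H⁆ rfl
      (fun x hx h hh => (Subgroup.mem_normalizer_iff.mp (hS' hx) h).mp hh) hsolv' hcop'
    -- the abelianization
    let W := Abelianization ↥H
    let φ : ↥S →* MulAut W := abOp S H hS
    have hcopW : (Nat.card W).Coprime (Nat.card S) :=
      Nat.Coprime.coprime_dvd_left (Dvd.intro_left _ hmulH.symm) hcop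
    haveI hUn' : (U.subgroupOf S).Normal := by
      rw [Subgroup.normal_subgroupOf_iff_le_normalizer hUS]
      refine sup_le Subgroup.le_normalizer ?_
      intro x hx
      rw [Subgroup.mem_normalizer_iff]
      intro u
      constructor
      · exact hUn x hx u
      · intro h
        have := hUn x⁻¹ (E.inv_mem hx) _ h
        simpa [mul_assoc] using this
    haveI : Group.IsNilpotent ↥(U.subgroupOf S) :=
      Group.nilpotent_of_mulEquiv (Subgroup.subgroupOfEquivOfLe hUS).symm
    have hfpf' : ∀ e ∈ E.subgroupOf S, e ≠ 1 → ∀ u ∈ U.subgroupOf S, e * u = u * e → u = 1 := by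
      intro e he he1 u hu hcomm
      apply Subtype.ext
      refine hfpf e (Subgroup.mem_subgroupOf.mp he) (fun h => he1 (Subtype.ext h)) u
        (Subgroup.mem_subgroupOf.mp hu) ?_
      exact congrArg Subtype.val hcomm
    obtain ⟨hW, -⟩ := abelian_main φ (U.subgroupOf S) (E.subgroupOf S) hcopW hfpf'
      _ ⊤ rfl (fun _ _ _ => Subgroup.mem_top _)
    simp only [top_inf_eq, Subgroup.card_top] at hW
    rw [Nat.card_congr (Subgroup.subgroupOfEquivOfLe hES).toEquiv] at hW
    -- lifting of fixed points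
    have hsolvB : ∀ B : Subgroup X, Group.IsSolvable B ∨ Group.IsSolvable H := fun _ => Or.inr hsolv
    have hcopB : ∀ B : Subgroup X, B ≤ S → (Nat.card B).Coprime (Nat.card H) := fun B hB =>
      (Nat.Coprime.coprime_dvd_right (Subgroup.card_dvd_of_le hB) hcop).symm
    have hlU := card_centralizer_eq_mul H U (hUS.trans hS) (hcopB U hUS) (hsolvB U)
    have hlE := card_centralizer_eq_mul H E (hES.trans hS) (hcopB E hES) (hsolvB E)
    have hlS := card_centralizer_eq_mul H S hS (hcopB S le_rfl) (hsolvB S)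
    rw [iInf_fixSub_eq_fixOf S H hS U hUS] at hlU
    rw [iInf_fixSub_eq_fixOf S H hS E hES] at hlE
    rw [iInf_fixSub_eq_fixOf S H hS S le_rfl] at hlS
    have htop : S.subgroupOf S = U.subgroupOf S ⊔ E.subgroupOf S := by
      rw [hSdef, Subgroup.subgroupOf_sup le_sup_left le_sup_right]
    rw [htop, fixOf_sup] at hlS
    rw [hlS, hlU, hlE, hmulH, mul_pow, mul_pow]
    calc Nat.card ↥(⁅H, H⁆ ⊓ Subgroup.centralizer (S : Set X)) ^ Nat.card E *
          Nat.card ↥(fixOf φ (U.subgroupOf S) ⊓ fixOf φ (E.subgroupOf S)) ^ Nat.card E *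
          (Nat.card ↥(⁅H, H⁆ : Subgroup X) * Nat.card W)
        = (Nat.card ↥(⁅H, H⁆ ⊓ Subgroup.centralizer (S : Set X)) ^ Nat.card E *
            Nat.card ↥(⁅H, H⁆ : Subgroup X)) *
          (Nat.card ↥(fixOf φ (U.subgroupOf S) ⊓ fixOf φ (E.subgroupOf S)) ^ Nat.card E *
            Nat.card W) := by ring
      _ = (Nat.card ↥(⁅H, H⁆ ⊓ Subgroup.centralizer (E : Set X)) ^ Nat.card E *
            Nat.card ↥(⁅H, H⁆ ⊓ Subgroup.centralizer (U : Set X))) *
          (Nat.card ↥(fixOf φ (E.subgroupOf S)) ^ Nat.card E *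
            Nat.card ↥(fixOf φ (U.subgroupOf S))) := by rw [hIH, hW]
      _ = _ := by ring


end Cfsg.Agent.Helper62.FrobAct
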