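import Mathlib
import Cfsg.Agent.S0058
import Cfsg.Agent.Helper1.Compl
import Cfsg.Agent.S0026
import Cfsg.Agent.S0027
import Cfsg.Agent.Helper62.Radical
import Cfsg.Agent.Helper62.Basic

set_option autoImplicit false

namespace Cfsg.Agent.Helper62

open scoped commutatorElement

universe u

variable {X : Type u} [Group X]

/-- Relative form of generation by centralizers: `C ≤ A` acts trivially on `K`, `A/C` is not cyclic. -/
theorem le_iSup_centralizer_of_not_cyclic_mod [Finite X] (A K C : Subgroup X)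
    [hAab : IsMulCommutative A] (hAK : A ≤ Subgroup.normalizer (K : Set X))
    (hcop : (Nat.card A).Coprime (Nat.card K)) (hCA : C ≤ A)
    (hCK : C ≤ Subgroup.centralizer (K : Set X))
    (hnc : ∀ a ∈ A, C ⊔ Subgroup.zpowers a ≠ A) :
    K ≤ ⨆ a ∈ {a : X | a ∈ A ∧ a ∉ C}, K ⊓ Subgroup.centralizer {a} := by
  classical
  set T : Subgroup X := ⨆ a ∈ {a : X | a ∈ A ∧ a ∉ C}, K ⊓ Subgroup.centralizer {a} with hT
  have hTK : T ≤ K := iSup₂_le fun a _ => inf_le_left
  set Y : Subgroup X := A ⊔ K with hY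
  have hAY : A ≤ Y := le_sup_left
  have hKY : K ≤ Y := le_sup_right
  have hCY : C ≤ Y := hCA.trans hAY
  -- `C` is central in `Y`
  have hCcent : ∀ c ∈ C, ∀ y ∈ Y, y * c = c * y := by
    intro c hc y hy
    have hYle : Y ≤ Subgroup.centralizer {c} := by
      rw [hY]
      refine sup_le ?_ ?_
      · intro a ha
        rw [Subgroup.mem_centralizer_singleton_iff]
        have := mul_comm' (⟨a, ha⟩ : A) ⟨c, hCA hc⟩
        exact congrArg (fun z : A => (z : X)) this
      · intro k hk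
        rw [Subgroup.mem_centralizer_singleton_iff]
        exact (Subgroup.mem_centralizer_iff.mp (hCK hc)) k hk
    have := Subgroup.mem_centralizer_singleton_iff.mp (hYle hy)
    exact this
  have hKC : K ⊓ C = ⊥ := by
    apply Subgroup.inf_eq_bot_of_coprime
    exact (Nat.Coprime.coprime_dvd_left (Subgroup.card_dvd_of_le hCA) hcop).symm
  set C' : Subgroup Y := C.subgroupOf Y with hC'
  haveI hC'n : C'.Normal := by
    constructor
    intro c hc y
    rw [hC', Subgroup.mem_subgroupOf] at hc ⊢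
    have h1 := hCcent (c : X) hc (y : X) y.2
    have : ((y * c * y⁻¹ : Y) : X) = (c : X) := by
      simp only [Subgroup.coe_mul, Subgroup.coe_inv]
      rw [h1]; group
    rw [this]; exact hc
  set φ : Y →* Y ⧸ C' := QuotientGroup.mk' C' with hφ
  set A' : Subgroup Y := A.subgroupOf Y with hA'
  set K' : Subgroup Y := K.subgroupOf Y with hK'
  haveI : IsMulCommutative (A'.map φ) := by
    refine ⟨⟨?_⟩⟩
    rintro ⟨_, x, hx, rfl⟩ ⟨_, y, hy, rfl⟩
    apply Subtype.ext
    simp only [Subgroup.coe_mul]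
    rw [← map_mul, ← map_mul]
    congr 1
    apply Subtype.ext
    have := mul_comm' (⟨(x : X), hx⟩ : A) ⟨(y : X), hy⟩
    exact congrArg (fun z : A => (z : X)) this
  have hnotcyc : ¬ IsCyclic (A'.map φ) := by
    intro hcyc
    obtain ⟨⟨g, hg⟩, hgen⟩ := hcyc.exists_generator
    obtain ⟨a', ha', rfl⟩ := hg
    have haA : (a' : X) ∈ A := ha'
    apply hnc (a' : X) haA
    apply le_antisymm (sup_le hCA (by rw [Subgroup.zpowers_le]; exact haA))
    intro x hx
    have hxY : x ∈ Y := hAY hx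
    have hx' : (⟨x, hxY⟩ : Y) ∈ A' := hx
    obtain ⟨n, hn⟩ := Subgroup.mem_zpowers_iff.mp
      (hgen ⟨φ ⟨x, hxY⟩, Subgroup.mem_map_of_mem φ hx'⟩)
    have hn' : φ a' ^ n = φ ⟨x, hxY⟩ := by
      have := congrArg (fun z : A'.map φ => (z : Y ⧸ C')) hn
      simpa using this
    rw [← map_zpow] at hn'
    have hmem : (a' ^ n)⁻¹ * ⟨x, hxY⟩ ∈ C' := by
      rw [← QuotientGroup.eq]; exact hn'
    have hmemX : ((a' : X) ^ n)⁻¹ * x ∈ C := by
      have := Subgroup.mem_subgroupOf.mp hmem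
      simpa using this
    have : x = (a' : X) ^ n * (((a' : X) ^ n)⁻¹ * x) := by group
    rw [this]
    exact Subgroup.mul_mem _
      (Subgroup.mem_sup_right (Subgroup.zpow_mem _ (Subgroup.mem_zpowers _) n))
      (Subgroup.mem_sup_left hmemX)
  have hAK' : A' ≤ Subgroup.normalizer (K' : Set Y) := by
    intro a ha
    have ha' : (a : X) ∈ A := ha
    rw [Subgroup.mem_normalizer_iff]
    intro x
    rw [hK', Subgroup.mem_subgroupOf, Subgroup.mem_subgroupOf]
    exact Subgroup.mem_normalizer_iff.mp (hAK ha') x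
  have hAKb : A'.map φ ≤ Subgroup.normalizer ((K'.map φ : Subgroup (Y ⧸ C')) : Set (Y ⧸ C')) :=
    (Subgroup.map_mono hAK').trans (Subgroup.le_normalizer_map φ)
  have hcopb : (Nat.card (A'.map φ)).Coprime (Nat.card (K'.map φ)) := by
    have h1 : Nat.card (A'.map φ) ∣ Nat.card A :=
      (Subgroup.card_map_dvd _ _).trans (by rw [Cfsg.Agent.Helper1.card_subgroupOf_of_le hAY])
    have h2 : Nat.card (K'.map φ) ∣ Nat.card K :=
      (Subgroup.card_map_dvd _ _).trans (by rw [Cfsg.Agent.Helper1.card_subgroupOf_of_le hKY])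
    exact Nat.Coprime.coprime_dvd_left h1 (Nat.Coprime.coprime_dvd_right h2 hcop)
  have hgenb := Cfsg.Agent.S0058.result (A'.map φ) (K'.map φ) hnotcyc hAKb hcopb
  -- each centralizer in the quotient comes from `T`
  have hle : K'.map φ ≤ (T.subgroupOf Y).map φ := by
    rw [← hgenb]
    refine iSup₂_le ?_
    rintro ab ⟨⟨a', ha', rfl⟩, hab1⟩
    rintro z ⟨⟨y', hy', rfl⟩, hzc⟩
    have haA : (a' : X) ∈ A := ha'
    have hyK : (y' : X) ∈ K := hy'
    have haC : (a' : X) ∉ C := by
      intro h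
      apply hab1
      exact (QuotientGroup.eq_one_iff a').mpr (Subgroup.mem_subgroupOf.mpr h)
    have hcomm : φ y' * φ a' = φ a' * φ y' :=
      Subgroup.mem_centralizer_singleton_iff.mp hzc
    have hmem : (y' * a')⁻¹ * (a' * y') ∈ C' := by
      rw [← QuotientGroup.eq]
      change φ (y' * a') = φ (a' * y')
      rw [map_mul, map_mul, hcomm]
    have hmemC : ((y' : X) * a')⁻¹ * ((a' : X) * y') ∈ C := by
      have := Subgroup.mem_subgroupOf.mp hmem
      simpa using this
    have hmemK : ((y' : X) * a')⁻¹ * ((a' : X) * y') ∈ K := by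
      have h1 : (a' : X)⁻¹ * (y' : X)⁻¹ * a' ∈ K := by
        have := (Subgroup.mem_normalizer_iff.mp (hAK (A.inv_mem haA)) ((y' : X)⁻¹)).mp
          (K.inv_mem hyK)
        simpa using this
      have : ((y' : X) * a')⁻¹ * ((a' : X) * y') = ((a' : X)⁻¹ * (y' : X)⁻¹ * a') * y' := by group
      rw [this]; exact K.mul_mem h1 hyK
    have h1 : ((y' : X) * a')⁻¹ * ((a' : X) * y') = 1 := by
      have : ((y' : X) * a')⁻¹ * ((a' : X) * y') ∈ K ⊓ C := ⟨hmemK, hmemC⟩
      rwa [hKC, Subgroup.mem_bot] at this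
    have hcommX : (y' : X) * a' = a' * y' := inv_mul_eq_one.mp h1
    have hyT : (y' : X) ∈ T := by
      have h2 : (y' : X) ∈ K ⊓ Subgroup.centralizer {(a' : X)} :=
        ⟨hyK, Subgroup.mem_centralizer_singleton_iff.mpr hcommX⟩
      have h3 : K ⊓ Subgroup.centralizer {(a' : X)} ≤ T :=
        le_iSup₂ (f := fun (a : X) (_ : a ∈ {a : X | a ∈ A ∧ a ∉ C}) =>
          K ⊓ Subgroup.centralizer {a}) (a' : X) ⟨haA, haC⟩
      exact h3 h2
    exact Subgroup.mem_map_of_mem φ (Subgroup.mem_subgroupOf.mpr hyT)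
  intro k hk
  have hkY : k ∈ Y := hKY hk
  have hk' : (⟨k, hkY⟩ : Y) ∈ K' := hk
  obtain ⟨s', hs', hsk⟩ := hle (Subgroup.mem_map_of_mem φ hk')
  have hsT : (s' : X) ∈ T := hs'
  have hmem : s'⁻¹ * ⟨k, hkY⟩ ∈ C' := by
    rw [← QuotientGroup.eq]; exact hsk
  have hmemC : (s' : X)⁻¹ * k ∈ C := by
    have := Subgroup.mem_subgroupOf.mp hmem
    simpa using this
  have hmemK : (s' : X)⁻¹ * k ∈ K := K.mul_mem (K.inv_mem (hTK hsT)) hk
  have h1 : (s' : X)⁻¹ * k = 1 := by
    have : (s' : X)⁻¹ * k ∈ K ⊓ C := ⟨hmemK, hmemC⟩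
    rwa [hKC, Subgroup.mem_bot] at this
  have : k = s' := by
    have := congrArg (fun t => (s' : X) * t) h1
    simpa using this
  rw [this]; exact hsT

/-- If `K` normalizes every `f i` then it normalizes their join. -/
theorem le_normalizer_iSup {ι : Sort*} {K : Subgroup X} (f : ι → Subgroup X)
    (h : ∀ i, K ≤ Subgroup.normalizer (f i : Set X)) :
    K ≤ Subgroup.normalizer ((⨆ i, f i : Subgroup X) : Set X) := by
  intro k hk
  rw [mem_normalizer_iff_cj_eq_self]
  unfold cj
  rw [Subgroup.map_iSup]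
  congr 1
  funext i
  exact cj_eq_self_of_mem_normalizer (h i hk)

/-- If `K` normalizes `H₁` and `H₂` then it normalizes `⁅H₁, H₂⁆`. -/
theorem le_normalizer_commutator {K H₁ H₂ : Subgroup X}
    (h₁ : K ≤ Subgroup.normalizer (H₁ : Set X)) (h₂ : K ≤ Subgroup.normalizer (H₂ : Set X)) :
    K ≤ Subgroup.normalizer ((⁅H₁, H₂⁆ : Subgroup X) : Set X) := by
  intro k hk
  rw [mem_normalizer_iff_cj_eq_self]
  unfold cj
  rw [Subgroup.map_commutator]
  have e₁ : H₁.map (MulAut.conj k).toMonoidHom = H₁ := cj_eq_self_of_mem_normalizer (h₁ hk)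
  have e₂ : H₂.map (MulAut.conj k).toMonoidHom = H₂ := cj_eq_self_of_mem_normalizer (h₂ hk)
  rw [e₁, e₂]

/-- `H` always normalizes `⁅H, K⁆`. -/
theorem le_normalizer_commutator_left (H K : Subgroup X) :
    H ≤ Subgroup.normalizer ((⁅H, K⁆ : Subgroup X) : Set X) := by
  have key : ∀ x ∈ H, cj x ⁅H, K⁆ ≤ ⁅H, K⁆ := by
    intro x hx
    unfold cj
    rw [Subgroup.map_le_iff_le_comap, Subgroup.commutator_le]
    intro h hh k hk
    rw [Subgroup.mem_comap]
    have h1 : ⁅x * h, k⁆ ∈ ⁅H, K⁆ := Subgroup.commutator_mem_commutator (H.mul_mem hx hh) hk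
    have h2 : ⁅x, k⁆ ∈ ⁅H, K⁆ := Subgroup.commutator_mem_commutator hx hk
    have : (MulAut.conj x).toMonoidHom ⁅h, k⁆ = ⁅x * h, k⁆ * ⁅x, k⁆⁻¹ := by
      simp only [MulEquiv.coe_toMonoidHom, MulAut.conj_apply, commutatorElement_def]
      group
    rw [this]
    exact Subgroup.mul_mem _ h1 (Subgroup.inv_mem _ h2)
  intro x hx
  rw [mem_normalizer_iff_cj_eq_self]
  apply le_antisymm (key x hx)
  have h1 := cj_mono x (key x⁻¹ (H.inv_mem hx))
  rwa [cj_mul, mul_inv_cancel, cj_one] at h1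

section abelian

variable [Finite X] (A G : Subgroup X) [hAab : IsMulCommutative A]
  (hAG : A ≤ Subgroup.normalizer (G : Set X)) (hcop : (Nat.card A).Coprime (Nat.card G))

include hAG hcop in
/-- Fixed points of `C ≤ A` are generated by fixed points of subgroups with cyclic quotient. -/
theorem centralizer_le_iSup_cyclic_quot : ∀ (n : ℕ) (C : Subgroup X), C ≤ A →
    Nat.card A - Nat.card C = n →
    G ⊓ Subgroup.centralizer (C : Set X) ≤
      ⨆ B ∈ {B : Subgroup X | B ≤ A ∧ ∃ a ∈ A, B ⊔ Subgroup.zpowers a = A},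
        G ⊓ Subgroup.centralizer (B : Set X) := by
  intro n
  induction n using Nat.strong_induction_on with
  | _ n ih =>
  intro C hCA hn
  by_cases h : ∃ a ∈ A, C ⊔ Subgroup.zpowers a = A
  · exact le_iSup₂ (f := fun (B : Subgroup X)
      (_ : B ∈ {B : Subgroup X | B ≤ A ∧ ∃ a ∈ A, B ⊔ Subgroup.zpowers a = A}) =>
        G ⊓ Subgroup.centralizer (B : Set X)) C ⟨hCA, h⟩
  · have hnc : ∀ a ∈ A, C ⊔ Subgroup.zpowers a ≠ A := fun a ha hh => h ⟨a, ha, hh⟩
    set K : Subgroup X := G ⊓ Subgroup.centralizer (C : Set X) with hK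
    have hAcentC : A ≤ Subgroup.centralizer (C : Set X) := by
      intro a ha
      rw [Subgroup.mem_centralizer_iff]
      intro c hc
      have := mul_comm' (⟨c, hCA hc⟩ : A) ⟨a, ha⟩
      exact congrArg (fun z : A => (z : X)) this
    have hAK : A ≤ Subgroup.normalizer (K : Set X) :=
      le_normalizer_inf hAG (hAcentC.trans Subgroup.le_normalizer)
    have hcopK : (Nat.card A).Coprime (Nat.card K) :=
      Nat.Coprime.coprime_dvd_right (Subgroup.card_dvd_of_le inf_le_left) hcop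
    have hCK : C ≤ Subgroup.centralizer (K : Set X) := by
      intro c hc
      rw [Subgroup.mem_centralizer_iff]
      intro k hk
      exact ((Subgroup.mem_centralizer_iff.mp (Subgroup.mem_inf.mp hk).2) c hc).symm
    refine (le_iSup_centralizer_of_not_cyclic_mod A K C hAK hcopK hCA hCK hnc).trans ?_
    refine iSup₂_le ?_
    rintro a ⟨haA, haC⟩
    set C₂ : Subgroup X := C ⊔ Subgroup.zpowers a with hC₂
    have hC₂A : C₂ ≤ A := sup_le hCA (by rw [Subgroup.zpowers_le]; exact haA)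
    have hlt : Nat.card C < Nat.card C₂ := by
      have hle : Nat.card C ≤ Nat.card C₂ := Subgroup.card_le_of_le le_sup_left
      rcases Nat.lt_or_ge (Nat.card C) (Nat.card C₂) with h1 | h1
      · exact h1
      · exfalso
        have : C = C₂ := Subgroup.eq_of_le_of_card_ge le_sup_left h1
        apply haC
        rw [this]
        exact Subgroup.mem_sup_right (Subgroup.mem_zpowers a)
    have hle2 : Nat.card C₂ ≤ Nat.card A := Subgroup.card_le_of_le hC₂A
    have hstep : K ⊓ Subgroup.centralizer {a} ≤ G ⊓ Subgroup.centralizer (C₂ : Set X) := by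
      intro x hx
      obtain ⟨⟨hxG, hxC⟩, hxa⟩ := hx
      refine Subgroup.mem_inf.mpr ⟨hxG, ?_⟩
      have hle : C₂ ≤ Subgroup.centralizer {x} := by
        refine sup_le ?_ ?_
        · intro c hc
          rw [Subgroup.mem_centralizer_singleton_iff]
          exact (Subgroup.mem_centralizer_iff.mp hxC) c hc
        · rw [Subgroup.zpowers_le, Subgroup.mem_centralizer_singleton_iff]
          exact (Subgroup.mem_centralizer_singleton_iff.mp hxa).symm
      rw [Subgroup.mem_centralizer_iff]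
      intro c hc
      exact Subgroup.mem_centralizer_singleton_iff.mp (hle hc)
    exact hstep.trans (ih (Nat.card A - Nat.card C₂) (by omega) C₂ hC₂A rfl)

include hAG hcop in
/-- **KS 8.3.4 (a)**: an abelian group `A` acting coprimely on `G`: `G` is generated by the
fixed points of the subgroups `B ≤ A` with `A/B` cyclic. -/
theorem iSup_centralizer_cyclic_quot_eq :
    (⨆ B ∈ {B : Subgroup X | B ≤ A ∧ ∃ a ∈ A, B ⊔ Subgroup.zpowers a = A},
      G ⊓ Subgroup.centralizer (B : Set X)) = G := by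
  apply le_antisymm (iSup₂_le fun B _ => inf_le_left)
  have h := centralizer_le_iSup_cyclic_quot A G hAG hcop _ ⊥ bot_le rfl
  have hbot : G ⊓ Subgroup.centralizer ((⊥ : Subgroup X) : Set X) = G := by
    rw [inf_eq_left]
    intro g _
    rw [Subgroup.mem_centralizer_iff]
    intro c hc
    have : c = 1 := hc
    rw [this]; simp
  rwa [hbot] at h

include hAG hcop in
/-- **KS 8.3.4 (b)**: `[G, A]` is generated by the `[C_G(B), A]`, `A/B` cyclic. -/
theorem iSup_commutator_cyclic_quot_eq :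
    (⨆ B ∈ {B : Subgroup X | B ≤ A ∧ ∃ a ∈ A, B ⊔ Subgroup.zpowers a = A},
      ⁅G ⊓ Subgroup.centralizer (B : Set X), A⁆) = ⁅G, A⁆ := by
  apply le_antisymm (iSup₂_le fun B _ => Subgroup.commutator_mono inf_le_left le_rfl)
  set G₁ : Subgroup X := ⁅G, A⁆ with hG₁
  have hAA : A ≤ Subgroup.normalizer (A : Set X) := Subgroup.le_normalizer
  have hG₁G : G₁ ≤ G := by
    rw [hG₁, Subgroup.commutator_le]
    intro g hg a ha
    have h1 : a * g⁻¹ * a⁻¹ ∈ G :=
      (Subgroup.mem_normalizer_iff.mp (hAG ha) g⁻¹).mp (G.inv_mem hg)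
    have : ⁅g, a⁆ = g * (a * g⁻¹ * a⁻¹) := by rw [commutatorElement_def]; group
    rw [this]; exact G.mul_mem hg h1
  have hAG₁ : A ≤ Subgroup.normalizer (G₁ : Set X) := le_normalizer_commutator hAG hAA
  have hcop₁ : (Nat.card A).Coprime (Nat.card G₁) :=
    Nat.Coprime.coprime_dvd_right (Subgroup.card_dvd_of_le hG₁G) hcop
  have hsolvA : Group.IsSolvable A := isSolvable_of_comm fun a b => mul_comm' a b
  have h27 : ⁅G₁, A⁆ = G₁ := Cfsg.Agent.S0027.result A G hAG hcop (Or.inl hsolvA)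
  have h1 := iSup_centralizer_cyclic_quot_eq A G₁ hAG₁ hcop₁
  set R : Subgroup X := ⨆ B ∈ {B : Subgroup X | B ≤ A ∧ ∃ a ∈ A, B ⊔ Subgroup.zpowers a = A},
      ⁅G₁ ⊓ Subgroup.centralizer (B : Set X), A⁆ with hR
  set F : Subgroup X := G₁ ⊓ Subgroup.centralizer (A : Set X) with hF
  have hAcent : ∀ B : Subgroup X, B ≤ A → A ≤ Subgroup.centralizer (B : Set X) := by
    intro B hBA a ha
    rw [Subgroup.mem_centralizer_iff]
    intro c hc
    have := mul_comm' (⟨c, hBA hc⟩ : A) ⟨a, ha⟩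
    exact congrArg (fun z : A => (z : X)) this
  have hAD : ∀ B : Subgroup X, B ≤ A →
      A ≤ Subgroup.normalizer ((G₁ ⊓ Subgroup.centralizer (B : Set X) : Subgroup X) : Set X) :=
    fun B hBA => le_normalizer_inf hAG₁ ((hAcent B hBA).trans Subgroup.le_normalizer)
  -- `G₁ ≤ R ⊔ F`
  have hG₁le : G₁ ≤ R ⊔ F := by
    rw [← h1]
    refine iSup₂_le ?_
    rintro B ⟨hBA, hB⟩
    set D : Subgroup X := G₁ ⊓ Subgroup.centralizer (B : Set X) with hD
    have hcopD : (Nat.card A).Coprime (Nat.card D) :=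
      Nat.Coprime.coprime_dvd_right (Subgroup.card_dvd_of_le inf_le_left) hcop₁
    have h26 := Cfsg.Agent.S0026.result A D (hAD B hBA) hcopD (Or.inl hsolvA)
    rw [← h26]
    refine sup_le ?_ ?_
    · refine le_sup_of_le_left ?_
      exact le_iSup₂ (f := fun (B : Subgroup X)
        (_ : B ∈ {B : Subgroup X | B ≤ A ∧ ∃ a ∈ A, B ⊔ Subgroup.zpowers a = A}) =>
          ⁅G₁ ⊓ Subgroup.centralizer (B : Set X), A⁆) B ⟨hBA, hB⟩
    · refine le_sup_of_le_right ?_
      exact inf_le_inf inf_le_left le_rfl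
  -- `F` and `A` normalize `R`
  have hFR : F ≤ Subgroup.normalizer (R : Set X) := by
    rw [hR]
    refine le_normalizer_iSup _ fun B => le_normalizer_iSup _ fun hB => ?_
    obtain ⟨hBA, -⟩ := hB
    have hFD : F ≤ G₁ ⊓ Subgroup.centralizer (B : Set X) :=
      inf_le_inf le_rfl (Subgroup.centralizer_le (by exact_mod_cast hBA))
    exact hFD.trans (le_normalizer_commutator_left _ _)
  have hAR : A ≤ Subgroup.normalizer (R : Set X) := by
    rw [hR]
    refine le_normalizer_iSup _ fun B => le_normalizer_iSup _ fun hB => ?_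
    exact le_normalizer_commutator (hAD B hB.1) hAA
  -- `[G₁, A] ≤ R`
  have hcomm : ⁅G₁, A⁆ ≤ R := by
    rw [Subgroup.commutator_le]
    intro g hg a ha
    have hg' : g ∈ ((R ⊔ F : Subgroup X) : Set X) := hG₁le hg
    rw [Subgroup.coe_mul_of_right_le_normalizer_left R F hFR] at hg'
    obtain ⟨r, hr, f, hf, rfl⟩ := hg'
    have hfa : f * a = a * f := by
      have := Subgroup.mem_centralizer_iff.mp (Subgroup.mem_inf.mp hf).2 a ha
      exact this.symm
    have h2 : a * r⁻¹ * a⁻¹ ∈ R :=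
      (Subgroup.mem_normalizer_iff.mp (hAR ha) r⁻¹).mp (R.inv_mem hr)
    have : ⁅r * f, a⁆ = r * (a * r⁻¹ * a⁻¹) := by
      rw [commutatorElement_def]
      have h3 : r * f * a * (r * f)⁻¹ * a⁻¹ = r * (f * a) * f⁻¹ * r⁻¹ * a⁻¹ := by group
      rw [h3, hfa]; group
    rw [this]; exact R.mul_mem hr h2
  rw [h27] at hcomm
  refine hcomm.trans ?_
  refine iSup₂_le fun B hB => ?_
  refine le_trans ?_ (le_iSup₂ (f := fun (B : Subgroup X)
      (_ : B ∈ {B : Subgroup X | B ≤ A ∧ ∃ a ∈ A, B ⊔ Subgroup.zpowers a = A}) =>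
        ⁅G ⊓ Subgroup.centralizer (B : Set X), A⁆) B hB)
  exact Subgroup.commutator_mono (inf_le_inf hG₁G le_rfl) le_rfl

end abelian

end Cfsg.Agent.Helper62
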