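/-
helper62: KS 9.3-type lemma: in a `p`-soluble group `M`, a `p`-subgroup `A` with `Φ(A) ≤ O_p(M)`,
`A ≰ O_p(M)` has a conjugate `A^x`, `x ∈ O_{p,p'}(M)`, such that `L = ⟨A, A^x⟩` is a "minimal
parabolic-like" group.  Abstract version along a surjection `π : M → N` with `p`-group kernel.
-/
import Mathlib
import Cfsg.Prelude.Def_Local
import Cfsg.Agent.Lib.Cores
import Cfsg.Agent.Helper11.PSolvable
import Cfsg.Agent.Helper62.AbelianGen
import Cfsg.Agent.Helper62.PSolvDual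

set_option autoImplicit false
set_option linter.unusedSectionVars false

namespace Cfsg.Agent.Helper62

open scoped commutatorElement Pointwise
open Cfsg Cfsg.Agent.Lib

section nside

variable {N : Type*} [Group N] [Finite N] {p : ℕ} [hp : Fact p.Prime]
  (Kb : Subgroup N) [hKn : Kb.Normal] (hKb : (Nat.card Kb).Coprime p)
  (Ab : Subgroup N) (hAb : IsPGroup p Ab)

include hKb hAb in
theorem inf_eq_bot_of_isPGroup_of_coprime : Ab ⊓ Kb = ⊥ := by
  obtain ⟨k, hk⟩ := IsPGroup.iff_card.mp hAb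
  apply Subgroup.inf_eq_bot_of_coprime
  rw [hk]
  exact Nat.Coprime.pow_left k hKb.symm

include hKb hAb in
/-- an element of the normal `p'`-subgroup `Kb` normalizing the `p`-subgroup `Ab` centralizes it -/
theorem mem_centralizer_of_cj_eq {k : N} (hk : k ∈ Kb) (h : cj k Ab = Ab) :
    k ∈ Subgroup.centralizer (Ab : Set N) := by
  rw [Subgroup.mem_centralizer_iff]
  intro a ha
  have h1 : k * a * k⁻¹ ∈ Ab := by
    rw [← h, mem_cj]; exact ⟨a, ha, rfl⟩
  have h2 : k * a * k⁻¹ * a⁻¹ ∈ Ab := Ab.mul_mem h1 (Ab.inv_mem ha)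
  have h3 : k * a * k⁻¹ * a⁻¹ ∈ Kb := by
    have : k * a * k⁻¹ * a⁻¹ = k * (a * k⁻¹ * a⁻¹) := by group
    rw [this]
    exact Kb.mul_mem hk (hKn.conj_mem _ (Kb.inv_mem hk) a)
  have h4 : k * a * k⁻¹ * a⁻¹ ∈ Ab ⊓ Kb := Subgroup.mem_inf.mpr ⟨h2, h3⟩
  rw [inf_eq_bot_of_isPGroup_of_coprime Kb hKb Ab hAb, Subgroup.mem_bot] at h4
  calc a * k = (k * a * k⁻¹ * a⁻¹)⁻¹ * (k * a) := by group
    _ = k * a := by rw [h4, inv_one, one_mul]

include hKb hAb in
/-- if `Ab` and its conjugate under `k ∈ Kb` generate a `p`-group, they coincide -/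
theorem cj_eq_of_isPGroup_sup {k : N} (hk : k ∈ Kb) (h : IsPGroup p (Ab ⊔ cj k Ab : Subgroup N)) :
    cj k Ab = Ab := by
  have hcjle : cj k Ab ≤ Ab ⊔ Kb := by
    intro y hy
    obtain ⟨a, ha, rfl⟩ := mem_cj.mp hy
    have : k * a * k⁻¹ = (k * (a * k⁻¹ * a⁻¹)) * a := by group
    rw [this]
    exact Subgroup.mul_mem _
      (Subgroup.mem_sup_right (Kb.mul_mem hk (hKn.conj_mem _ (Kb.inv_mem hk) a)))
      (Subgroup.mem_sup_left ha)
  have hT : Ab ⊔ cj k Ab ≤ Ab ⊔ Kb := sup_le le_sup_left hcjle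
  have hAN : Ab ≤ Subgroup.normalizer (Kb : Set N) := by
    rw [Subgroup.normalizer_eq_top]; exact le_top
  have h1 : Nat.card (Ab ⊔ cj k Ab : Subgroup N) ∣ Nat.card Ab * Nat.card Kb :=
    (Subgroup.card_dvd_of_le hT).trans (card_sup_dvd_of_le_normalizer hAN)
  obtain ⟨t, ht⟩ := IsPGroup.iff_card.mp h
  have h2 : Nat.card (Ab ⊔ cj k Ab : Subgroup N) ∣ Nat.card Ab := by
    apply Nat.Coprime.dvd_of_dvd_mul_right _ h1
    rw [ht]
    exact Nat.Coprime.pow_left t hKb.symm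
  have h3 : Ab = Ab ⊔ cj k Ab :=
    Subgroup.eq_of_le_of_card_ge le_sup_left (Nat.le_of_dvd Nat.card_pos h2)
  have h4 : cj k Ab ≤ Ab := by
    calc cj k Ab ≤ Ab ⊔ cj k Ab := le_sup_right
      _ = Ab := h3.symm
  apply Subgroup.eq_of_le_of_card_ge h4
  apply le_of_eq
  exact Nat.card_congr (Ab.equivMapOfInjective _ (MulAut.conj k).injective).toEquiv

end nside

theorem cj_le_sup_of_mem_normal {N : Type*} [Group N] (Kb : Subgroup N) [hKn : Kb.Normal]
    (Ab : Subgroup N) {k : N} (hk : k ∈ Kb) : cj k Ab ≤ Ab ⊔ Kb := by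
  intro y hy
  obtain ⟨a, ha, rfl⟩ := mem_cj.mp hy
  have : k * a * k⁻¹ = (k * (a * k⁻¹ * a⁻¹)) * a := by group
  rw [this]
  exact Subgroup.mul_mem _
    (Subgroup.mem_sup_right (Kb.mul_mem hk (hKn.conj_mem _ (Kb.inv_mem hk) a)))
    (Subgroup.mem_sup_left ha)

section main

variable {M : Type*} {N : Type*} [Group M] [Group N] [Finite M] [Finite N] {p : ℕ}
  [hp : Fact p.Prime]
  (π : M →* N) (hπ : Function.Surjective π) (hker : IsPGroup p π.ker)
  (Kb : Subgroup N) [hKn : Kb.Normal] (hKb : (Nat.card Kb).Coprime p)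
  (hcen : Subgroup.centralizer (Kb : Set N) ≤ Kb)
  (A : Subgroup M) (hA : IsPGroup p A)

/-- `L x = ⟨A, A^x⟩` -/
abbrev pairGen (A : Subgroup M) (x : M) : Subgroup M := A ⊔ cj x A

theorem map_cj (B : Subgroup M) (x : M) : (cj x B).map π = cj (π x) (B.map π) := by
  unfold cj
  rw [Subgroup.map_map, Subgroup.map_map]
  congr 1
  ext a
  simp

theorem map_pairGen (x : M) :
    (pairGen A x).map π = A.map π ⊔ cj (π x) (A.map π) := by
  unfold pairGen
  rw [Subgroup.map_sup, map_cj]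

include hker hKb hA in
theorem isPGroup_pairGen_iff {x : M} (hx : π x ∈ Kb) :
    IsPGroup p (pairGen A x) ↔ π x ∈ Subgroup.centralizer ((A.map π : Subgroup N) : Set N) := by
  have hAb : IsPGroup p (A.map π) := hA.map π
  constructor
  · intro h
    have h1 : IsPGroup p ((pairGen A x).map π) := h.map π
    rw [map_pairGen] at h1
    exact mem_centralizer_of_cj_eq Kb hKb _ hAb hx (cj_eq_of_isPGroup_sup Kb hKb _ hAb hx h1)
  · intro h
    have h1 : cj (π x) (A.map π) = A.map π :=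
      cj_eq_self_of_mem_normalizer (Subgroup.centralizer_le_normalizer _ h)
    have h2 : (pairGen A x).map π ≤ A.map π := by
      rw [map_pairGen, h1, sup_idem]
    have h3 : pairGen A x ≤ A ⊔ π.ker := by
      rw [← Subgroup.comap_map_eq]
      exact Subgroup.map_le_iff_le_comap.mp h2
    exact (hA.to_sup_of_normal_right hker).to_le h3

include hKb hcen hA in
theorem exists_not_centralizing (hnot : ¬ A ≤ π.ker) :
    ∃ k ∈ Kb, k ∉ Subgroup.centralizer ((A.map π : Subgroup N) : Set N) := by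
  by_contra hall
  push Not at hall
  apply hnot
  have hAb : IsPGroup p (A.map π) := hA.map π
  have h1 : A.map π ≤ Subgroup.centralizer (Kb : Set N) :=
    Subgroup.le_centralizer_iff.mp hall
  have h2 : A.map π ≤ A.map π ⊓ Kb := le_inf le_rfl (h1.trans hcen)
  rw [inf_eq_bot_of_isPGroup_of_coprime Kb hKb _ hAb, le_bot_iff] at h2
  intro a ha
  rw [MonoidHom.mem_ker]
  have : π a ∈ A.map π := Subgroup.mem_map_of_mem π ha
  rw [h2, Subgroup.mem_bot] at this
  exact this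

include hKb hA in
/-- `O^p(L) ≤ K` -/
theorem map_pResidual_pairGen_le {x : M} (hx : π x ∈ Kb) :
    ((pResidual p ↥(pairGen A x)).map (pairGen A x).subtype).map π ≤ Kb := by
  have hAb : IsPGroup p (A.map π) := hA.map π
  rw [Subgroup.map_le_iff_le_comap, Subgroup.map_le_iff_le_comap]
  unfold pResidual
  rw [Subgroup.closure_le]
  intro g hg
  have hg' : (orderOf g).Coprime p := hg
  show π (g : M) ∈ Kb
  have h1 : π (g : M) ∈ (pairGen A x).map π := Subgroup.mem_map_of_mem π g.2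
  rw [map_pairGen] at h1
  have h2 : π (g : M) ∈ A.map π ⊔ Kb :=
    (sup_le le_sup_left (cj_le_sup_of_mem_normal Kb _ hx)) h1
  have h3 : π (g : M) ∈ ((A.map π : Subgroup N) : Set N) * (Kb : Set N) := by
    rw [← Subgroup.mul_normal]; exact h2
  obtain ⟨a, ha, k, hk, hak⟩ := Set.mem_mul.mp h3
  have hgm : (π (g : M)) ^ orderOf g = 1 := by
    rw [← map_pow, ← Subgroup.coe_pow, pow_orderOf_eq_one]; simp
  obtain ⟨j, hj⟩ := hAb ⟨a, ha⟩
  have haj : a ^ p ^ j = 1 := by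
    have := congrArg Subtype.val hj
    simpa using this
  -- in the quotient
  have hq1 : (QuotientGroup.mk' Kb a) ^ orderOf g = 1 := by
    have : QuotientGroup.mk' Kb a = QuotientGroup.mk' Kb (π (g : M)) := by
      rw [← hak, map_mul]
      have : QuotientGroup.mk' Kb k = 1 := by
        rw [QuotientGroup.mk'_apply, QuotientGroup.eq_one_iff]; exact hk
      rw [this, mul_one]
    rw [this, ← map_pow, hgm, map_one]
  have hq2 : (QuotientGroup.mk' Kb a) ^ p ^ j = 1 := by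
    rw [← map_pow, haj, map_one]
  have hq3 : orderOf (QuotientGroup.mk' Kb a) = 1 := by
    have d1 := orderOf_dvd_of_pow_eq_one hq1
    have d2 := orderOf_dvd_of_pow_eq_one hq2
    exact Nat.eq_one_of_dvd_coprimes (Nat.Coprime.pow_right j hg') d1 d2
  have haK : a ∈ Kb := by
    rw [orderOf_eq_one_iff, QuotientGroup.mk'_apply, QuotientGroup.eq_one_iff] at hq3
    exact hq3
  rw [← hak]
  exact Kb.mul_mem haK hk

end main

theorem pResidualOf_congr {M : Type*} [Group M] {p : ℕ} {H₁ H₂ : Subgroup M} (h : H₁ = H₂) :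
    (pResidual p ↥H₁).map H₁.subtype = (pResidual p ↥H₂).map H₂.subtype := by
  subst h; rfl

theorem pCoreOf_congr {M : Type*} [Group M] {p : ℕ} {H₁ H₂ : Subgroup M} (h : H₁ = H₂) :
    (pCore p ↥H₁).map H₁.subtype = (pCore p ↥H₂).map H₂.subtype := by
  subst h; rfl

/-- `O^p(L) S = L` for a Sylow `p`-subgroup `S` -/
theorem pResidual_sup_sylow_eq_top {L : Type*} [Group L] [Finite L] {p : ℕ} [hp : Fact p.Prime]
    (S : Sylow p L) : pResidual p L ⊔ (S : Subgroup L) = ⊤ := by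
  rw [← Subgroup.index_eq_one]
  obtain ⟨m, hm⟩ := index_pResidual (G := L) p
  have h1 : (pResidual p L ⊔ (S : Subgroup L)).index ∣ p ^ m := by
    rw [← hm]; exact Subgroup.index_dvd_of_le le_sup_left
  have h2 : (pResidual p L ⊔ (S : Subgroup L)).index ∣ (S : Subgroup L).index :=
    Subgroup.index_dvd_of_le le_sup_right
  have h3 : ((S : Subgroup L).index).Coprime (p ^ m) :=
    Nat.Coprime.pow_right m ((Nat.coprime_comm.mp ((Nat.Prime.coprime_iff_not_dvd hp.out).mpr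
      S.not_dvd_index)))
  exact Nat.eq_one_of_dvd_coprimes h3 h2 h1

section main

variable {M : Type*} {N : Type*} [Group M] [Group N] [Finite M] [Finite N] {p : ℕ}
  [hp : Fact p.Prime]
  (π : M →* N) (hπ : Function.Surjective π) (hker : IsPGroup p π.ker)
  (Kb : Subgroup N) [hKn : Kb.Normal] (hKb : (Nat.card Kb).Coprime p)
  (hcen : Subgroup.centralizer (Kb : Set N) ≤ Kb)
  (A : Subgroup M) (hA : IsPGroup p A)

include hker hKb hA in
theorem exists_mem_pResidual_not_centralizing {x : M} (hx : π x ∈ Kb)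
    (hxc : π x ∉ Subgroup.centralizer ((A.map π : Subgroup N) : Set N)) :
    ∃ r ∈ (pResidual p ↥(pairGen A x)).map (pairGen A x).subtype,
      π r ∉ Subgroup.centralizer ((A.map π : Subgroup N) : Set N) := by
  obtain ⟨L, hL⟩ : ∃ L, L = pairGen A x := ⟨_, rfl⟩
  rw [← hL]
  have hAL : A ≤ L := hL ▸ le_sup_left
  have hBL : cj x A ≤ L := hL ▸ le_sup_right
  have hA' : IsPGroup p (A.subgroupOf L) := hA.comap_subtype
  have hB' : IsPGroup p ((cj x A).subgroupOf L) := (hA.map _).comap_subtype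
  obtain ⟨S, hS⟩ := hA'.exists_le_sylow
  obtain ⟨S₂, hS₂⟩ := hB'.exists_le_sylow
  obtain ⟨l, hl⟩ := MulAction.exists_smul_eq ↥L S S₂
  have htop := pResidual_sup_sylow_eq_top S
  have hl' : l ∈ ((pResidual p ↥L : Subgroup ↥L) : Set ↥L) * ((S : Subgroup ↥L) : Set ↥L) := by
    rw [← Subgroup.normal_mul, htop]; trivial
  obtain ⟨r, hr, s, hs, hrs⟩ := Set.mem_mul.mp hl'
  have hsS : s • S = S := Sylow.smul_eq_iff_mem_normalizer.mpr (Subgroup.le_normalizer hs)
  have hS₂r : S₂ = r • S := by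
    rw [← hl, ← hrs, mul_smul, hsS]
  refine ⟨(r : M), ⟨r, hr, rfl⟩, ?_⟩
  have hrK : π (r : M) ∈ Kb := by
    apply map_pResidual_pairGen_le π Kb hKb A hA hx
    refine Subgroup.mem_map_of_mem π ?_
    rw [← hL]
    exact ⟨r, hr, rfl⟩
  intro hrc
  apply hxc
  -- `y = r⁻¹ x`
  have hy : π ((r : M)⁻¹ * x) ∈ Kb := by
    rw [map_mul, map_inv]; exact Kb.mul_mem (Kb.inv_mem hrK) hx
  have hpy : IsPGroup p (pairGen A ((r : M)⁻¹ * x)) := by
    have hle : pairGen A ((r : M)⁻¹ * x) ≤ (S : Subgroup ↥L).map L.subtype := by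
      refine sup_le ?_ ?_
      · intro a ha
        exact ⟨⟨a, hAL ha⟩, hS (Subgroup.mem_subgroupOf.mpr ha), rfl⟩
      · intro y hy
        obtain ⟨a, ha, rfl⟩ := mem_cj.mp hy
        have hb : x * a * x⁻¹ ∈ cj x A := mem_cj.mpr ⟨a, ha, rfl⟩
        have hb2 : (⟨x * a * x⁻¹, hBL hb⟩ : ↥L) ∈ (S₂ : Subgroup ↥L) :=
          hS₂ (Subgroup.mem_subgroupOf.mpr hb)
        rw [hS₂r, Sylow.coe_subgroup_smul, Subgroup.mem_smul_pointwise_iff_exists] at hb2
        obtain ⟨s', hs', hs'eq⟩ := hb2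
        rw [MulAut.smul_def, MulAut.conj_apply] at hs'eq
        refine ⟨s', hs', ?_⟩
        have h1 : (r : M) * (s' : M) * (r : M)⁻¹ = x * a * x⁻¹ := by
          have := congrArg Subtype.val hs'eq
          simpa using this
        show (s' : M) = (r : M)⁻¹ * x * a * ((r : M)⁻¹ * x)⁻¹
        calc (s' : M) = (r : M)⁻¹ * ((r : M) * (s' : M) * (r : M)⁻¹) * (r : M) := by group
          _ = (r : M)⁻¹ * x * a * ((r : M)⁻¹ * x)⁻¹ := by rw [h1]; group
    exact (S.isPGroup'.map L.subtype).to_le hle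
  have hyc := (isPGroup_pairGen_iff π hker Kb hKb A hA hy).mp hpy
  have : π x = π (r : M) * π ((r : M)⁻¹ * x) := by
    rw [← map_mul]; congr 1; group
  rw [this]
  exact Subgroup.mul_mem _ hrc hyc

theorem pairGen_le_of_mem {L : Subgroup M} (hAL : A ≤ L) {r : M} (hr : r ∈ L) :
    pairGen A r ≤ L := by
  refine sup_le hAL ?_
  intro y hy
  obtain ⟨a, ha, rfl⟩ := mem_cj.mp hy
  exact L.mul_mem (L.mul_mem hr (hAL ha)) (L.inv_mem hr)

include hπ hker hKb hcen hA in
theorem exists_minimal_pair (hnot : ¬ A ≤ π.ker) :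
    ∃ x : M, π x ∈ Kb ∧ π x ∉ Subgroup.centralizer ((A.map π : Subgroup N) : Set N) ∧
      x ∈ (pResidual p ↥(pairGen A x)).map (pairGen A x).subtype ∧
      ∀ y : M, π y ∈ Kb → π y ∉ Subgroup.centralizer ((A.map π : Subgroup N) : Set N) →
        pairGen A y ≤ pairGen A x → pairGen A y = pairGen A x := by
  classical
  obtain ⟨k, hkK, hkc⟩ := exists_not_centralizing π Kb hKb hcen A hA hnot
  obtain ⟨x₀, rfl⟩ := hπ k
  set 𝓧 : Set M := {x | π x ∈ Kb ∧ π x ∉ Subgroup.centralizer ((A.map π : Subgroup N) : Set N)}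
    with h𝓧
  have hne : 𝓧.Nonempty := ⟨x₀, hkK, hkc⟩
  obtain ⟨x, hx𝓧, hmin⟩ := Set.exists_min_image 𝓧 (fun x => Nat.card (pairGen A x))
    (Set.toFinite _) hne
  obtain ⟨hxK, hxc⟩ := hx𝓧
  obtain ⟨r, hrR, hrc⟩ := exists_mem_pResidual_not_centralizing π hker Kb hKb A hA hxK hxc
  have hrK : π r ∈ Kb :=
    map_pResidual_pairGen_le π Kb hKb A hA hxK (Subgroup.mem_map_of_mem π hrR)
  have hrL : r ∈ pairGen A x := Subgroup.map_subtype_le _ hrR
  have hle : pairGen A r ≤ pairGen A x := pairGen_le_of_mem A le_sup_left hrL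
  have heq : pairGen A r = pairGen A x :=
    Subgroup.eq_of_le_of_card_ge hle (hmin r ⟨hrK, hrc⟩)
  refine ⟨r, hrK, hrc, ?_, ?_⟩
  · rw [pResidualOf_congr heq]; exact hrR
  · intro y hyK hyc hyle
    rw [heq] at hyle ⊢
    exact Subgroup.eq_of_le_of_card_ge hyle (hmin y ⟨hyK, hyc⟩)

include hπ hker hKb hcen hA in
theorem exists_pair (hab : ∀ a ∈ A, ∀ b ∈ A, π a * π b = π b * π a)
    (hexp : ∀ a ∈ A, π a ^ p = 1) (hnot : ¬ A ≤ π.ker) :
    ∃ x : M, π x ∈ Kb ∧
      x ∈ (pResidual p ↥(pairGen A x)).map (pairGen A x).subtype ∧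
      ((pResidual p ↥(pairGen A x)).map (pairGen A x).subtype).map π ≤ Kb ∧
      ⁅(pResidual p ↥(pairGen A x)).map (pairGen A x).subtype, A⁆ =
        (pResidual p ↥(pairGen A x)).map (pairGen A x).subtype ∧
      (A ⊓ (pCore p ↥(pairGen A x)).map (pairGen A x).subtype).relIndex A = p ∧
      ⁅A ⊓ (pCore p ↥(pairGen A x)).map (pairGen A x).subtype, pairGen A x⁆ ≤ π.ker := by
  classical
  obtain ⟨x, hxK, hxc, hxR, hmin⟩ := exists_minimal_pair π hπ hker Kb hKb hcen A hA hnot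
  have hRK := map_pResidual_pairGen_le π Kb hKb A hA hxK
  refine ⟨x, hxK, hxR, hRK, ?_⟩
  obtain ⟨L, hL⟩ : ∃ L, L = pairGen A x := ⟨_, rfl⟩
  rw [← hL] at hxR hmin hRK ⊢
  obtain ⟨R, hR⟩ : ∃ R, R = (pResidual p ↥L).map L.subtype := ⟨_, rfl⟩
  obtain ⟨P, hP⟩ : ∃ P, P = (pCore p ↥L).map L.subtype := ⟨_, rfl⟩
  rw [← hR] at hxR hRK ⊢
  rw [← hP]
  have hAL : A ≤ L := hL ▸ le_sup_left
  have hRL : R ≤ L := hR ▸ Subgroup.map_subtype_le _
  have hLR : L ≤ Subgroup.normalizer (R : Set M) := by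
    have h1 := Subgroup.le_normalizer_map (H := pResidual p ↥L) L.subtype
    rw [Subgroup.normalizer_eq_top, ← MonoidHom.range_eq_map, Subgroup.range_subtype] at h1
    rw [hR]; exact h1
  have hconj_mem : ∀ a ∈ A, a * x⁻¹ * a⁻¹ ∈ R := fun a ha =>
    (Subgroup.mem_normalizer_iff.mp (hLR (hAL ha)) x⁻¹).mp (R.inv_mem hxR)
  have hL_le : L ≤ R ⊔ A := by
    rw [hL]
    refine sup_le le_sup_right ?_
    intro y hy
    obtain ⟨a, ha, rfl⟩ := mem_cj.mp hy
    have : x * a * x⁻¹ = (x * (a * x⁻¹ * a⁻¹)) * a := by group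
    rw [this]
    exact Subgroup.mul_mem _ (Subgroup.mem_sup_left (R.mul_mem hxR (hconj_mem a ha)))
      (Subgroup.mem_sup_right ha)
  -- (4)
  have h4le : ⁅R, A⁆ ≤ R := by
    rw [Subgroup.commutator_le]
    intro r hr a ha
    have : ⁅r, a⁆ = r * (a * r⁻¹ * a⁻¹) := by rw [commutatorElement_def]; group
    rw [this]
    exact R.mul_mem hr ((Subgroup.mem_normalizer_iff.mp (hLR (hAL ha)) r⁻¹).mp (R.inv_mem hr))
  have h4 : ⁅R, A⁆ = R := by
    apply le_antisymm h4le
    obtain ⟨R₁, hR₁⟩ : ∃ R₁, R₁ = ⁅R, A⁆ := ⟨_, rfl⟩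
    rw [← hR₁]
    have hR₁R : R₁ ≤ R := hR₁ ▸ h4le
    have hA_N : A ≤ Subgroup.normalizer (R₁ : Set M) := by
      rw [hR₁]
      exact le_normalizer_commutator (hAL.trans hLR) Subgroup.le_normalizer
    have hR_N : R ≤ Subgroup.normalizer (R₁ : Set M) := by
      rw [hR₁]; exact le_normalizer_commutator_left R A
    have hLN : L ≤ Subgroup.normalizer (R₁ : Set M) := hL_le.trans (sup_le hR_N hA_N)
    have hL_le₁ : L ≤ A ⊔ R₁ := by
      rw [hL]
      refine sup_le le_sup_left ?_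
      intro y hy
      obtain ⟨a, ha, rfl⟩ := mem_cj.mp hy
      have : x * a * x⁻¹ = ⁅x, a⁆ * a := by rw [commutatorElement_def]; group
      rw [this]
      refine Subgroup.mul_mem _ (Subgroup.mem_sup_right ?_) (Subgroup.mem_sup_left ha)
      rw [hR₁]
      exact Subgroup.commutator_mem_commutator hxR ha
    have hcard : Nat.card L ∣ Nat.card A * Nat.card R₁ :=
      (Subgroup.card_dvd_of_le hL_le₁).trans (card_sup_dvd_of_le_normalizer hA_N)
    have hn : (R₁.subgroupOf L).Normal := Subgroup.normal_subgroupOf_of_le_normalizer hLN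
    have hR₁L : R₁ ≤ L := hR₁R.trans hRL
    have hidx : (R₁.subgroupOf L).index ∣ Nat.card A := by
      have h1 : Nat.card R₁ * R₁.relIndex L = Nat.card L :=
        Cfsg.Agent.Helper11.card_mul_relIndex hR₁L
      rw [← h1, mul_comm (Nat.card A)] at hcard
      exact Nat.dvd_of_mul_dvd_mul_left Nat.card_pos hcard
    obtain ⟨k, hk⟩ := IsPGroup.iff_card.mp hA
    rw [hk] at hidx
    obtain ⟨j, -, hj⟩ := (Nat.dvd_prime_pow hp.out).mp hidx
    have hq : IsPGroup p (↥L ⧸ R₁.subgroupOf L) :=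
      IsPGroup.of_card (n := j) (by rw [← hj]; exact (Subgroup.index_eq_card _).symm)
    have hres := pResidual_le_of_isPGroup_quotient (R₁.subgroupOf L) hq
    rw [hR]
    rintro y ⟨z, hz, rfl⟩
    exact Subgroup.mem_subgroupOf.mp (hres hz)
  refine ⟨h4, ?_⟩
  -- the image
  obtain ⟨Ab, hAbdef⟩ : ∃ Ab, Ab = A.map π := ⟨_, rfl⟩
  rw [← hAbdef] at hxc hmin
  have hAbp : IsPGroup p Ab := hAbdef ▸ hA.map π
  have hAbcomm : IsMulCommutative Ab := ⟨⟨by
    rintro ⟨a', ha'⟩ ⟨b', hb'⟩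
    rw [hAbdef] at ha' hb'
    obtain ⟨a, ha, rfl⟩ := ha'
    obtain ⟨b, hb, rfl⟩ := hb'
    exact Subtype.ext (hab a ha b hb)⟩⟩
  obtain ⟨Rb, hRbdef⟩ : ∃ Rb, Rb = R.map π := ⟨_, rfl⟩
  have hRbK : Rb ≤ Kb := hRbdef ▸ hRK
  have hAbN : Ab ≤ Subgroup.normalizer (Rb : Set N) := by
    have h1 : (Subgroup.normalizer (R : Set M)).map π ≤
        Subgroup.normalizer ((R.map π : Subgroup N) : Set N) := Subgroup.le_normalizer_map π
    rw [hAbdef, hRbdef]
    exact (Subgroup.map_mono (hAL.trans hLR)).trans h1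
  have hcop : (Nat.card Ab).Coprime (Nat.card Rb) := by
    obtain ⟨k, hk⟩ := IsPGroup.iff_card.mp hAbp
    rw [hk]
    exact Nat.Coprime.pow_left k
      (Nat.Coprime.coprime_dvd_left (Subgroup.card_dvd_of_le hRbK) hKb).symm
  have hRbcomm : ⁅Rb, Ab⁆ = Rb := by
    rw [hRbdef, hAbdef, ← Subgroup.map_commutator, h4]
  have hgen := iSup_commutator_cyclic_quot_eq Ab Rb hAbN hcop
  have hxRb : π x ∈ Rb := hRbdef ▸ Subgroup.mem_map_of_mem π hxR
  have hRbne : Rb ≠ ⊥ := by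
    intro h
    rw [h, Subgroup.mem_bot] at hxRb
    apply hxc
    rw [hxRb]; exact Subgroup.one_mem _
  obtain ⟨B, ⟨hBA, a₀, ha₀, hBa⟩, hBne⟩ : ∃ B : Subgroup N,
      (B ≤ Ab ∧ ∃ a ∈ Ab, B ⊔ Subgroup.zpowers a = Ab) ∧
        ⁅Rb ⊓ Subgroup.centralizer (B : Set N), Ab⁆ ≠ ⊥ := by
    by_contra hall
    push Not at hall
    apply hRbne
    rw [← hRbcomm, ← hgen]
    simp only [Set.mem_ofPred_eq, iSup_eq_bot]
    intro B hB
    exact hall B hB
  obtain ⟨zb, hzb, hzbc⟩ : ∃ zb ∈ Rb ⊓ Subgroup.centralizer (B : Set N),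
      zb ∉ Subgroup.centralizer (Ab : Set N) := by
    by_contra hall
    push Not at hall
    apply hBne
    rw [Subgroup.commutator_eq_bot_iff_le_centralizer]
    exact hall
  obtain ⟨hzbR, hzbB⟩ := Subgroup.mem_inf.mp hzb
  rw [hRbdef] at hzbR
  obtain ⟨z, hzR, rfl⟩ := hzbR
  have hzL : z ∈ L := hRL hzR
  have hLz : pairGen A z = L :=
    hmin z (hRK (Subgroup.mem_map_of_mem π hzR)) hzbc (pairGen_le_of_mem A hAL hzL)
  have hLbB : L.map π ≤ Subgroup.centralizer (B : Set N) := by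
    rw [← hLz, map_pairGen, ← hAbdef]
    refine sup_le ?_ ?_
    · intro a ha
      rw [Subgroup.mem_centralizer_iff]
      intro b hb
      have := mul_comm' (⟨b, hBA hb⟩ : Ab) ⟨a, ha⟩
      exact congrArg Subtype.val this
    · intro y hy
      obtain ⟨a, ha, rfl⟩ := mem_cj.mp hy
      rw [Subgroup.mem_centralizer_iff]
      intro b hb
      have h1 : Commute b a := by
        have := mul_comm' (⟨b, hBA hb⟩ : Ab) ⟨a, ha⟩
        exact congrArg Subtype.val this
      have h2 : Commute b (π z) := Subgroup.mem_centralizer_iff.mp hzbB b hb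
      exact ((h2.mul_right h1).mul_right h2.inv_right).eq
  -- `P`
  have hPchar : (pCore p ↥L).Characteristic := pCore_characteristic p
  have hPn : (pCore p ↥L).Normal := Subgroup.normal_of_characteristic _
  obtain ⟨A₂, hA₂⟩ : ∃ A₂, A₂ = A ⊓ B.comap π := ⟨_, rfl⟩
  have hA₂P : A₂ ≤ P := by
    obtain ⟨P₁, hP₁⟩ : ∃ P₁ : Subgroup ↥L, P₁ = (B.comap π).subgroupOf L := ⟨_, rfl⟩
    have hP₁n : P₁.Normal := ⟨fun n hn g => by
      rw [hP₁, Subgroup.mem_subgroupOf, Subgroup.mem_comap] at hn ⊢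
      have hg : π (g : M) ∈ L.map π := Subgroup.mem_map_of_mem π g.2
      have hc : Commute (π (n : M)) (π (g : M)) :=
        Subgroup.mem_centralizer_iff.mp (hLbB hg) _ hn
      have : π ((g * n * g⁻¹ : ↥L) : M) = π (n : M) := by
        simp only [Subgroup.coe_mul, Subgroup.coe_inv, map_mul, map_inv]
        rw [← hc.eq]; group
      rw [this]; exact hn⟩
    have hP₁p : IsPGroup p P₁ := by
      have h1 : B.comap π ≤ A ⊔ π.ker := by
        rw [← Subgroup.comap_map_eq, ← hAbdef]; exact Subgroup.comap_mono hBA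
      rw [hP₁]
      exact ((hA.to_sup_of_normal_right hker).to_le h1).comap_subtype
    have hle := le_pCore hP₁n hP₁p
    intro a ha
    rw [hA₂] at ha
    obtain ⟨haA, haB⟩ := Subgroup.mem_inf.mp ha
    rw [hP]
    refine ⟨⟨a, hAL haA⟩, hle ?_, rfl⟩
    rw [hP₁]
    exact Subgroup.mem_subgroupOf.mpr haB
  have hPR : ∀ u ∈ P, ∀ r ∈ R, π u * π r = π r * π u := by
    intro u hu r hr
    have hPb : IsPGroup p (P.map π) := by
      rw [hP]; exact ((isPGroup_pCore p).map L.subtype).map π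
    rw [hP] at hu
    rw [hR] at hr
    obtain ⟨u', hu', rfl⟩ := hu
    obtain ⟨r', hr', rfl⟩ := hr
    have hcm : ⁅u', r'⁆ ∈ pCore p ↥L ⊓ pResidual p ↥L :=
      Subgroup.commutator_le_inf _ _ (Subgroup.commutator_mem_commutator hu' hr')
    obtain ⟨h1, h2⟩ := Subgroup.mem_inf.mp hcm
    have h3 : π ((⁅u', r'⁆ : ↥L) : M) ∈ P.map π ⊓ Kb := by
      refine Subgroup.mem_inf.mpr ⟨Subgroup.mem_map_of_mem π ?_, hRK (Subgroup.mem_map_of_mem π ?_)⟩
      · rw [hP]; exact ⟨_, h1, rfl⟩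
      · rw [hR]; exact ⟨_, h2, rfl⟩
    rw [inf_eq_bot_of_isPGroup_of_coprime Kb hKb _ hPb, Subgroup.mem_bot] at h3
    have h4' : ⁅π (u' : M), π (r' : M)⁆ = 1 := by
      rw [← map_commutatorElement]
      exact h3
    exact commutatorElement_eq_one_iff_mul_comm.mp h4'
  obtain ⟨A₁, hA₁⟩ : ∃ A₁, A₁ = A ⊓ P := ⟨_, rfl⟩
  rw [← hA₁]
  have hA₂A₁ : A₂ ≤ A₁ := by
    rw [hA₁]; exact le_inf (hA₂ ▸ inf_le_left) hA₂P
  have hdvd1 : A₁.relIndex A ∣ A₂.relIndex A := Subgroup.relIndex_dvd_of_le_left A hA₂A₁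
  have hA₂idx : A₂.relIndex A = B.relIndex Ab := by
    rw [hA₂, Subgroup.inf_relIndex_left, Subgroup.relIndex_comap, hAbdef]
  have hBidx : B.relIndex Ab ∣ p := by
    have h1 : Nat.card B * B.relIndex Ab = Nat.card Ab :=
      Cfsg.Agent.Helper11.card_mul_relIndex hBA
    have hBn : B ≤ Subgroup.normalizer ((Subgroup.zpowers a₀ : Subgroup N) : Set N) := by
      refine le_trans ?_ (Subgroup.centralizer_le_normalizer _)
      intro b hb
      rw [Subgroup.mem_centralizer_iff]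
      intro c hc
      have hcA : c ∈ Ab := (Subgroup.zpowers_le.mpr ha₀) hc
      have := mul_comm' (⟨c, hcA⟩ : Ab) ⟨b, hBA hb⟩
      exact congrArg Subtype.val this
    have h2 : Nat.card Ab ∣ Nat.card B * Nat.card (Subgroup.zpowers a₀) := by
      have := card_sup_dvd_of_le_normalizer hBn
      rwa [hBa] at this
    have h3 : Nat.card (Subgroup.zpowers a₀) ∣ p := by
      rw [Nat.card_zpowers]
      apply orderOf_dvd_of_pow_eq_one
      rw [hAbdef] at ha₀
      obtain ⟨a, ha, rfl⟩ := ha₀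
      exact hexp a ha
    rw [← h1] at h2
    exact (Nat.dvd_of_mul_dvd_mul_left Nat.card_pos h2).trans h3
  have hne1 : A₁.relIndex A ≠ 1 := by
    intro h
    have hAP : A ≤ P := by
      have := Subgroup.relIndex_eq_one.mp h
      rw [hA₁] at this
      exact this.trans inf_le_right
    apply hxc
    rw [Subgroup.mem_centralizer_iff]
    intro a' ha'
    rw [hAbdef] at ha'
    obtain ⟨a, ha, rfl⟩ := ha'
    exact hPR a (hAP ha) x hxR
  have h5 : A₁.relIndex A = p := by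
    have hd : A₁.relIndex A ∣ p := hdvd1.trans (hA₂idx ▸ hBidx)
    rcases (Nat.dvd_prime hp.out).mp hd with h | h
    · exact absurd h hne1
    · exact h
  refine ⟨h5, ?_⟩
  rw [Subgroup.commutator_le]
  intro u hu l hl
  rw [hA₁] at hu
  obtain ⟨huA, huP⟩ := Subgroup.mem_inf.mp hu
  rw [MonoidHom.mem_ker, map_commutatorElement, commutatorElement_eq_one_iff_mul_comm]
  have hle : L ≤ (Subgroup.centralizer {π u}).comap π := by
    refine hL_le.trans (sup_le ?_ ?_)
    · intro r hr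
      rw [Subgroup.mem_comap, Subgroup.mem_centralizer_singleton_iff]
      exact (hPR u huP r hr).symm
    · intro a ha
      rw [Subgroup.mem_comap, Subgroup.mem_centralizer_singleton_iff]
      exact hab a ha u huA
  have := hle hl
  rw [Subgroup.mem_comap, Subgroup.mem_centralizer_singleton_iff] at this
  exact this.symm

end main

end Cfsg.Agent.Helper62
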