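import Mathlib

set_option autoImplicit false

/-!
# An eigenvalue computation for automorphisms of a `p`-group of class 3 (helper62)

Abstract setting: `Z ≤ Z(P)` of exponent `p`, subgroups `L ≤ M` with `M` abelian, `[M, b] ≤ L`,
`[L, b] ≤ Z`, a power map `x ↦ x ^ q` from `M` to `Z` whose kernel is killed by `x ↦ [[x, b], b]`.
If an automorphism `γ` preserves `M` and sends `b` to `b ^ m * l₁` (`l₁ ∈ L`), then `m ^ 2 ≡ 1 (mod p)`.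
-/

namespace Cfsg.Agent.Helper62.RankTwoComm

open scoped commutatorElement

variable {P : Type*} [Group P]

theorem comm_mul_right (x u v : P) : ⁅x, u * v⁆ = ⁅x, u⁆ * (u * ⁅x, v⁆ * u⁻¹) := by
  simp only [commutatorElement_def]; group

theorem comm_mul_left (x x' b : P) : ⁅x * x', b⁆ = x * ⁅x', b⁆ * x⁻¹ * ⁅x, b⁆ := by
  simp only [commutatorElement_def]; group


theorem comm_mul_left_of_commute {x x' b : P} (h1 : Commute x ⁅x', b⁆) (h2 : Commute ⁅x', b⁆ ⁅x, b⁆) :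
    ⁅x * x', b⁆ = ⁅x, b⁆ * ⁅x', b⁆ := by
  rw [comm_mul_left]
  have : x * ⁅x', b⁆ * x⁻¹ = ⁅x', b⁆ := by
    rw [h1.eq]; group
  rw [this]
  exact h2.eq

/-- If `[v, b]` is central then `[v, b ^ j] = [v, b] ^ j`. -/
theorem comm_pow_right_of_central {v b : P} (hc : ∀ g : P, ⁅v, b⁆ * g = g * ⁅v, b⁆) (j : ℕ) :
    ⁅v, b ^ j⁆ = ⁅v, b⁆ ^ j := by
  induction j with
  | zero => simp
  | succ j ih =>
    rw [pow_succ', comm_mul_right, ih]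
    have h1 : b * ⁅v, b⁆ ^ j * b⁻¹ = ⁅v, b⁆ ^ j := by
      have : Commute (⁅v, b⁆ ^ j) b := Commute.pow_left (hc b) j
      rw [← this.eq]; group
    rw [h1, pow_succ']

theorem sq_modEq_one {p : ℕ} [hp : Fact p.Prime] (Z L M : Subgroup P) (b : P) (q m : ℕ)
    (γ : MulAut P) (l₁ : P)
    (hZc : ∀ z ∈ Z, ∀ g : P, z * g = g * z)
    (hZp : ∀ z ∈ Z, z ^ p = 1)
    (hLM : L ≤ M)
    (hLc : ∀ l ∈ L, ∀ x ∈ M, l * x = x * l)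
    (hLb : ∀ l ∈ L, ⁅l, b⁆ ∈ Z)
    (hMb : ∀ x ∈ M, ⁅x, b⁆ ∈ L)
    (hMab : ∀ x ∈ M, ∀ x' ∈ M, x * x' = x' * x)
    (hΨ : ∀ x ∈ M, x ^ q ∈ Z)
    (hcyc : ∀ z ∈ Z, ∀ w ∈ Z, w ≠ 1 → ∃ i : ℕ, z = w ^ i)
    (hE1 : ∀ x ∈ M, x ^ q = 1 → ⁅⁅x, b⁆, b⁆ = 1)
    (y : P) (hy : y ∈ M) (hy2 : ⁅⁅y, b⁆, b⁆ ≠ 1)
    (hγM : ∀ x ∈ M, γ x ∈ M)
    (hl₁ : l₁ ∈ L) (hγb : γ b = b ^ m * l₁) :
    m ^ 2 ≡ 1 [MOD p] := by
  have hpp : p.Prime := hp.out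
  -- `x ↦ [x, b]` is multiplicative on `M`
  have homM : ∀ x ∈ M, ∀ x' ∈ M, ⁅x * x', b⁆ = ⁅x, b⁆ * ⁅x', b⁆ := by
    intro x hx x' hx'
    rw [comm_mul_left]
    have h1 : x * ⁅x', b⁆ * x⁻¹ = ⁅x', b⁆ := by
      rw [← hLc _ (hMb x' hx') x hx]; group
    rw [h1]
    exact hMab _ (hLM (hMb x' hx')) _ (hLM (hMb x hx))
  -- `w ↦ [w, b]` is multiplicative on `L`
  have homL : ∀ w ∈ L, ∀ w' ∈ L, ⁅w * w', b⁆ = ⁅w, b⁆ * ⁅w', b⁆ := by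
    intro w hw w' hw'
    rw [comm_mul_left]
    have h1 : w * ⁅w', b⁆ * w⁻¹ = ⁅w', b⁆ := by
      rw [← hZc _ (hLb w' hw') w]; group
    rw [h1]
    exact hZc _ (hLb w' hw') _
  have homL_pow : ∀ w ∈ L, ∀ j : ℕ, ⁅w ^ j, b⁆ = ⁅w, b⁆ ^ j := by
    intro w hw j
    induction j with
    | zero => simp
    | succ j ih =>
      rw [pow_succ, homL _ (L.pow_mem hw j) _ hw, ih, pow_succ]
  -- `D x = [[x, b], b]` is multiplicative on `M`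
  have homD : ∀ x ∈ M, ∀ x' ∈ M, ⁅⁅x * x', b⁆, b⁆ = ⁅⁅x, b⁆, b⁆ * ⁅⁅x', b⁆, b⁆ := by
    intro x hx x' hx'
    rw [homM x hx x' hx', homL _ (hMb x hx) _ (hMb x' hx')]
  have homD_pow : ∀ x ∈ M, ∀ j : ℕ, ⁅⁅x ^ j, b⁆, b⁆ = ⁅⁅x, b⁆, b⁆ ^ j := by
    intro x hx j
    induction j with
    | zero => simp
    | succ j ih =>
      rw [pow_succ, homD _ (M.pow_mem hx j) _ hx, ih, pow_succ]
  have hDZ : ∀ x ∈ M, ⁅⁅x, b⁆, b⁆ ∈ Z := fun x hx => hLb _ (hMb x hx)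
  -- conjugation by `b` on `L` is trivial modulo `Z`
  have hconj : ∀ v ∈ L, ∃ z ∈ Z, b * v * b⁻¹ = v * z := by
    intro v hv
    refine ⟨⁅v, b⁆⁻¹, Z.inv_mem (hLb v hv), ?_⟩
    have h1 := hZc _ (Z.inv_mem (hLb v hv)) v
    rw [← h1]
    simp only [commutatorElement_def]; group
  -- `[x, b ^ j] ∈ [x, b] ^ j * Z` for `x ∈ M`
  have h4b : ∀ x ∈ M, ∀ j : ℕ, ∃ z ∈ Z, ⁅x, b ^ j⁆ = ⁅x, b⁆ ^ j * z := by
    intro x hx j
    induction j with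
    | zero => exact ⟨1, Z.one_mem, by simp⟩
    | succ j ih =>
      obtain ⟨z, hz, hzj⟩ := ih
      obtain ⟨z', hz', hconj'⟩ := hconj _ (L.pow_mem (hMb x hx) j)
      refine ⟨z' * z, Z.mul_mem hz' hz, ?_⟩
      rw [pow_succ', comm_mul_right, hzj]
      have h1 : b * (⁅x, b⁆ ^ j * z) * b⁻¹ = (b * ⁅x, b⁆ ^ j * b⁻¹) * z := by
        have := hZc z hz b⁻¹
        calc b * (⁅x, b⁆ ^ j * z) * b⁻¹ = b * ⁅x, b⁆ ^ j * (z * b⁻¹) := by group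
          _ = b * ⁅x, b⁆ ^ j * (b⁻¹ * z) := by rw [this]
          _ = (b * ⁅x, b⁆ ^ j * b⁻¹) * z := by group
      rw [h1, hconj', pow_succ']
      group
  -- `[v, b ^ j] = [v, b] ^ j` for `v ∈ L`
  have h4c : ∀ v ∈ L, ∀ j : ℕ, ⁅v, b ^ j⁆ = ⁅v, b⁆ ^ j := by
    intro v hv j
    induction j with
    | zero => simp
    | succ j ih =>
      rw [pow_succ', comm_mul_right, ih]
      have h1 : b * ⁅v, b⁆ ^ j * b⁻¹ = ⁅v, b⁆ ^ j := by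
        rw [← hZc _ (Z.pow_mem (hLb v hv) j) b]; group
      rw [h1, pow_succ']
  -- `[x, b ^ m * l₁] = [x, b ^ m]` for `x ∈ M`
  have h4a : ∀ x ∈ M, ⁅x, b ^ m * l₁⁆ = ⁅x, b ^ m⁆ := by
    intro x hx
    rw [comm_mul_right]
    have h1 : ⁅x, l₁⁆ = 1 := by
      rw [commutatorElement_eq_one_iff_mul_comm]
      exact (hLc l₁ hl₁ x hx).symm
    rw [h1]; group
  -- a central factor does not change the commutator
  have h4e : ∀ v : P, ∀ z ∈ Z, ∀ u : P, ⁅v * z, u⁆ = ⁅v, u⁆ := by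
    intro v z hz u
    have h1 := hZc z hz u
    have h2 := hZc z hz (u * v⁻¹ * u⁻¹)
    simp only [commutatorElement_def, mul_inv_rev]
    calc v * z * u * (z⁻¹ * v⁻¹) * u⁻¹ = v * (z * u) * z⁻¹ * v⁻¹ * u⁻¹ := by group
      _ = v * (u * z) * z⁻¹ * v⁻¹ * u⁻¹ := by rw [h1]
      _ = v * u * v⁻¹ * u⁻¹ := by group
  -- the key formula
  have hD2 : ∀ x ∈ M, ⁅⁅x, b ^ m * l₁⁆, b ^ m * l₁⁆ = ⁅⁅x, b⁆, b⁆ ^ (m * m) := by
    intro x hx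
    obtain ⟨z₃, hz₃, h3⟩ := h4b x hx m
    have hw : ⁅x, b⁆ ∈ L := hMb x hx
    rw [h4a x hx, h3, h4e _ z₃ hz₃, h4a _ (hLM (L.pow_mem hw m)), h4c _ (L.pow_mem hw m),
      homL_pow _ hw, pow_mul]
  have hD3 : ∀ x ∈ M, γ ⁅⁅x, b⁆, b⁆ = ⁅⁅γ x, b⁆, b⁆ ^ (m * m) := by
    intro x hx
    rw [map_commutatorElement, map_commutatorElement, hγb, hD2 _ (hγM x hx)]
  -- proportionality of `D` and the power map
  set w₀ := y ^ q with hw₀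
  have hw₀Z : w₀ ∈ Z := hΨ y hy
  have hw₀1 : w₀ ≠ 1 := fun h => hy2 (hE1 y hy h)
  obtain ⟨u, hu⟩ := hcyc _ (hDZ y hy) w₀ hw₀Z hw₀1
  have hprop : ∀ x ∈ M, ⁅⁅x, b⁆, b⁆ = (x ^ q) ^ u := by
    intro x hx
    obtain ⟨i, hi⟩ := hcyc _ (hΨ x hx) w₀ hw₀Z hw₀1
    have hyi : y ^ i ∈ M := M.pow_mem hy i
    have hx' : x * (y ^ i)⁻¹ ∈ M := M.mul_mem hx (M.inv_mem hyi)
    have hcomm : Commute x (y ^ i)⁻¹ := hMab _ hx _ (M.inv_mem hyi)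
    have h1 : (x * (y ^ i)⁻¹) ^ q = 1 := by
      rw [hcomm.mul_pow, hi, inv_pow, hw₀, ← pow_mul, ← pow_mul, mul_comm i q]
      exact mul_inv_cancel _
    have h2 := hE1 _ hx' h1
    have h3 : x = x * (y ^ i)⁻¹ * y ^ i := by group
    have h4 : ⁅⁅x, b⁆, b⁆ = ⁅⁅y, b⁆, b⁆ ^ i := by
      conv_lhs => rw [h3]
      rw [homD _ hx' _ hyi, h2, one_mul, homD_pow y hy]
    rw [h4, hu, hi]
    exact pow_right_comm _ _ _
  -- conclusion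
  set w := γ ⁅⁅y, b⁆, b⁆ with hw
  have hw1 : w ≠ 1 := by
    intro h
    apply hy2
    have : γ ⁅⁅y, b⁆, b⁆ = γ 1 := by rw [map_one]; exact h
    exact γ.injective this
  have hwp : w ^ p = 1 := by
    rw [hw, ← map_pow, hZp _ (hDZ y hy), map_one]
  have hww : w ^ (m * m) = w ^ 1 := by
    rw [pow_one]
    have h1 : w = ⁅⁅γ y, b⁆, b⁆ ^ (m * m) := hD3 y hy
    have h2 : ⁅⁅γ y, b⁆, b⁆ = w := by
      rw [hprop _ (hγM y hy), ← map_pow, ← map_pow, hw, hprop y hy]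
    rw [h2] at h1
    exact h1.symm
  have hord : orderOf w = p := orderOf_eq_prime hwp hw1
  have := (pow_eq_pow_iff_modEq (x := w) (n := m * m) (m := 1)).mp hww
  rw [hord] at this
  rw [pow_two]
  exact this

end Cfsg.Agent.Helper62.RankTwoComm
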