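import Mathlib
import Cfsg.Prelude.Def_Transfer
import Cfsg.Agent.Helper37.ExtraP3
import Cfsg.Agent.Helper87.ExtraSub
import Cfsg.Agent.Helper63.PGroup
import Cfsg.Agent.Helper11.Uniserial
import Cfsg.Agent.S0110
import Cfsg.Agent.S0126
import Cfsg.Agent.Helper62.RankTwoComm

set_option autoImplicit false
set_option linter.unusedSectionVars false

/-!
# The exceptional rank two `p`-groups (helper62)

`P` a finite `p`-group, `p` odd, `T = Ω₁(P)` non-abelian of order `p³` and exponent `p`, and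
`P ≠ T * C_P(T)`.  We produce a proper (characteristic) subgroup `M` of `P` such that the square of every
automorphism of `P` acts trivially on `P / M`.
-/

namespace Cfsg.Agent.Helper62.RankTwoBad

open scoped commutatorElement
open Cfsg.Agent.Helper62.RankTwoComm

/-- `Ω₁(P)`. -/
def om (p : ℕ) (P : Type*) [Group P] : Subgroup P := Subgroup.closure {x : P | x ^ p = 1}
/-- `C_P(Ω₁(P))`. -/
def cc (p : ℕ) (P : Type*) [Group P] : Subgroup P := Subgroup.centralizer (om p P : Set P)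
/-- `Z(Ω₁(P))`. -/
def zz (p : ℕ) (P : Type*) [Group P] : Subgroup P := om p P ⊓ cc p P
/-- `[Ω₁(P), P]`. -/
def ll (p : ℕ) (P : Type*) [Group P] : Subgroup P := ⁅om p P, (⊤ : Subgroup P)⁆
/-- `C_P([Ω₁(P), P])`. -/
def mm (p : ℕ) (P : Type*) [Group P] : Subgroup P := Subgroup.centralizer (ll p P : Set P)

section general

variable {P : Type*} [Group P]

theorem eq_or_eq_of_card_prime [Finite P] {p : ℕ} (hp : p.Prime) {H K J : Subgroup P} (hHK : H ≤ K) (hKJ : K ≤ J)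
    (hcard : Nat.card J = p * Nat.card H) : K = H ∨ K = J := by
  obtain ⟨d, hd⟩ := Subgroup.card_dvd_of_le hHK
  obtain ⟨e, he⟩ := Subgroup.card_dvd_of_le hKJ
  have hH0 : 0 < Nat.card H := Nat.card_pos
  have h1 : d * e = p := by
    have : Nat.card H * (d * e) = Nat.card H * p := by
      calc Nat.card H * (d * e) = Nat.card H * d * e := by ring
        _ = Nat.card J := by rw [← hd, ← he]
        _ = Nat.card H * p := by rw [hcard]; ring
    exact Nat.eq_of_mul_eq_mul_left hH0 this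
  have hdp : d ∣ p := ⟨e, h1.symm⟩
  rcases (Nat.dvd_prime hp).mp hdp with rfl | rfl
  · left
    symm
    exact Subgroup.eq_of_le_of_card_ge hHK (by rw [hd, mul_one])
  · right
    have he1 : e = 1 := by
      have : d * e = d * 1 := by rw [h1, mul_one]
      exact Nat.eq_of_mul_eq_mul_left hp.pos this
    exact Subgroup.eq_of_le_of_card_ge hKJ (by rw [he, he1, mul_one])

/-- In a subgroup of prime order every element is a power of any non-identity element. -/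
theorem exists_pow_of_card_prime [Finite P] {p : ℕ} [hp : Fact p.Prime] {Z : Subgroup P} (hZ : Nat.card Z = p)
    {z w : P} (hz : z ∈ Z) (hw : w ∈ Z) (hw1 : w ≠ 1) : ∃ i : ℕ, z = w ^ i := by
  have h1 : Subgroup.zpowers (⟨w, hw⟩ : Z) = ⊤ :=
    zpowers_eq_top_of_prime_card hZ (fun h => hw1 (congrArg Subtype.val h))
  have h2 : (⟨z, hz⟩ : Z) ∈ Subgroup.zpowers (⟨w, hw⟩ : Z) := by rw [h1]; trivial
  rw [← mem_powers_iff_mem_zpowers] at h2
  obtain ⟨i, hi⟩ := h2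
  exact ⟨i, by simpa using (congrArg Subtype.val hi).symm⟩

theorem mem_zpowers_nat [Finite P] {g x : P} (hx : x ∈ Subgroup.zpowers g) : ∃ i : ℕ, x = g ^ i := by
  rw [← mem_powers_iff_mem_zpowers] at hx
  obtain ⟨i, hi⟩ := hx
  exact ⟨i, hi.symm⟩

/-- Elements of `⟨g⟩ ⊔ N` with `N` normal. -/
theorem exists_pow_mul_of_mem_sup [Finite P] {g : P} {N : Subgroup P} [N.Normal] {x : P}
    (hx : x ∈ Subgroup.zpowers g ⊔ N) : ∃ i : ℕ, ∃ n ∈ N, x = g ^ i * n := by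
  have h1 : x ∈ ((Subgroup.zpowers g ⊔ N : Subgroup P) : Set P) := hx
  rw [Subgroup.mul_normal] at h1
  obtain ⟨h, hh, n, hn, rfl⟩ := Set.mem_mul.mp h1
  obtain ⟨i, rfl⟩ := mem_zpowers_nat hh
  exact ⟨i, n, hn, rfl⟩

end general

variable {P : Type*} [Group P] {p : ℕ}

instance om_char : (om p P).Characteristic := by
  rw [Subgroup.characteristic_iff_map_le]
  intro φ
  unfold om
  rw [MonoidHom.map_closure]
  apply Subgroup.closure_mono
  rintro _ ⟨x, hx, rfl⟩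
  show (φ x) ^ p = 1
  rw [← map_pow, show x ^ p = 1 from hx, map_one]

instance cc_char : (cc p P).Characteristic := by unfold cc; infer_instance
instance zz_char : (zz p P).Characteristic := by unfold zz; infer_instance
instance ll_char : (ll p P).Characteristic := by unfold ll; infer_instance
instance mm_char : (mm p P).Characteristic := by unfold mm; infer_instance

theorem mem_of_char {H : Subgroup P} [hH : H.Characteristic] (γ : MulAut P) {x : P} (hx : x ∈ H) : γ x ∈ H := by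
  have h1 := (Subgroup.characteristic_iff_map_eq.mp hH) γ
  rw [← h1]
  exact ⟨x, hx, rfl⟩

theorem mem_om_of_pow {x : P} (hx : x ^ p = 1) : x ∈ om p P := Subgroup.subset_closure hx

theorem mem_cc_iff {x : P} : x ∈ cc p P ↔ ∀ t ∈ om p P, t * x = x * t := by
  unfold cc; rw [Subgroup.mem_centralizer_iff]; rfl

theorem mem_mm_iff {x : P} : x ∈ mm p P ↔ ∀ l ∈ ll p P, l * x = x * l := by
  unfold mm; rw [Subgroup.mem_centralizer_iff]; rfl

theorem ll_le_om : ll p P ≤ om p P := Subgroup.commutator_le_left _ _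

theorem zz_le_om : zz p P ≤ om p P := inf_le_left

theorem zz_le_cc : zz p P ≤ cc p P := inf_le_right

theorem comm_mem_ll {t g : P} (ht : t ∈ om p P) : ⁅t, g⁆ ∈ ll p P :=
  Subgroup.commutator_mem_commutator ht (Subgroup.mem_top g)

theorem comm_mem_ll' {t g : P} (ht : t ∈ om p P) : ⁅g, t⁆ ∈ ll p P := by
  rw [← commutatorElement_inv]
  exact (ll p P).inv_mem (comm_mem_ll ht)

/-- The basic hypotheses: `Ω₁(P)` is non-abelian of order `p³` and exponent `p`. -/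
structure Base (p : ℕ) (P : Type*) [Group P] : Prop where
  pgroup : IsPGroup p P
  odd : p ≠ 2
  exp : ∀ t ∈ om p P, t ^ p = 1
  card : Nat.card (om p P) = p ^ 3
  nonab : ∃ x ∈ om p P, ∃ y ∈ om p P, x * y ≠ y * x

/-- The hypotheses of the exceptional case. -/
structure Bad (p : ℕ) (P : Type*) [Group P] : Prop extends Base p P where
  bad : om p P ⊔ cc p P ≠ ⊤

variable [Finite P] [hp : Fact p.Prime]

theorem Base.es (h : Base p P) : Cfsg.IsExtraspecial p ↥(om p P) := by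
  obtain ⟨x, hx, y, hy, hxy⟩ := h.nonab
  refine Cfsg.Agent.Helper37.isExtraspecial_of_card_cube h.card ⟨⟨x, hx⟩, ⟨y, hy⟩, ?_⟩ ?_
  · intro e
    exact hxy (congrArg Subtype.val e)
  · rintro ⟨t, ht⟩
    apply Subtype.ext
    simpa using h.exp t ht

theorem Base.card_zz (h : Base p P) : Nat.card (zz p P) = p :=
  Cfsg.Agent.Helper87.card_zOf_of_isExtraspecial h.es

theorem Base.zz_central (h : Base p P) : ∀ z ∈ zz p P, ∀ g : P, z * g = g * z := by
  intro z hz g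
  have h1 := Cfsg.Agent.Helper63.le_center_of_normal_of_card_eq_prime h.pgroup (zz p P) h.card_zz hz
  exact ((Subgroup.mem_center_iff.mp h1) g).symm

theorem Base.comm_om_mem_zz (h : Base p P) {x y : P} (hx : x ∈ om p P) (hy : y ∈ om p P) : ⁅x, y⁆ ∈ zz p P := by
  have := Cfsg.Agent.Helper87.comm_mem_zOf_of_isExtraspecial h.es hx hy
  rw [commutatorElement_def]
  exact this

theorem Base.zz_cyc (h : Base p P) {z w : P} (hz : z ∈ zz p P) (hw : w ∈ zz p P) (hw1 : w ≠ 1) :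
    ∃ i : ℕ, z = w ^ i := exists_pow_of_card_prime h.card_zz hz hw hw1

theorem Base.comm_om_eq_zz (h : Base p P) : ⁅om p P, om p P⁆ = zz p P := by
  apply le_antisymm
  · rw [Subgroup.commutator_le]
    intro x hx y hy
    exact h.comm_om_mem_zz hx hy
  · obtain ⟨x, hx, y, hy, hxy⟩ := h.nonab
    have h1 : ⁅x, y⁆ ≠ 1 := by
      rw [Ne, commutatorElement_eq_one_iff_mul_comm]
      exact hxy
    intro z hz
    obtain ⟨i, rfl⟩ := h.zz_cyc hz (h.comm_om_mem_zz hx hy) h1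
    exact Subgroup.pow_mem _ (Subgroup.commutator_mem_commutator hx hy) i

/-- `C_P(Ω₁(P))` is cyclic. -/
theorem Base.cc_cyclic (h : Base p P) : IsCyclic ↥(cc p P) := by
  have hpp := hp.out
  by_contra hnc
  obtain ⟨E, -, ⟨-, hEexp⟩, hEcard⟩ := Cfsg.Agent.S0126.result (R := ↥(cc p P)) h.odd
    (h.pgroup.to_subgroup _) hnc
  have hE'card : Nat.card (E.map (cc p P).subtype) = p ^ 2 := by
    rw [Subgroup.card_map_of_injective (Subgroup.subtype_injective _), hEcard]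
  have hle : E.map (cc p P).subtype ≤ zz p P := by
    rintro _ ⟨e, he, rfl⟩
    refine ⟨mem_om_of_pow ?_, e.2⟩
    have h1 := hEexp e he
    simpa using congrArg Subtype.val h1
  have h2 := Subgroup.card_le_of_le hle
  rw [hE'card, h.card_zz] at h2
  have : p < p ^ 2 := by
    calc p = p ^ 1 := (pow_one p).symm
      _ < p ^ 2 := Nat.pow_lt_pow_right hpp.one_lt (by norm_num)
  omega

theorem Bad.es (h : Bad p P) : Cfsg.IsExtraspecial p ↥(om p P) := h.toBase.es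

theorem Bad.card_zz (h : Bad p P) : Nat.card (zz p P) = p := h.toBase.card_zz

theorem Bad.zz_central (h : Bad p P) : ∀ z ∈ zz p P, ∀ g : P, z * g = g * z := h.toBase.zz_central

theorem Bad.comm_om_mem_zz (h : Bad p P) {x y : P} (hx : x ∈ om p P) (hy : y ∈ om p P) : ⁅x, y⁆ ∈ zz p P :=
  h.toBase.comm_om_mem_zz hx hy

theorem Bad.zz_cyc (h : Bad p P) {z w : P} (hz : z ∈ zz p P) (hw : w ∈ zz p P) (hw1 : w ≠ 1) :
    ∃ i : ℕ, z = w ^ i := h.toBase.zz_cyc hz hw hw1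

theorem Bad.zz_le_ll (h : Bad p P) : zz p P ≤ ll p P := by
  obtain ⟨x, hx, y, hy, hxy⟩ := h.nonab
  have h1 : ⁅x, y⁆ ≠ 1 := by
    rw [Ne, commutatorElement_eq_one_iff_mul_comm]
    exact hxy
  intro z hz
  obtain ⟨i, rfl⟩ := h.zz_cyc hz (h.comm_om_mem_zz hx hy) h1
  exact (ll p P).pow_mem (comm_mem_ll hx) i

theorem Bad.om_isPGroup (h : Bad p P) : IsPGroup p (om p P) := h.pgroup.to_subgroup _

theorem Bad.om_ne_bot (h : Bad p P) : om p P ≠ ⊥ := by
  intro h0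
  have h1 := h.card
  rw [h0, Subgroup.card_bot] at h1
  have := hp.out.one_lt
  have h2 : 1 < p ^ 3 := Nat.one_lt_pow (by norm_num) this
  omega

theorem Bad.ll_ne_om (h : Bad p P) : ll p P ≠ om p P := by
  have htop : IsPGroup p (⊤ : Subgroup P) := h.pgroup.to_subgroup _
  have hn : (⊤ : Subgroup P) ≤ Subgroup.normalizer ((om p P : Subgroup P) : Set P) := by
    rw [Subgroup.normalizer_eq_top]
  exact Cfsg.Agent.Helper11.commutator_ne_self h.om_isPGroup htop hn h.om_ne_bot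

theorem Bad.not_ll_le_zz (h : Bad p P) : ¬ ll p P ≤ zz p P := by
  intro hle
  apply h.bad
  have h1 : ⁅(⊤ : Subgroup P), om p P⁆ ≤ om p P ⊓ Subgroup.centralizer (om p P : Set P) := by
    rw [Subgroup.commutator_comm]
    exact hle
  exact Cfsg.Agent.S0110.result h.pgroup (om p P) h.es h1

theorem Bad.card_ll (h : Bad p P) : Nat.card (ll p P) = p ^ 2 := by
  have hpp := hp.out
  have h1 : Nat.card (ll p P) ∣ p ^ 3 := by
    have := Subgroup.card_dvd_of_le (ll_le_om (p := p) (P := P))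
    rwa [h.card] at this
  obtain ⟨k, hk3, hk⟩ := (Nat.dvd_prime_pow hpp).mp h1
  have h2 : p ∣ Nat.card (ll p P) := by
    have := Subgroup.card_dvd_of_le h.zz_le_ll
    rwa [h.card_zz] at this
  have hk0 : k ≠ 0 := by
    rintro rfl
    rw [hk, pow_zero] at h2
    exact hpp.one_lt.ne' (Nat.dvd_one.mp h2)
  have hk1 : k ≠ 1 := by
    rintro rfl
    apply h.not_ll_le_zz
    have : zz p P = ll p P := Subgroup.eq_of_le_of_card_ge h.zz_le_ll (by rw [hk, h.card_zz, pow_one])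
    rw [this]
  have hk3' : k ≠ 3 := by
    rintro rfl
    apply h.ll_ne_om
    exact Subgroup.eq_of_le_of_card_ge ll_le_om (by rw [hk, h.card])
  have : k = 2 := by omega
  rw [hk, this]


theorem Bad.comm_ll_mem_zz (h : Bad p P) {l : P} (hl : l ∈ ll p P) (g : P) : ⁅l, g⁆ ∈ zz p P := by
  have hpp := hp.out
  set W : Subgroup P := ⁅ll p P, (⊤ : Subgroup P)⁆ with hW
  have hWl : W ≤ ll p P := Subgroup.commutator_le_left _ _
  have hmem : ⁅l, g⁆ ∈ W := Subgroup.commutator_mem_commutator hl (Subgroup.mem_top g)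
  have hllne : ll p P ≠ ⊥ := by
    intro h0
    have h1 := h.card_ll
    rw [h0, Subgroup.card_bot] at h1
    have h2 : 1 < p ^ 2 := Nat.one_lt_pow (by norm_num) hpp.one_lt
    omega
  have hWne : W ≠ ll p P := by
    have htop : IsPGroup p (⊤ : Subgroup P) := h.pgroup.to_subgroup _
    have hn : (⊤ : Subgroup P) ≤ Subgroup.normalizer ((ll p P : Subgroup P) : Set P) := by
      rw [Subgroup.normalizer_eq_top]
    exact Cfsg.Agent.Helper11.commutator_ne_self (h.pgroup.to_subgroup _) htop hn hllne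
  have h1 : Nat.card W ∣ p ^ 2 := by
    have := Subgroup.card_dvd_of_le hWl
    rwa [h.card_ll] at this
  obtain ⟨k, hk2, hk⟩ := (Nat.dvd_prime_pow hpp).mp h1
  have hk2' : k ≠ 2 := by
    rintro rfl
    exact hWne (Subgroup.eq_of_le_of_card_ge hWl (by rw [hk, h.card_ll]))
  have hk01 : k = 0 ∨ k = 1 := by omega
  rcases hk01 with rfl | rfl
  · rw [pow_zero, Subgroup.card_eq_one] at hk
    rw [hk, Subgroup.mem_bot] at hmem
    rw [hmem]
    exact (zz p P).one_mem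
  · rw [pow_one] at hk
    have : W.Normal := by rw [hW]; infer_instance
    have h2 := Cfsg.Agent.Helper63.le_center_of_normal_of_card_eq_prime h.pgroup W hk hmem
    refine ⟨ll_le_om (hWl hmem), mem_cc_iff.mpr ?_⟩
    intro t _
    exact (Subgroup.mem_center_iff.mp h2) t

theorem Bad.ll_comm (h : Bad p P) {l l' : P} (hl : l ∈ ll p P) (hl' : l' ∈ ll p P) : l * l' = l' * l := by
  have h0 : IsMulCommutative ↥(ll p P) := IsPGroup.isMulCommutative_of_card_eq_prime_sq h.card_ll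
  have h1 := h0.is_comm.comm ⟨l, hl⟩ ⟨l', hl'⟩
  exact congrArg Subtype.val h1

theorem Bad.ll_le_mm (h : Bad p P) : ll p P ≤ mm p P := by
  intro l hl
  rw [mem_mm_iff]
  intro l' hl'
  exact h.ll_comm hl' hl

theorem cc_le_mm : cc p P ≤ mm p P := by
  intro c hc
  rw [mem_mm_iff]
  intro l hl
  exact (mem_cc_iff.mp hc) l (ll_le_om hl)

theorem Bad.mm_inf_om (h : Bad p P) : mm p P ⊓ om p P = ll p P := by
  have hpp := hp.out
  have h1 : ll p P ≤ mm p P ⊓ om p P := le_inf h.ll_le_mm ll_le_om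
  have h2 : mm p P ⊓ om p P ≤ om p P := inf_le_right
  have hcard : Nat.card (om p P) = p * Nat.card (ll p P) := by
    rw [h.card, h.card_ll]; ring
  rcases eq_or_eq_of_card_prime hpp h1 h2 hcard with h3 | h3
  · exact h3
  · exfalso
    apply h.not_ll_le_zz
    intro l hl
    refine ⟨ll_le_om hl, mem_cc_iff.mpr ?_⟩
    intro t ht
    have ht' : t ∈ mm p P := by
      have : t ∈ mm p P ⊓ om p P := by rw [h3]; exact ht
      exact this.1
    exact ((mem_mm_iff.mp ht') l hl).symm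

theorem Bad.mem_ll_of_mem_mm_of_pow (h : Bad p P) {x : P} (hx : x ∈ mm p P) (hxp : x ^ p = 1) : x ∈ ll p P := by
  rw [← h.mm_inf_om]
  exact ⟨hx, mem_om_of_pow hxp⟩


theorem Bad.exists_a (h : Bad p P) : ∃ a ∈ ll p P, a ∉ zz p P := by
  by_contra hcon
  push Not at hcon
  exact h.not_ll_le_zz hcon

theorem Bad.exists_b (h : Bad p P) : ∃ b ∈ om p P, b ∉ ll p P := by
  by_contra hcon
  push Not at hcon
  exact h.ll_ne_om (le_antisymm ll_le_om hcon)

theorem Bad.ll_eq (h : Bad p P) {a : P} (ha : a ∈ ll p P) (ha' : a ∉ zz p P) {l : P} (hl : l ∈ ll p P) :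
    ∃ i : ℕ, ∃ z ∈ zz p P, l = a ^ i * z := by
  have hpp := hp.out
  have h1 : zz p P ≤ Subgroup.zpowers a ⊔ zz p P := le_sup_right
  have h2 : Subgroup.zpowers a ⊔ zz p P ≤ ll p P :=
    sup_le ((Subgroup.zpowers_le).mpr ha) h.zz_le_ll
  have hcard : Nat.card (ll p P) = p * Nat.card (zz p P) := by
    rw [h.card_ll, h.card_zz]; ring
  rcases eq_or_eq_of_card_prime hpp h1 h2 hcard with h3 | h3
  · exfalso
    apply ha'
    rw [← h3]
    exact le_sup_left (a := Subgroup.zpowers a) (Subgroup.mem_zpowers a)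
  · rw [← h3] at hl
    exact exists_pow_mul_of_mem_sup hl

theorem Bad.om_eq (h : Bad p P) {b : P} (hb : b ∈ om p P) (hb' : b ∉ ll p P) {t : P} (ht : t ∈ om p P) :
    ∃ i : ℕ, ∃ l ∈ ll p P, t = b ^ i * l := by
  have hpp := hp.out
  have h1 : ll p P ≤ Subgroup.zpowers b ⊔ ll p P := le_sup_right
  have h2 : Subgroup.zpowers b ⊔ ll p P ≤ om p P :=
    sup_le ((Subgroup.zpowers_le).mpr hb) ll_le_om
  have hcard : Nat.card (om p P) = p * Nat.card (ll p P) := by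
    rw [h.card_ll, h.card]; ring
  rcases eq_or_eq_of_card_prime hpp h1 h2 hcard with h3 | h3
  · exfalso
    apply hb'
    rw [← h3]
    exact le_sup_left (a := Subgroup.zpowers b) (Subgroup.mem_zpowers b)
  · rw [← h3] at ht
    exact exists_pow_mul_of_mem_sup ht

theorem Bad.mem_mm_of_commute (h : Bad p P) {a : P} (ha : a ∈ ll p P) (ha' : a ∉ zz p P) {x : P}
    (hx : a * x = x * a) : x ∈ mm p P := by
  rw [mem_mm_iff]
  intro l hl
  obtain ⟨i, z, hz, rfl⟩ := h.ll_eq ha ha' hl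
  have h1 : Commute (a ^ i) x := Commute.pow_left hx i
  have h2 := h.zz_central z hz x
  calc a ^ i * z * x = a ^ i * (z * x) := by group
    _ = a ^ i * (x * z) := by rw [h2]
    _ = (a ^ i * x) * z := by group
    _ = (x * a ^ i) * z := by rw [h1.eq]
    _ = x * (a ^ i * z) := by group

theorem Bad.comm_ne_one (h : Bad p P) {a b : P} (ha : a ∈ ll p P) (ha' : a ∉ zz p P) (hb : b ∈ om p P)
    (hb' : b ∉ ll p P) : ⁅a, b⁆ ≠ 1 := by
  intro h1
  rw [commutatorElement_eq_one_iff_mul_comm] at h1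
  apply hb'
  rw [← h.mm_inf_om]
  exact ⟨h.mem_mm_of_commute ha ha' h1, hb⟩

theorem Bad.top_eq (h : Bad p P) {b : P} (hb : b ∈ om p P) (hb' : b ∉ ll p P) (r : P) :
    ∃ i : ℕ, ∃ x ∈ mm p P, r = b ^ i * x := by
  obtain ⟨a, ha, ha'⟩ := h.exists_a
  have hab : ⁅a, b⁆ ∈ zz p P := h.comm_ll_mem_zz ha b
  obtain ⟨i, hi⟩ := h.zz_cyc (h.comm_ll_mem_zz ha r) hab (h.comm_ne_one ha ha' hb hb')
  have hcen : ∀ g : P, ⁅a, b⁆ * g = g * ⁅a, b⁆ := h.zz_central _ hab
  rw [← comm_pow_right_of_central hcen i] at hi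
  refine ⟨i, (b ^ i)⁻¹ * r, ?_, by group⟩
  apply h.mem_mm_of_commute ha ha'
  have h1 : r = b ^ i * ((b ^ i)⁻¹ * r) := by group
  rw [h1, comm_mul_right] at hi
  have h2 : b ^ i * ⁅a, (b ^ i)⁻¹ * r⁆ * (b ^ i)⁻¹ = 1 := by
    have := mul_left_cancel (a := ⁅a, b ^ i⁆) (b := b ^ i * ⁅a, (b ^ i)⁻¹ * r⁆ * (b ^ i)⁻¹) (c := 1)
    apply this
    rw [mul_one]
    exact hi
  have h3 : ⁅a, (b ^ i)⁻¹ * r⁆ = 1 := by
    have : ⁅a, (b ^ i)⁻¹ * r⁆ = (b ^ i)⁻¹ * (b ^ i * ⁅a, (b ^ i)⁻¹ * r⁆ * (b ^ i)⁻¹) * b ^ i := by group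
    rw [this, h2]; group
  exact commutatorElement_eq_one_iff_mul_comm.mp h3

theorem Bad.mem_cc_of_commute (h : Bad p P) {b : P} (hb : b ∈ om p P) (hb' : b ∉ ll p P) {x : P}
    (hx : x ∈ mm p P) (hxb : x * b = b * x) : x ∈ cc p P := by
  rw [mem_cc_iff]
  intro t ht
  obtain ⟨i, l, hl, rfl⟩ := h.om_eq hb hb' ht
  have h1 : Commute x (b ^ i) := Commute.pow_right hxb i
  have h2 := (mem_mm_iff.mp hx) l hl
  calc b ^ i * l * x = b ^ i * (l * x) := by group
    _ = b ^ i * (x * l) := by rw [h2]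
    _ = (b ^ i * x) * l := by group
    _ = (x * b ^ i) * l := by rw [h1.eq]
    _ = x * (b ^ i * l) := by group

theorem Bad.pow_mem_cc (h : Bad p P) {b : P} (hb : b ∈ om p P) (hb' : b ∉ ll p P) {x : P}
    (hx : x ∈ mm p P) : x ^ p ∈ cc p P := by
  apply h.mem_cc_of_commute hb hb' ((mm p P).pow_mem hx p)
  have hc : ⁅b, x⁆ ∈ ll p P := comm_mem_ll hb
  have h1 : b * x * b⁻¹ = ⁅b, x⁆ * x := by rw [commutatorElement_def]; group
  have h2 : Commute ⁅b, x⁆ x := (mem_mm_iff.mp hx) _ hc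
  have h3 : (b * x * b⁻¹) ^ p = x ^ p := by
    rw [h1, h2.mul_pow, h.exp _ (ll_le_om hc), one_mul]
  rw [conj_pow] at h3
  calc x ^ p * b = (b * x ^ p * b⁻¹) * b := by rw [h3]
    _ = b * x ^ p := by group

theorem Bad.comm_mul (h : Bad p P) {b : P} (hb : b ∈ om p P) {x x' : P} (hx : x ∈ mm p P) (_hx' : x' ∈ mm p P) :
    ⁅x * x', b⁆ = ⁅x, b⁆ * ⁅x', b⁆ := by
  apply comm_mul_left_of_commute
  · exact ((mem_mm_iff.mp hx) _ (comm_mem_ll' hb)).symm
  · exact h.ll_comm (comm_mem_ll' hb) (comm_mem_ll' hb)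

theorem Bad.comm_pow (h : Bad p P) {b : P} (hb : b ∈ om p P) {x : P} (hx : x ∈ mm p P) (j : ℕ) :
    ⁅x ^ j, b⁆ = ⁅x, b⁆ ^ j := by
  induction j with
  | zero => simp
  | succ j ih => rw [pow_succ, h.comm_mul hb ((mm p P).pow_mem hx j) hx, ih, pow_succ]

theorem Bad.comm_inv (h : Bad p P) {b : P} (hb : b ∈ om p P) {x : P} (hx : x ∈ mm p P) :
    ⁅x⁻¹, b⁆ = ⁅x, b⁆⁻¹ := by
  have h1 := h.comm_mul hb ((mm p P).inv_mem hx) hx
  rw [inv_mul_cancel, commutatorElement_one_left] at h1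
  exact eq_inv_of_mul_eq_one_left h1.symm

theorem Bad.mem_ll_mul_cc (h : Bad p P) {b : P} (hb : b ∈ om p P) (hb' : b ∉ ll p P) {x : P}
    (hx : x ∈ mm p P) (hxb : ⁅x, b⁆ ∈ zz p P) : ∃ l ∈ ll p P, ∃ c ∈ cc p P, x = l * c := by
  obtain ⟨a, ha, ha'⟩ := h.exists_a
  have hab : ⁅a, b⁆ ∈ zz p P := h.comm_ll_mem_zz ha b
  obtain ⟨j, hj⟩ := h.zz_cyc hxb hab (h.comm_ne_one ha ha' hb hb')
  have haM : a ∈ mm p P := h.ll_le_mm ha
  have hajM : a ^ j ∈ mm p P := (mm p P).pow_mem haM j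
  rw [← h.comm_pow hb haM j] at hj
  refine ⟨a ^ j, (ll p P).pow_mem ha j, (a ^ j)⁻¹ * x, ?_, by group⟩
  have hcM : (a ^ j)⁻¹ * x ∈ mm p P := (mm p P).mul_mem ((mm p P).inv_mem hajM) hx
  apply h.mem_cc_of_commute hb hb' hcM
  have h1 : ⁅(a ^ j)⁻¹ * x, b⁆ = 1 := by
    rw [h.comm_mul hb ((mm p P).inv_mem hajM) hx, h.comm_inv hb hajM, hj, inv_mul_cancel]
  exact commutatorElement_eq_one_iff_mul_comm.mp h1

theorem Bad.exists_y (h : Bad p P) {b : P} (hb : b ∈ om p P) (hb' : b ∉ ll p P) :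
    ∃ y ∈ mm p P, ⁅y, b⁆ ∉ zz p P := by
  by_contra hcon
  push Not at hcon
  apply h.bad
  rw [eq_top_iff]
  intro r _
  obtain ⟨i, x, hx, rfl⟩ := h.top_eq hb hb' r
  obtain ⟨l, hl, c, hc, rfl⟩ := h.mem_ll_mul_cc hb hb' hx (hcon x hx)
  have h1 : b ^ i * l ∈ om p P := (om p P).mul_mem ((om p P).pow_mem hb i) (ll_le_om hl)
  have h2 : b ^ i * (l * c) = (b ^ i * l) * c := by group
  rw [h2]
  exact Subgroup.mul_mem_sup h1 hc


theorem Bad.comm_cc (_h : Bad p P) {b : P} (hb : b ∈ om p P) {c : P} (hc : c ∈ cc p P) : ⁅c, b⁆ = 1 := by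
  rw [commutatorElement_eq_one_iff_mul_comm]
  exact ((mem_cc_iff.mp hc) b hb).symm

theorem Bad.Y_inf_om (h : Bad p P) {b : P} (hb : b ∈ om p P) (hb' : b ∉ ll p P) {y : P} (hy : y ∈ mm p P)
    (hyb : ⁅y, b⁆ ∉ zz p P) : (Subgroup.zpowers y ⊔ cc p P) ⊓ om p P ≤ zz p P := by
  have hpp := hp.out
  rintro w ⟨hwY, hwT⟩
  obtain ⟨j, c, hc, rfl⟩ := exists_pow_mul_of_mem_sup hwY
  have hyj : y ^ j ∈ mm p P := (mm p P).pow_mem hy j
  have hcM : c ∈ mm p P := cc_le_mm hc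
  have hwM : y ^ j * c ∈ mm p P := (mm p P).mul_mem hyj hcM
  have hwL : y ^ j * c ∈ ll p P := by
    rw [← h.mm_inf_om]; exact ⟨hwM, hwT⟩
  have h1 : ⁅y ^ j * c, b⁆ ∈ zz p P := h.comm_ll_mem_zz hwL b
  rw [h.comm_mul hb hyj hcM, h.comm_pow hb hy, h.comm_cc hb hc, mul_one] at h1
  have ha0 : ⁅y, b⁆ ∈ ll p P := comm_mem_ll' hb
  have ha0p : ⁅y, b⁆ ^ p = 1 := h.exp _ (ll_le_om ha0)
  have hpj : p ∣ j := by
    by_contra hnd
    have hcop : Nat.Coprime j p := ((Nat.Prime.coprime_iff_not_dvd hpp).mpr hnd).symm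
    obtain ⟨k, -, hk⟩ := Nat.exists_mul_mod_eq_one_of_coprime hcop hpp.one_lt
    apply hyb
    have h2 : ⁅y, b⁆ ^ (j * k) = ⁅y, b⁆ := by
      rw [pow_eq_pow_mod (j * k) ha0p, hk, pow_one]
    rw [← h2, pow_mul]
    exact (zz p P).pow_mem h1 k
  obtain ⟨j', rfl⟩ := hpj
  have h3 : y ^ (p * j') ∈ cc p P := by
    rw [pow_mul]
    exact (cc p P).pow_mem (h.pow_mem_cc hb hb' hy) j'
  exact ⟨hwT, (cc p P).mul_mem h3 hc⟩

theorem Bad.Y_cyclic (h : Bad p P) {b : P} (hb : b ∈ om p P) (hb' : b ∉ ll p P) {y : P} (hy : y ∈ mm p P)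
    (hyb : ⁅y, b⁆ ∉ zz p P) : IsCyclic ↥(Subgroup.zpowers y ⊔ cc p P) := by
  have hpp := hp.out
  by_contra hnc
  obtain ⟨E, -, ⟨-, hEexp⟩, hEcard⟩ := Cfsg.Agent.S0126.result (R := ↥(Subgroup.zpowers y ⊔ cc p P)) h.odd
    (h.pgroup.to_subgroup _) hnc
  have hE'card : Nat.card (E.map (Subgroup.zpowers y ⊔ cc p P).subtype) = p ^ 2 := by
    rw [Subgroup.card_map_of_injective (Subgroup.subtype_injective _), hEcard]
  have hle : E.map (Subgroup.zpowers y ⊔ cc p P).subtype ≤ zz p P := by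
    rintro _ ⟨e, he, rfl⟩
    apply h.Y_inf_om hb hb' hy hyb
    refine ⟨e.2, mem_om_of_pow ?_⟩
    have h1 := hEexp e he
    simpa using congrArg Subtype.val h1
  have h2 := Subgroup.card_le_of_le hle
  rw [hE'card, h.card_zz] at h2
  have : p < p ^ 2 := by
    calc p = p ^ 1 := (pow_one p).symm
      _ < p ^ 2 := Nat.pow_lt_pow_right hpp.one_lt (by norm_num)
  omega

theorem Bad.exists_gen (h : Bad p P) {b : P} (hb : b ∈ om p P) (hb' : b ∉ ll p P) :
    ∃ g ∈ mm p P, ∃ q : ℕ, p ∣ q ∧ g ^ q ∈ zz p P ∧ g ^ q ≠ 1 ∧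
      (∀ x ∈ mm p P, ∃ i : ℕ, ∃ l ∈ ll p P, x = g ^ i * l) ∧ ∃ y ∈ mm p P, ⁅y, b⁆ ∉ zz p P := by
  have hpp := hp.out
  obtain ⟨y, hy, hyb⟩ := h.exists_y hb hb'
  set Y : Subgroup P := Subgroup.zpowers y ⊔ cc p P with hY
  have hYM : Y ≤ mm p P := sup_le ((Subgroup.zpowers_le).mpr hy) cc_le_mm
  have hcyc : IsCyclic ↥Y := h.Y_cyclic hb hb' hy hyb
  obtain ⟨g₀, hg₀⟩ := hcyc.exists_generator
  have hord : orderOf g₀ = Nat.card ↥Y := orderOf_eq_card_of_forall_mem_zpowers hg₀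
  have hord' : orderOf (g₀ : P) = Nat.card ↥Y := by rw [← hord, Subgroup.orderOf_coe]
  obtain ⟨k, hk⟩ := IsPGroup.iff_card.mp (h.pgroup.to_subgroup Y)
  have hyY : y ∈ Y := le_sup_left (a := Subgroup.zpowers y) (Subgroup.mem_zpowers y)
  have hyp : y ^ p ≠ 1 := by
    intro h1
    apply hyb
    exact h.comm_ll_mem_zz (h.mem_ll_of_mem_mm_of_pow hy h1) b
  have hk2 : 2 ≤ k := by
    by_contra hlt
    push Not at hlt
    apply hyp
    have h1 : (⟨y, hyY⟩ : Y) ^ Nat.card ↥Y = 1 := pow_card_eq_one'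
    have h2 : y ^ Nat.card ↥Y = 1 := by
      have := congrArg Subtype.val h1
      rwa [Subgroup.coe_pow, Subgroup.coe_one] at this
    have h3 : Nat.card ↥Y ∣ p := by
      rw [hk]
      calc p ^ k ∣ p ^ 1 := Nat.pow_dvd_pow p (by omega)
        _ = p := pow_one p
    obtain ⟨d, hd⟩ := h3
    rw [hd, pow_mul, h2, one_pow]
  have hgq : ((g₀ : P) ^ p ^ (k - 1)) ^ p = 1 := by
    rw [← pow_mul, ← pow_succ, show k - 1 + 1 = k by omega, ← hk, ← hord']
    exact pow_orderOf_eq_one _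
  refine ⟨(g₀ : P), hYM g₀.2, p ^ (k - 1), dvd_pow_self p (by omega), ?_, ?_, ?_, ⟨y, hy, hyb⟩⟩
  · apply h.Y_inf_om hb hb' hy hyb
    exact ⟨Y.pow_mem g₀.2 _, mem_om_of_pow hgq⟩
  · intro h1
    have h2 := orderOf_dvd_of_pow_eq_one h1
    rw [hord', hk, Nat.pow_dvd_pow_iff_le_right hpp.one_lt] at h2
    omega
  · intro x hx
    have ha0 : ⁅y, b⁆ ∈ ll p P := comm_mem_ll' hb
    obtain ⟨i, z, hz, hi⟩ := h.ll_eq ha0 hyb (comm_mem_ll' (g := x) hb)
    have hyi : y ^ i ∈ mm p P := (mm p P).pow_mem hy i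
    have hx' : (y ^ i)⁻¹ * x ∈ mm p P := (mm p P).mul_mem ((mm p P).inv_mem hyi) hx
    have h1 : ⁅(y ^ i)⁻¹ * x, b⁆ ∈ zz p P := by
      rw [h.comm_mul hb ((mm p P).inv_mem hyi) hx, h.comm_inv hb hyi, h.comm_pow hb hy, hi]
      have : (⁅y, b⁆ ^ i)⁻¹ * (⁅y, b⁆ ^ i * z) = z := by group
      rw [this]
      exact hz
    obtain ⟨l, hl, c, hc, hlc⟩ := h.mem_ll_mul_cc hb hb' hx' h1
    have hu : y ^ i * c ∈ Y := Y.mul_mem (Y.pow_mem hyY i) (le_sup_right (a := Subgroup.zpowers y) hc)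
    obtain ⟨m, hm⟩ := mem_zpowers_nat (hg₀ ⟨y ^ i * c, hu⟩)
    have hm' : y ^ i * c = (g₀ : P) ^ m := by simpa using congrArg Subtype.val hm
    refine ⟨m, l, hl, ?_⟩
    have h2 : l * c = c * l := (mem_mm_iff.mp (cc_le_mm hc)) l hl
    calc x = y ^ i * ((y ^ i)⁻¹ * x) := by group
      _ = y ^ i * (l * c) := by rw [hlc]
      _ = y ^ i * (c * l) := by rw [h2]
      _ = (y ^ i * c) * l := by group
      _ = (g₀ : P) ^ m * l := by rw [hm']


/-- In the exceptional case, `M = C_P([Ω₁(P), P])` is a proper subgroup and the square of every automorphism of `P`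
acts trivially on `P / M`. -/
theorem Bad.main (h : Bad p P) : mm p P ≠ ⊤ ∧ ∀ γ : MulAut P, ∀ r : P, r⁻¹ * γ (γ r) ∈ mm p P := by
  have hpp := hp.out
  obtain ⟨b, hb, hb'⟩ := h.exists_b
  obtain ⟨g, hg, q, hpq, hgqZ, hgq1, hstruct, y, hy, hyb⟩ := h.exists_gen hb hb'
  have hbM : b ∉ mm p P := by
    intro hbm
    apply hb'
    rw [← h.mm_inf_om]
    exact ⟨hbm, hb⟩
  refine ⟨fun htop => hbM (htop ▸ Subgroup.mem_top b), ?_⟩
  -- `M` is abelian
  have hLc : ∀ l ∈ ll p P, ∀ x ∈ mm p P, l * x = x * l := fun l hl x hx => (mem_mm_iff.mp hx) l hl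
  have hMab : ∀ x ∈ mm p P, ∀ x' ∈ mm p P, x * x' = x' * x := by
    intro x hx x' hx'
    obtain ⟨i, l, hl, rfl⟩ := hstruct x hx
    obtain ⟨j, l', hl', rfl⟩ := hstruct x' hx'
    have hgi : g ^ i ∈ mm p P := (mm p P).pow_mem hg i
    have hgj : g ^ j ∈ mm p P := (mm p P).pow_mem hg j
    have h1 : l * g ^ j = g ^ j * l := hLc l hl _ hgj
    have h2 : l' * g ^ i = g ^ i * l' := hLc l' hl' _ hgi
    have h3 : l * l' = l' * l := h.ll_comm hl hl'
    have h4 : g ^ i * g ^ j = g ^ j * g ^ i := (Commute.pow_pow_self g i j).eq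
    calc g ^ i * l * (g ^ j * l') = g ^ i * (l * g ^ j) * l' := by group
      _ = g ^ i * (g ^ j * l) * l' := by rw [h1]
      _ = (g ^ i * g ^ j) * (l * l') := by group
      _ = (g ^ j * g ^ i) * (l' * l) := by rw [h4, h3]
      _ = g ^ j * (g ^ i * l') * l := by group
      _ = g ^ j * (l' * g ^ i) * l := by rw [h2]
      _ = g ^ j * l' * (g ^ i * l) := by group
  have hlq : ∀ l ∈ ll p P, l ^ q = 1 := by
    intro l hl
    obtain ⟨d, rfl⟩ := hpq
    rw [pow_mul, h.exp l (ll_le_om hl), one_pow]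
  have hpowq : ∀ (i : ℕ), ∀ l ∈ ll p P, (g ^ i * l) ^ q = (g ^ q) ^ i := by
    intro i l hl
    have hc : Commute (g ^ i) l := (hLc l hl _ ((mm p P).pow_mem hg i)).symm
    rw [hc.mul_pow, hlq l hl, mul_one, ← pow_mul, ← pow_mul, mul_comm]
  have hΨ : ∀ x ∈ mm p P, x ^ q ∈ zz p P := by
    intro x hx
    obtain ⟨i, l, hl, rfl⟩ := hstruct x hx
    rw [hpowq i l hl]
    exact (zz p P).pow_mem hgqZ i
  have hgqp : (g ^ q) ^ p = 1 := h.exp _ (zz_le_om hgqZ)
  have hordq : orderOf (g ^ q) = p := orderOf_eq_prime hgqp hgq1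
  have hE1 : ∀ x ∈ mm p P, x ^ q = 1 → ⁅⁅x, b⁆, b⁆ = 1 := by
    intro x hx hxq
    obtain ⟨i, l, hl, rfl⟩ := hstruct x hx
    rw [hpowq i l hl] at hxq
    have hpi : p ∣ i := by
      rw [← hordq]
      exact orderOf_dvd_of_pow_eq_one hxq
    obtain ⟨i', rfl⟩ := hpi
    have hgi' : g ^ i' ∈ mm p P := (mm p P).pow_mem hg i'
    have h1 : ⁅g ^ (p * i') * l, b⁆ = ⁅l, b⁆ := by
      rw [h.comm_mul hb ((mm p P).pow_mem hg _) (h.ll_le_mm hl), mul_comm p i', pow_mul,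
        h.comm_pow hb hgi' p, h.exp _ (ll_le_om (comm_mem_ll' hb)), one_mul]
    rw [h1, commutatorElement_eq_one_iff_mul_comm]
    exact h.zz_central _ (h.comm_ll_mem_zz hl b) b
  have hy2 : ⁅⁅y, b⁆, b⁆ ≠ 1 := h.comm_ne_one (comm_mem_ll' hb) hyb hb hb'
  intro γ r
  obtain ⟨m, l₁, hl₁, hγb⟩ := h.om_eq hb hb' (mem_of_char γ hb)
  have hmod : m ^ 2 ≡ 1 [MOD p] :=
    sq_modEq_one (zz p P) (ll p P) (mm p P) b q m γ l₁ h.zz_central (fun z hz => h.exp z (zz_le_om hz))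
      h.ll_le_mm hLc (fun l hl => h.comm_ll_mem_zz hl b) (fun x _ => comm_mem_ll' hb) hMab hΨ
      (fun z hz w hw hw1 => h.zz_cyc hz hw hw1) hE1 y hy hy2 (fun x hx => mem_of_char γ hx) hl₁ hγb
  -- `γ² b ∈ b * L`
  have hbL : b⁻¹ * γ (γ b) ∈ ll p P := by
    rw [← QuotientGroup.eq]
    have hq1 : ∀ l ∈ ll p P, (QuotientGroup.mk l : P ⧸ ll p P) = 1 := fun l hl =>
      (QuotientGroup.eq_one_iff l).mpr hl
    have e1 : (QuotientGroup.mk (γ b) : P ⧸ ll p P) = (QuotientGroup.mk b) ^ m := by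
      rw [hγb, QuotientGroup.mk_mul, QuotientGroup.mk_pow, hq1 l₁ hl₁, mul_one]
    have e2 : (QuotientGroup.mk (γ (γ b)) : P ⧸ ll p P) = (QuotientGroup.mk b) ^ (m * m) := by
      rw [hγb, map_mul, map_pow, QuotientGroup.mk_mul, QuotientGroup.mk_pow, e1,
        hq1 _ (mem_of_char γ hl₁), mul_one, ← pow_mul]
    have e3 : (QuotientGroup.mk b : P ⧸ ll p P) ^ p = 1 := by
      rw [← QuotientGroup.mk_pow, h.exp b hb, QuotientGroup.mk_one]
    rw [e2, pow_eq_pow_mod (m * m) e3]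
    have : m * m % p = 1 := by
      have h1 : m ^ 2 % p = 1 % p := hmod
      rw [Nat.mod_eq_of_lt hpp.one_lt, pow_two] at h1
      exact h1
    rw [this, pow_one]
  have hbM' : (QuotientGroup.mk (γ (γ b)) : P ⧸ mm p P) = QuotientGroup.mk b := by
    symm
    rw [QuotientGroup.eq]
    exact h.ll_le_mm hbL
  obtain ⟨i, x, hx, rfl⟩ := h.top_eq hb hb' r
  rw [← QuotientGroup.eq]
  have hq1 : ∀ x ∈ mm p P, (QuotientGroup.mk x : P ⧸ mm p P) = 1 := fun x hx =>
    (QuotientGroup.eq_one_iff x).mpr hx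
  rw [map_mul, map_mul, map_pow, map_pow, QuotientGroup.mk_mul, QuotientGroup.mk_mul, QuotientGroup.mk_pow,
    QuotientGroup.mk_pow, hbM', hq1 x hx, hq1 _ (mem_of_char γ (mem_of_char γ hx))]

end Cfsg.Agent.Helper62.RankTwoBad
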