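/-
helper62: S₃-involvement from failure of the quadratic bound |V : C_V(A)| ≥ |A|² (KS 9.3-type argument).
-/
import Mathlib
import Cfsg.Prelude.Def_LocalEven
import Cfsg.Agent.S0444
import Cfsg.Agent.S0028
import Cfsg.Agent.Lib.Cores
import Cfsg.Agent.Helper62.AbelianGen
import Cfsg.Agent.Helper11.PSolvable

set_option autoImplicit false

namespace Cfsg.Agent.Helper62

open scoped commutatorElement

universe u

variable {X : Type u} [Group X]


/-- a group containing an involution inverting an element of order three involves `S₃` -/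
theorem involves_S3_of_inverted {M : Type u} [Group M] (a x : M) (ha : a * a = 1)
    (hx3 : x * x * x = 1) (hx1 : x ≠ 1) (hinv : a * x * a = x⁻¹) :
    Cfsg.Involves (Equiv.Perm (Fin 3)) M := by
  have hainv : a⁻¹ = a := by rw [inv_eq_iff_mul_eq_one]; exact ha
  have hxinv : x⁻¹ = x * x := by
    rw [inv_eq_iff_mul_eq_one, ← mul_assoc]; exact hx3
  obtain ⟨d, hd⟩ : ∃ d, d = a := ⟨a, rfl⟩
  obtain ⟨e, he⟩ : ∃ e, e = a * x := ⟨a * x, rfl⟩
  have hd2 : d * d = 1 := by rw [hd]; exact ha
  have he2 : e * e = 1 := by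
    rw [he]
    calc a * x * (a * x) = (a * x * a) * x := by group
      _ = 1 := by rw [hinv]; group
  have hbr : d * e * d = e * d * e := by
    rw [hd, he]
    calc a * (a * x) * a = (a * a) * x * a := by group
      _ = x * a := by rw [ha, one_mul]
      _ = a * (a * x * a) := by
          have : a * (a * x * a) = (a * a) * x * a := by group
          rw [this, ha, one_mul]
      _ = a * x⁻¹ := by rw [hinv]
      _ = a * (x * x) := by rw [hxinv]
      _ = (a * x * a) * (a * x) := by
          have : (a * x * a) * (a * x) = a * x * (a * a) * x := by group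
          rw [this, ha]; group
  have ha1 : a ≠ 1 := by
    intro h
    rw [h, one_mul, mul_one] at hinv
    -- x = x⁻¹ so x*x = 1 so x = 1 with x^3=1
    have h2 : x * x = 1 := by
      have := congrArg (fun t => t * x) hinv
      simpa using this
    rw [h2, one_mul] at hx3
    exact hx1 hx3
  have hd1 : d ≠ 1 := by rw [hd]; exact ha1
  have he1 : e ≠ 1 := by
    intro h
    have h1 : x = a := by
      have : a * (a * x) = a * 1 := by rw [← he, h]
      rw [← mul_assoc, ha, one_mul, mul_one] at this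
      exact this
    rw [h1] at hx3
    rw [ha, one_mul] at hx3
    exact ha1 hx3
  have hde : d ≠ e := by
    intro h
    apply hx1
    have : a * 1 = a * x := by rw [mul_one, ← he, ← hd]; exact h
    exact (mul_left_cancel this).symm
  have hdinv : d⁻¹ = d := by rw [hd]; exact hainv
  have heinv : e⁻¹ = e := by rw [inv_eq_iff_mul_eq_one]; exact he2
  set F := Cfsg.Agent.S0444.hom hd2 he2 hbr with hF
  have hker : ∀ i : Fin 6, Cfsg.Agent.S0444.elt d e i = 1 → i = 0 := by
    intro i hi
    fin_cases i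
    · rfl
    · exact absurd hi hd1
    · exact absurd hi he1
    · exfalso
      apply hde
      have : d * e = 1 := hi
      rw [← heinv]; exact eq_inv_of_mul_eq_one_left this
    · exfalso
      apply hde
      have : e * d = 1 := hi
      rw [← hdinv]; exact (eq_inv_of_mul_eq_one_left this).symm
    · exfalso
      apply he1
      have : d * e * d = 1 := hi
      calc e = d * (d * e * d) * d := by
            rw [mul_assoc d e d, ← mul_assoc d d, hd2, one_mul, mul_assoc, hd2, mul_one]
        _ = 1 := by rw [this, mul_one, hd2]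
  have hinj : Function.Injective F := by
    rw [injective_iff_map_eq_one]
    intro σ hσ
    have h0 : Cfsg.Agent.S0444.prmEquiv.symm σ = 0 := hker _ hσ
    have : σ = Cfsg.Agent.S0444.prmEquiv 0 := by rw [← h0, Equiv.apply_symm_apply]
    rw [this]; rfl
  refine ⟨F.range, ⊥, ?_, ?_⟩
  · rw [Subgroup.bot_subgroupOf]; infer_instance
  · have e1 : Equiv.Perm (Fin 3) ≃* F.range := MonoidHom.ofInjective hinj
    have e2 : F.range ⧸ (⊥ : Subgroup F.range) ≃* F.range := QuotientGroup.quotientBot
    have e3 : F.range ⧸ ((⊥ : Subgroup M).subgroupOf F.range) ≃* F.range ⧸ (⊥ : Subgroup F.range) :=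
      QuotientGroup.quotientMulEquivOfEq (Subgroup.bot_subgroupOf _)
    exact ⟨(e3.trans e2).trans e1.symm⟩




/-- fixed point congruence for a `p`-group `Q` normalizing `W`, acting by conjugation -/
theorem card_modEq_card_inf_centralizer [Finite X] {p : ℕ} [Fact p.Prime] (Q W : Subgroup X)
    (hQ : IsPGroup p Q) (hQW : Q ≤ Subgroup.normalizer (W : Set X)) :
    Nat.card W ≡ Nat.card (W ⊓ Subgroup.centralizer (Q : Set X) : Subgroup X) [MOD p] := by
  let _ : MulAction Q W :=
    { smul := fun z w => ⟨(z : X) * w * (z : X)⁻¹, (Subgroup.mem_normalizer_iff.mp (hQW z.2) w).mp w.2⟩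
      one_smul := fun w => Subtype.ext (by
        change ((1 : Q) : X) * w * ((1 : Q) : X)⁻¹ = w
        simp)
      mul_smul := fun a b w => Subtype.ext (by
        change ((a * b : Q) : X) * w * ((a * b : Q) : X)⁻¹ =
          (a : X) * ((b : X) * w * (b : X)⁻¹) * (a : X)⁻¹
        simp only [Subgroup.coe_mul]
        group) }
  have hsmul : ∀ (z : Q) (w : W), ((z • w : W) : X) = (z : X) * w * (z : X)⁻¹ := fun _ _ => rfl
  have hmod := hQ.card_modEq_card_fixedPoints W
  have hcongr : Nat.card (MulAction.fixedPoints Q W) =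
      Nat.card (W ⊓ Subgroup.centralizer (Q : Set X) : Subgroup X) := by
    apply Nat.card_congr
    refine
      { toFun := fun w => ⟨(w.1 : X), Subgroup.mem_inf.mpr ⟨w.1.2, ?_⟩⟩
        invFun := fun y => ⟨⟨y.1, (Subgroup.mem_inf.mp y.2).1⟩, ?_⟩
        left_inv := fun w => rfl
        right_inv := fun y => rfl }
    · rw [Subgroup.mem_centralizer_iff]
      intro z hz
      have h1 := congrArg Subtype.val (w.2 ⟨z, hz⟩)
      rw [hsmul] at h1
      calc z * (w.1 : X) = (z * (w.1 : X) * z⁻¹) * z := by group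
        _ = (w.1 : X) * z := by rw [h1]
    · intro z
      apply Subtype.ext
      rw [hsmul]
      have h1 := Subgroup.mem_centralizer_iff.mp (Subgroup.mem_inf.mp y.2).2 (z : X) z.2
      show (z : X) * y.1 * (z : X)⁻¹ = y.1
      rw [h1]; group
  rw [hcongr] at hmod
  exact hmod


theorem centralizer_zpowers_eq (x : X) :
    Subgroup.centralizer ((Subgroup.zpowers x : Subgroup X) : Set X) = Subgroup.centralizer {x} := by
  apply le_antisymm
  · exact Subgroup.centralizer_le (by
      intro y hy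
      rw [Set.mem_singleton_iff] at hy
      rw [hy]; exact Subgroup.mem_zpowers x)
  · intro w hw
    rw [Subgroup.mem_centralizer_iff]
    intro z hz
    have hle : Subgroup.zpowers x ≤ Subgroup.centralizer {w} := by
      rw [Subgroup.zpowers_le, Subgroup.mem_centralizer_singleton_iff]
      exact (Subgroup.mem_centralizer_singleton_iff.mp hw).symm
    exact Subgroup.mem_centralizer_singleton_iff.mp (hle hz)

/-- a dihedral group `⟨x, a⟩` of order `2q`, `q ≥ 5` prime, acting on a `2`-group `W` with `x` acting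
nontrivially: the involution `a` has `|W : C_W(a)| ≥ 4`. -/
theorem four_le_relIndex_of_dihedral [Finite X] (W : Subgroup X) (hW : IsPGroup 2 W) (a x : X)
    (ha : a * a = 1) (hinv : a * x * a = x⁻¹) {q : ℕ} (hq : q.Prime) (hxq : orderOf x = q)
    (hq2 : q ≠ 2) (hq3 : q ≠ 3) (haW : a ∈ Subgroup.normalizer (W : Set X))
    (hxW : x ∈ Subgroup.normalizer (W : Set X)) (hnt : ¬ W ≤ Subgroup.centralizer {x}) :
    4 ≤ (W ⊓ Subgroup.centralizer {a}).relIndex W := by
  classical
  haveI : Fact q.Prime := ⟨hq⟩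
  by_contra hlt
  push Not at hlt
  set W₁ : Subgroup X := W ⊓ Subgroup.centralizer {a} with hW₁
  set i := W₁.relIndex W with hi
  obtain ⟨k, hk⟩ := IsPGroup.iff_card.mp hW
  have hi_dvd : i ∣ 2 ^ k := hk ▸ Subgroup.relIndex_dvd_card W₁ W
  obtain ⟨j, -, hj⟩ := (Nat.dvd_prime_pow Nat.prime_two).mp hi_dvd
  have hi2 : i ≤ 2 := by
    rcases Nat.lt_or_ge j 2 with h | h
    · interval_cases j <;> omega
    · have : 2 ^ 2 ≤ 2 ^ j := Nat.pow_le_pow_right (by norm_num) h
      omega
  have hipos : 0 < i := by rw [hj]; positivity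
  -- the conjugate involution
  set a' : X := x * a * x⁻¹ with ha'
  set W₂ : Subgroup X := W ⊓ Subgroup.centralizer {a'} with hW₂
  have hcardW₁ : Nat.card W₁ * i = Nat.card W :=
    Cfsg.Agent.Helper11.card_mul_relIndex inf_le_left
  have hW₂eq : W₂ = cj x W₁ := by
    ext w
    rw [mem_cj]
    constructor
    · intro hw
      obtain ⟨hwW, hwa⟩ := Subgroup.mem_inf.mp hw
      refine ⟨x⁻¹ * w * x, Subgroup.mem_inf.mpr ⟨?_, ?_⟩, by group⟩
      · have := (Subgroup.mem_normalizer_iff.mp (Subgroup.inv_mem _ hxW) w).mp hwW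
        simpa using this
      · rw [Subgroup.mem_centralizer_singleton_iff] at hwa ⊢
        have h1 : w * (x * a * x⁻¹) = (x * a * x⁻¹) * w := hwa
        calc x⁻¹ * w * x * a = x⁻¹ * (w * (x * a * x⁻¹)) * x := by group
          _ = x⁻¹ * ((x * a * x⁻¹) * w) * x := by rw [h1]
          _ = a * (x⁻¹ * w * x) := by group
    · rintro ⟨n, hn, rfl⟩
      obtain ⟨hnW, hna⟩ := Subgroup.mem_inf.mp hn
      refine Subgroup.mem_inf.mpr ⟨(Subgroup.mem_normalizer_iff.mp hxW n).mp hnW, ?_⟩
      rw [Subgroup.mem_centralizer_singleton_iff] at hna ⊢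
      calc x * n * x⁻¹ * (x * a * x⁻¹) = x * (n * a) * x⁻¹ := by group
        _ = x * (a * n) * x⁻¹ := by rw [hna]
        _ = x * a * x⁻¹ * (x * n * x⁻¹) := by group
  have hcardW₂ : Nat.card W₂ = Nat.card W₁ := by
    rw [hW₂eq]
    exact (Nat.card_congr (W₁.equivMapOfInjective _ (MulAut.conj x).injective).toEquiv).symm
  have hiW₂ : W₂.relIndex W = i := by
    have h1 := Cfsg.Agent.Helper11.card_mul_relIndex (inf_le_left : W₂ ≤ W)
    rw [hcardW₂, ← hcardW₁] at h1
    exact Nat.eq_of_mul_eq_mul_left Nat.card_pos h1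
  -- `W₁ ⊓ W₂` is centralized by `x`
  have hW₀x : W₁ ⊓ W₂ ≤ W ⊓ Subgroup.centralizer {x} := by
    intro w hw
    obtain ⟨hw1, hw2⟩ := Subgroup.mem_inf.mp hw
    refine Subgroup.mem_inf.mpr ⟨(Subgroup.mem_inf.mp hw1).1, ?_⟩
    have c1 : Commute w a := Subgroup.mem_centralizer_singleton_iff.mp (Subgroup.mem_inf.mp hw1).2
    have c2 : Commute w a' := Subgroup.mem_centralizer_singleton_iff.mp (Subgroup.mem_inf.mp hw2).2
    have hprod : a * a' = x⁻¹ * x⁻¹ := by
      have h1 : a * x = x⁻¹ * a := by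
        have : a * x = (a * x * a) * a := by
          rw [mul_assoc (a * x), ha, mul_one]
        rw [this, hinv]
      calc a * a' = (a * x) * a * x⁻¹ := by rw [ha']; group
        _ = x⁻¹ * (a * a) * x⁻¹ := by rw [h1]; group
        _ = x⁻¹ * x⁻¹ := by rw [ha, mul_one]
    have c3 : Commute w (x⁻¹ * x⁻¹) := hprod ▸ c1.mul_right c2
    have c4 : Commute w (x ^ 2) := by
      have : x ^ 2 = (x⁻¹ * x⁻¹)⁻¹ := by group
      rw [this]; exact c3.inv_right
    have hodd : q % 2 = 1 := by
      rcases Nat.Prime.eq_two_or_odd hq with h | h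
      · exact absurd h hq2
      · exact h
    have hxpow : x = (x ^ 2) ^ ((q + 1) / 2) := by
      rw [← pow_mul]
      have h2 : 2 * ((q + 1) / 2) = q + 1 := by omega
      rw [h2, pow_succ, ← hxq, pow_orderOf_eq_one, one_mul]
    rw [Subgroup.mem_centralizer_singleton_iff]
    have c5 : Commute w ((x ^ 2) ^ ((q + 1) / 2)) := c4.pow_right _
    rw [← hxpow] at c5
    exact c5
  set Wx : Subgroup X := W ⊓ Subgroup.centralizer {x} with hWx
  set j' := Wx.relIndex W with hj'
  have hne0 : (W₁ ⊓ W₂).relIndex W ≠ 0 := by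
    intro h0
    have := Subgroup.relIndex_dvd_card (W₁ ⊓ W₂) W
    rw [h0, zero_dvd_iff] at this
    exact Nat.card_pos.ne' this
  have hj'le : j' ≤ 4 := by
    calc j' ≤ (W₁ ⊓ W₂).relIndex W := Subgroup.relIndex_le_of_le_left hW₀x hne0
      _ ≤ W₁.relIndex W * W₂.relIndex W := Subgroup.relIndex_inf_le
      _ = i * i := by rw [hiW₂]
      _ ≤ 4 := by nlinarith
  have hcardWx : Nat.card Wx * j' = Nat.card W :=
    Cfsg.Agent.Helper11.card_mul_relIndex inf_le_left
  have hj'pos : 0 < j' := by
    rcases Nat.eq_zero_or_pos j' with h | h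
    · rw [h, mul_zero] at hcardWx
      exact absurd hcardWx.symm Nat.card_pos.ne'
    · exact h
  -- fixed point congruence
  have hQ : IsPGroup q (Subgroup.zpowers x) := by
    apply IsPGroup.of_card (n := 1)
    rw [pow_one, Nat.card_zpowers, hxq]
  have hQW : Subgroup.zpowers x ≤ Subgroup.normalizer (W : Set X) := by
    rw [Subgroup.zpowers_le]; exact hxW
  have hmod := card_modEq_card_inf_centralizer (Subgroup.zpowers x) W hQ hQW
  rw [centralizer_zpowers_eq, ← hWx, ← hcardWx] at hmod
  -- `q ∣ |Wx| * (j' - 1)`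
  have hdvd : q ∣ Nat.card Wx * (j' - 1) := by
    have h1 : Nat.card Wx * j' = Nat.card Wx * (j' - 1) + Nat.card Wx := by
      have : j' = (j' - 1) + 1 := by omega
      conv_lhs => rw [this]
      ring
    rw [h1] at hmod
    have h2 : Nat.card Wx * (j' - 1) + Nat.card Wx ≡ 0 + Nat.card Wx [MOD q] := by
      rw [zero_add]; exact hmod
    exact (Nat.modEq_zero_iff_dvd).mp (Nat.ModEq.add_right_cancel' _ h2)
  have hWxp : IsPGroup 2 Wx := hW.to_le inf_le_left
  obtain ⟨k', hk'⟩ := IsPGroup.iff_card.mp hWxp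
  have hcopq : q.Coprime (Nat.card Wx) := by
    rw [hk']
    apply Nat.Coprime.pow_right
    rw [Nat.coprime_primes hq Nat.prime_two]
    exact hq2
  have hdvd2 : q ∣ j' - 1 := hcopq.dvd_of_dvd_mul_left hdvd
  have hq5 : 5 ≤ q := by
    have h2 := hq.two_le
    rcases Nat.lt_or_ge q 5 with h | h
    · interval_cases q
      · exact absurd rfl hq2
      · exact absurd rfl hq3
      · exact absurd hq (by decide)
    · exact h
  have hj'1 : j' = 1 := by
    rcases Nat.eq_zero_or_pos (j' - 1) with h | h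
    · omega
    · have := Nat.le_of_dvd h hdvd2
      omega
  apply hnt
  have := Subgroup.relIndex_eq_one.mp hj'1
  exact this.trans inf_le_right

section main

variable [Finite X] (M V : Subgroup X) (hV : Cfsg.IsElementaryAbelian 2 V)
  (hMV : M ≤ Subgroup.normalizer (V : Set X))
  (hfaith : M ⊓ Subgroup.centralizer (V : Set X) = ⊥)
  (hcon : Subgroup.centralizer (Cfsg.pPrimeCore 2 ↥M : Set ↥M) ≤ Cfsg.pPrimeCore 2 ↥M)
  (hfree : ¬ Cfsg.Involves (Equiv.Perm (Fin 3)) ↥M)

include hV hMV hfaith hcon hfree in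
/-- in an `S₃`-free group `M` with `C_M(O_{2'}(M)) ≤ O_{2'}(M)` acting faithfully on the elementary
abelian `2`-group `V`, every elementary abelian `2`-subgroup `A` satisfies `|V : C_V(A)| ≥ |A|²`. -/
theorem sq_card_le_relIndex : ∀ (n : ℕ) (A : Subgroup X), Nat.card A = n → A ≤ M →
    Cfsg.IsElementaryAbelian 2 A →
    Nat.card A ^ 2 ≤ (V ⊓ Subgroup.centralizer (A : Set X)).relIndex V := by
  classical
  haveI : Fact (Nat.Prime 2) := ⟨Nat.prime_two⟩
  -- the odd core
  set K : Subgroup X := (Cfsg.pPrimeCore 2 ↥M).map M.subtype with hK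
  have hKM : K ≤ M := Subgroup.map_subtype_le _
  have hKodd : (Nat.card K).Coprime 2 := by
    have h1 : Nat.card K = Nat.card (Cfsg.pPrimeCore 2 ↥M) :=
      (Nat.card_congr ((Cfsg.pPrimeCore 2 ↥M).equivMapOfInjective _ M.subtype_injective).toEquiv).symm
    rw [h1]; exact Cfsg.Agent.Lib.card_pPrimeCore_coprime 2
  have hMK : M ≤ Subgroup.normalizer (K : Set X) := by
    haveI hchar : (Cfsg.pPrimeCore 2 ↥M).Characteristic := Cfsg.Agent.Lib.pPrimeCore_characteristic 2
    haveI : (Cfsg.pPrimeCore 2 ↥M).Normal := Subgroup.normal_of_characteristic _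
    have h1 := Subgroup.le_normalizer_map (H := Cfsg.pPrimeCore 2 ↥M) M.subtype
    rw [Subgroup.normalizer_eq_top, ← MonoidHom.range_eq_map, Subgroup.range_subtype] at h1
    exact h1
  have hCK : M ⊓ Subgroup.centralizer (K : Set X) ≤ K := by
    intro m hm
    obtain ⟨hmM, hmC⟩ := Subgroup.mem_inf.mp hm
    have h1 : (⟨m, hmM⟩ : M) ∈ Subgroup.centralizer (Cfsg.pPrimeCore 2 ↥M : Set ↥M) := by
      rw [Subgroup.mem_centralizer_iff]
      intro k hk
      apply Subtype.ext
      exact Subgroup.mem_centralizer_iff.mp hmC (k : X) ⟨k, hk, rfl⟩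
    exact ⟨⟨m, hmM⟩, hcon h1, rfl⟩
  have hVp : IsPGroup 2 V := Cfsg.Agent.Lib.isElementaryAbelian_isPGroup hV
  intro n
  induction n using Nat.strong_induction_on with
  | _ n ih =>
  intro A hn hAM hA
  have hAp : IsPGroup 2 A := Cfsg.Agent.Lib.isElementaryAbelian_isPGroup hA
  by_cases hAbot : A = ⊥
  · rw [hAbot, Subgroup.card_bot, one_pow]
    have h0 : (V ⊓ Subgroup.centralizer (((⊥ : Subgroup X) : Subgroup X) : Set X)).relIndex V ≠ 0 := by
      intro h0
      have := Subgroup.relIndex_dvd_card (V ⊓ Subgroup.centralizer (((⊥ : Subgroup X)) : Set X)) V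
      rw [h0, zero_dvd_iff] at this
      exact Nat.card_pos.ne' this
    omega
  haveI hAab : IsMulCommutative A := hA.1
  have hAK : A ≤ Subgroup.normalizer (K : Set X) := hAM.trans hMK
  have hcopAK : (Nat.card A).Coprime (Nat.card K) := by
    obtain ⟨k, hk⟩ := IsPGroup.iff_card.mp hAp
    rw [hk]; exact Nat.Coprime.pow_left k hKodd.symm
  have hKA : ⁅K, A⁆ ≠ ⊥ := by
    intro h
    have h1 : K ≤ Subgroup.centralizer (A : Set X) :=
      Subgroup.commutator_eq_bot_iff_le_centralizer.mp h
    have h2 : A ≤ Subgroup.centralizer (K : Set X) := Subgroup.le_centralizer_iff.mp h1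
    have h3 : A ≤ A ⊓ K := le_inf le_rfl ((le_inf hAM h2).trans hCK)
    rw [Subgroup.inf_eq_bot_of_coprime hcopAK] at h3
    exact hAbot (le_bot_iff.mp h3)
  have hgen := iSup_commutator_cyclic_quot_eq A K hAK hcopAK
  obtain ⟨B, ⟨hBA, a, haA, hBa⟩, hBne⟩ : ∃ B : Subgroup X,
      (B ≤ A ∧ ∃ a ∈ A, B ⊔ Subgroup.zpowers a = A) ∧
        ⁅K ⊓ Subgroup.centralizer (B : Set X), A⁆ ≠ ⊥ := by
    by_contra hall
    push Not at hall
    apply hKA
    rw [← hgen]
    simp only [Set.mem_setOf_eq, iSup_eq_bot]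
    intro B hB
    exact hall B hB
  set KB : Subgroup X := K ⊓ Subgroup.centralizer (B : Set X) with hKB
  -- an element of `K_B` not commuting with `a`
  obtain ⟨y, hyKB, hya⟩ : ∃ y ∈ KB, y * a ≠ a * y := by
    by_contra hall
    push Not at hall
    apply hBne
    rw [Subgroup.commutator_eq_bot_iff_le_centralizer]
    intro y hy
    rw [Subgroup.mem_centralizer_iff]
    intro z hz
    have hle : A ≤ Subgroup.centralizer {y} := by
      rw [← hBa]
      refine sup_le ?_ ?_
      · intro b hb
        rw [Subgroup.mem_centralizer_singleton_iff]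
        exact Subgroup.mem_centralizer_iff.mp (Subgroup.mem_inf.mp hy).2 b hb
      · rw [Subgroup.zpowers_le, Subgroup.mem_centralizer_singleton_iff]
        exact (hall y hy).symm
    exact Subgroup.mem_centralizer_singleton_iff.mp (hle hz)
  have ha2 : a * a = 1 := by
    have := hA.2 a haA
    rwa [pow_two] at this
  have hainv : a⁻¹ = a := by rw [inv_eq_iff_mul_eq_one]; exact ha2
  have haB : a ∉ B := by
    intro h
    exact hya (Subgroup.mem_centralizer_iff.mp (Subgroup.mem_inf.mp hyKB).2 a h).symm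
  have ha1 : a ≠ 1 := fun h => haB (h ▸ B.one_mem)
  -- `A ≤ C(B)`
  have hAcentB : A ≤ Subgroup.centralizer (B : Set X) := by
    intro z hz
    rw [Subgroup.mem_centralizer_iff]
    intro b hb
    have := mul_comm' (⟨b, hBA hb⟩ : A) ⟨z, hz⟩
    exact congrArg (fun t : A => (t : X)) this
  have hAKB : A ≤ Subgroup.normalizer (KB : Set X) :=
    le_normalizer_inf hAK (hAcentB.trans Subgroup.le_normalizer)
  -- the inverted element
  set x₀ : X := y * a * y⁻¹ * a⁻¹ with hx₀
  have hx₀ne : x₀ ≠ 1 := by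
    intro h
    apply hya
    have : y * a = (y * a * y⁻¹ * a⁻¹) * (a * y) := by group
    rw [this, ← hx₀, h, one_mul]
  have hx₀KB : x₀ ∈ KB := by
    have h1 : a * y⁻¹ * a⁻¹ ∈ KB :=
      (Subgroup.mem_normalizer_iff.mp (hAKB haA) y⁻¹).mp (KB.inv_mem hyKB)
    have : x₀ = y * (a * y⁻¹ * a⁻¹) := by rw [hx₀]; group
    rw [this]; exact KB.mul_mem hyKB h1
  have hx₀inv : a * x₀ * a⁻¹ = x₀⁻¹ := by
    rw [hx₀, hainv]
    have h1 : (y * a * y⁻¹ * a)⁻¹ = a⁻¹ * y * a⁻¹ * y⁻¹ := by group
    rw [h1, hainv]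
    calc a * (y * a * y⁻¹ * a) * a = a * y * a * y⁻¹ * (a * a) := by group
      _ = a * y * a * y⁻¹ := by rw [ha2, mul_one]
  have hx₀fin : orderOf x₀ ≠ 0 := (orderOf_pos x₀).ne'
  have hx₀ord1 : orderOf x₀ ≠ 1 := by
    intro h
    exact hx₀ne (orderOf_eq_one_iff.mp h)
  set q := (orderOf x₀).minFac with hq
  have hqp : q.Prime := Nat.minFac_prime hx₀ord1
  have hqdvd : q ∣ orderOf x₀ := Nat.minFac_dvd _
  set x : X := x₀ ^ (orderOf x₀ / q) with hx
  have hxq : orderOf x = q := orderOf_pow_orderOf_div hx₀fin hqdvd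
  have hxKB : x ∈ KB := KB.pow_mem hx₀KB _
  have hxK : x ∈ K := (Subgroup.mem_inf.mp hxKB).1
  have hxM : x ∈ M := hKM hxK
  have hxB : x ∈ Subgroup.centralizer (B : Set X) := (Subgroup.mem_inf.mp hxKB).2
  have hxinv' : a * x * a⁻¹ = x⁻¹ := by
    rw [hx, ← conj_pow, hx₀inv, inv_pow]
  have hxinv : a * x * a = x⁻¹ := by rw [← hxinv', hainv]
  have hx1 : x ≠ 1 := by
    intro h
    rw [h, orderOf_one] at hxq
    exact hqp.one_lt.ne hxq
  have hq2 : q ≠ 2 := by
    intro h
    have h1 : q ∣ Nat.card K := by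
      rw [← hxq]
      have := orderOf_dvd_natCard (⟨x, hxK⟩ : K)
      rwa [Subgroup.orderOf_mk] at this
    rw [h] at h1
    have := Nat.Coprime.eq_one_of_dvd hKodd.symm h1
    omega
  have haM : a ∈ M := hAM haA
  by_cases hq3 : q = 3
  · exfalso
    apply hfree
    apply involves_S3_of_inverted (⟨a, haM⟩ : M) (⟨x, hxM⟩ : M)
    · apply Subtype.ext; exact ha2
    · apply Subtype.ext
      show x * x * x = 1
      have : x ^ 3 = 1 := by rw [← hq3, ← hxq]; exact pow_orderOf_eq_one x
      rw [← this, pow_succ, pow_two]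
    · intro h; exact hx1 (congrArg Subtype.val h)
    · apply Subtype.ext; exact hxinv
  -- `q ≥ 5`
  set W : Subgroup X := V ⊓ Subgroup.centralizer (B : Set X) with hW
  have hWp : IsPGroup 2 W := hVp.to_le inf_le_left
  have haW : a ∈ Subgroup.normalizer (W : Set X) :=
    le_normalizer_inf (hAM.trans hMV) (hAcentB.trans Subgroup.le_normalizer) haA
  have hxW : x ∈ Subgroup.normalizer (W : Set X) := by
    have h1 : Subgroup.zpowers x ≤ Subgroup.normalizer (W : Set X) := by
      apply le_normalizer_inf (K := Subgroup.zpowers x)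
      · rw [Subgroup.zpowers_le]; exact hMV hxM
      · rw [Subgroup.zpowers_le]; exact Subgroup.le_normalizer hxB
    exact h1 (Subgroup.mem_zpowers x)
  have hBp : IsPGroup 2 B := hAp.to_le hBA
  have hnt : ¬ W ≤ Subgroup.centralizer {x} := by
    intro hWx
    have hQcop : (Nat.card (Subgroup.zpowers x)).Coprime 2 := by
      rw [Nat.card_zpowers, hxq, Nat.coprime_primes hqp Nat.prime_two]
      exact hq2
    have hBQ : B ≤ Subgroup.centralizer ((Subgroup.zpowers x : Subgroup X) : Set X) := by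
      rw [centralizer_zpowers_eq]
      intro b hb
      rw [Subgroup.mem_centralizer_singleton_iff]
      exact Subgroup.mem_centralizer_iff.mp hxB b hb
    have hQV : Subgroup.zpowers x ≤ Subgroup.normalizer (V : Set X) := by
      rw [Subgroup.zpowers_le]; exact hMV hxM
    have hC : V ⊓ Subgroup.centralizer (B : Set X) ≤
        Subgroup.centralizer ((Subgroup.zpowers x : Subgroup X) : Set X) := by
      rw [centralizer_zpowers_eq]; exact hWx
    have h28 := Cfsg.Agent.S0028.result 2 B (Subgroup.zpowers x) V hBp hQcop hVp hBQ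
      ((hBA.trans hAM).trans hMV) hQV hC
    have hxCV : x ∈ M ⊓ Subgroup.centralizer (V : Set X) :=
      Subgroup.mem_inf.mpr ⟨hxM, h28 (Subgroup.mem_zpowers x)⟩
    rw [hfaith, Subgroup.mem_bot] at hxCV
    exact hx1 hxCV
  have h4 := four_le_relIndex_of_dihedral W hWp a x ha2 hxinv hqp hxq hq2 hq3 haW hxW hnt
  -- `C_V(A) = C_W(a)`
  have hcentA : V ⊓ Subgroup.centralizer (A : Set X) = W ⊓ Subgroup.centralizer {a} := by
    ext v
    simp only [Subgroup.mem_inf, hW]
    constructor
    · rintro ⟨hvV, hvA⟩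
      refine ⟨⟨hvV, Subgroup.centralizer_le (by exact_mod_cast hBA) hvA⟩, ?_⟩
      rw [Subgroup.mem_centralizer_singleton_iff]
      exact (Subgroup.mem_centralizer_iff.mp hvA a haA).symm
    · rintro ⟨⟨hvV, hvB⟩, hva⟩
      refine ⟨hvV, ?_⟩
      rw [Subgroup.mem_centralizer_iff]
      intro z hz
      have hle : A ≤ Subgroup.centralizer {v} := by
        rw [← hBa]
        refine sup_le ?_ ?_
        · intro b hb
          rw [Subgroup.mem_centralizer_singleton_iff]
          exact Subgroup.mem_centralizer_iff.mp hvB b hb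
        · rw [Subgroup.zpowers_le, Subgroup.mem_centralizer_singleton_iff]
          exact (Subgroup.mem_centralizer_singleton_iff.mp hva).symm
      exact Subgroup.mem_centralizer_singleton_iff.mp (hle hz)
  -- induction hypothesis for `B`
  have hcardAB : Nat.card A ≤ Nat.card B * 2 := by
    have hBnorm : B ≤ Subgroup.normalizer ((Subgroup.zpowers a : Subgroup X) : Set X) := by
      refine le_trans ?_ (Subgroup.centralizer_le_normalizer _)
      rw [centralizer_zpowers_eq]
      intro b hb
      rw [Subgroup.mem_centralizer_singleton_iff]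
      have := mul_comm' (⟨b, hBA hb⟩ : A) ⟨a, haA⟩
      exact congrArg (fun t : A => (t : X)) this
    have h1 := card_sup_dvd_of_le_normalizer hBnorm
    rw [hBa] at h1
    have h2 : Nat.card (Subgroup.zpowers a) = 2 := by
      rw [Nat.card_zpowers]
      exact orderOf_eq_prime (by rw [pow_two]; exact ha2) ha1
    rw [h2] at h1
    exact Nat.le_of_dvd (Nat.mul_pos Nat.card_pos (by norm_num)) h1
  have hBlt : Nat.card B < n := by
    rw [← hn]
    rcases Nat.lt_or_ge (Nat.card B) (Nat.card A) with h | h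
    · exact h
    · exfalso
      have : B = A := Subgroup.eq_of_le_of_card_ge hBA h
      exact haB (this ▸ haA)
  have hIH := ih _ hBlt B rfl (hBA.trans hAM) (Cfsg.Agent.Lib.isElementaryAbelian_mono hA hBA)
  rw [← hW] at hIH
  rw [hcentA, ← Subgroup.relIndex_mul_relIndex (W ⊓ Subgroup.centralizer {a}) W V inf_le_left
    inf_le_left]
  calc Nat.card A ^ 2 ≤ (Nat.card B * 2) ^ 2 := Nat.pow_le_pow_left hcardAB 2
    _ = 4 * Nat.card B ^ 2 := by ring
    _ ≤ (W ⊓ Subgroup.centralizer {a}).relIndex W * W.relIndex V := Nat.mul_le_mul h4 hIH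

end main

end Cfsg.Agent.Helper62
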