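import Cfsg.Agent.Helper62.StCG
import Cfsg.Agent.Helper29.StCM

/-!
# (G) of #7316 for helper96 (S2092), exact statement with the landed `spT` of piece (M)
(`Cfsg.Agent.Helper29.StCM.spT`).
-/

set_option autoImplicit false

namespace Cfsg.Agent.Helper62.StCG

open Cfsg.Agent.Helper96.StN Cfsg.Agent.Helper96.StC Cfsg.Agent.Helper29.StCM

universe u

variable {K : Type u} [Field K] {m : ℕ}

theorem spT_closure :
    Subgroup.closure {g : Matrix.symplecticGroup (Fin m) K | ∃ p q, p ≠ q ∧ ∃ t, g = spT p q t} =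
      ⊤ :=
  closure_root_eq_top (T := fun p q t => spT p q t) (fun _ _ hpq t => spT_coe hpq t)

end Cfsg.Agent.Helper62.StCG
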