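import Mathlib
import Cfsg.Agent.Helper1.ShultDefs

/-!
# Piece (C) of helper1's plan for Shult's theorem (S4305), by helper62

`σ` acts trivially on an `⟨σ, τ⟩`-invariant quotient of prime order: the automorphism group of a
cyclic group is abelian and `σ = τ σ τ⁻¹ σ⁻¹` is a commutator.
-/

set_option autoImplicit false

namespace Cfsg.Agent.Helper62.Shult

open Subgroup Cfsg.Agent.Helper1.Shult

/-- the automorphism group of a cyclic group is commutative -/
theorem mulAut_comm_of_isCyclic {K : Type*} [Group K] [IsCyclic K] (a b : MulAut K) :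
    a * b = b * a := by
  apply (IsCyclic.mulAutMulEquiv K).injective
  rw [map_mul, map_mul, mul_comm]

/-- a normal subgroup of prime order is centralized by every commutator -/
theorem conj_comm_eq_of_prime_card {M : Type*} [Group M] (C : Subgroup M) [C.Normal] {q : ℕ}
    (hq : q.Prime) (hC : Nat.card C = q) (a b c : M) (hc : c ∈ C) :
    (a * b * a⁻¹ * b⁻¹) * c * (a * b * a⁻¹ * b⁻¹)⁻¹ = c := by
  haveI : Fact q.Prime := ⟨hq⟩
  haveI : IsCyclic C := isCyclic_of_prime_card hC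
  have h1 : (MulAut.conjNormal (H := C)) (a * b * a⁻¹ * b⁻¹) = 1 := by
    rw [map_mul, map_mul, map_mul, map_inv, map_inv,
      mulAut_comm_of_isCyclic (MulAut.conjNormal a) (MulAut.conjNormal b)]
    group
  have h2 := MulAut.conjNormal_apply (H := C) (a * b * a⁻¹ * b⁻¹) ⟨c, hc⟩
  rw [h1] at h2
  exact h2.symm

/-- (C) `σ` acts trivially on an `⟨σ,τ⟩`-invariant quotient of prime order. -/
theorem sigma_cyclic_quotient {H : Type*} [Group H] [Finite H] {σ τ : H} (h : S3Pair σ τ)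
    (Q D : Subgroup H) {q : ℕ} (hq : q.Prime)
    (hDQ : D ≤ Q) (hDn : Q ≤ normalizer (D : Set H)) (hidx : D.relIndex Q = q)
    (hQinv : Inv σ τ Q) (hDinv : Inv σ τ D) :
    ∀ x ∈ Q, x⁻¹ * (σ * x * σ⁻¹) ∈ D := by
  intro x hx
  -- the ambient group `N = N(Q) ⊓ N(D)`
  set N : Subgroup H := normalizer (Q : Set H) ⊓ normalizer (D : Set H) with hN
  have hQN : Q ≤ N := le_inf le_normalizer hDn
  have hDN : D ≤ N := hDQ.trans hQN
  have hσN : σ ∈ N := ⟨hQinv.1, hDinv.1⟩
  have hτN : τ ∈ N := ⟨hQinv.2, hDinv.2⟩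
  haveI hD1 : (D.subgroupOf N).Normal := normal_subgroupOf_of_le_normalizer inf_le_right
  haveI hQ1 : (Q.subgroupOf N).Normal := normal_subgroupOf_of_le_normalizer inf_le_left
  -- the image of `Q` in `N / D`
  set f : ↥N →* ↥N ⧸ D.subgroupOf N := QuotientGroup.mk' (D.subgroupOf N) with hf
  set C : Subgroup (↥N ⧸ D.subgroupOf N) := (Q.subgroupOf N).map f with hCdef
  haveI hCn : C.Normal := hQ1.map f (QuotientGroup.mk'_surjective _)
  have hCcard : Nat.card C = q := by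
    have h1 := relIndex_ker (Q.subgroupOf N) f
    rw [hf, QuotientGroup.ker_mk', relIndex_subgroupOf hQN, hidx] at h1
    exact h1.symm
  -- `σ` is a commutator
  have hσ3 : σ ^ 3 = 1 := by rw [← h.oσ]; exact pow_orderOf_eq_one σ
  have hσcomm : τ * σ * τ⁻¹ * σ⁻¹ = σ := by
    rw [h.rel]
    have : σ⁻¹ * σ⁻¹ = σ := by
      have h3 : σ * σ * σ = 1 := by rw [← hσ3, pow_succ, pow_two]
      calc σ⁻¹ * σ⁻¹ = σ⁻¹ * σ⁻¹ * (σ * σ * σ) := by rw [h3, mul_one]
        _ = σ := by group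
    exact this
  set σ' : ↥N := ⟨σ, hσN⟩
  set τ' : ↥N := ⟨τ, hτN⟩
  set x' : ↥N := ⟨x, hQN hx⟩
  have hσ'comm : τ' * σ' * τ'⁻¹ * σ'⁻¹ = σ' := Subtype.ext hσcomm
  have hx'C : f x' ∈ C := ⟨x', (mem_subgroupOf).2 hx, rfl⟩
  have key := conj_comm_eq_of_prime_card C hq hCcard (f τ') (f σ') (f x') hx'C
  rw [← map_inv, ← map_inv, ← map_mul, ← map_mul, ← map_mul, hσ'comm, ← map_inv, ← map_mul,
    ← map_mul] at key
  have key2 : x'⁻¹ * (σ' * x' * σ'⁻¹) ∈ D.subgroupOf N := by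
    rw [← QuotientGroup.eq]
    exact key.symm
  exact (mem_subgroupOf).1 key2

end Cfsg.Agent.Helper62.Shult
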