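import Mathlib
import Cfsg.Agent.Helper1.ShultDefs
import Cfsg.Agent.Helper1.Hol
import Cfsg.Agent.S3765

/-!
# Piece (S) of helper1's plan for Shult's theorem (S4305), by helper62

Non-modular Hall-Higman for an element `σ` of order 3 (wrapper of S3765): if `[Q, σ]` acts
nontrivially on the elementary abelian `r`-group `V` (`Q` a `q`-group, `q ∉ {2, 3, r}`, `r ≠ 3`),
then `σ` fixes a nontrivial element of `V`.  The statement S3765 is applied in the holomorph of
`V` (helper1's `Hol` library), with ambient group `N_H(V)`.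
-/

set_option autoImplicit false

namespace Cfsg.Agent.Helper62.Shult

open Subgroup Cfsg.Agent.Helper1.Shult Cfsg.Agent.Helper1.Hol

/-- (S) non-modular Hall-Higman for an element of order 3 (wrapper of S3765). -/
theorem sigma_fixed_point {H : Type*} [Group H] [Finite H] {q r : ℕ} [Fact q.Prime]
    [Fact r.Prime] (hq2 : q ≠ 2) (hq3 : q ≠ 3)
    (hr3 : r ≠ 3) (hqr : q ≠ r) (σ : H) (hσ : orderOf σ = 3) (Q V : Subgroup H)
    (hQ : IsPGroup q Q) (hV : IsEA r V) (hσQ : σ ∈ normalizer (Q : Set H))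
    (hσV : σ ∈ normalizer (V : Set H)) (hQV : Q ≤ normalizer (V : Set H))
    (hact : ∃ x ∈ Q, x⁻¹ * (σ * x * σ⁻¹) ∉ centralizer (V : Set H)) :
    ∃ v ∈ V, v ≠ 1 ∧ σ * v * σ⁻¹ = v := by
  obtain ⟨x, hxQ, hx⟩ := hact
  -- ambient group `N = N_H(V)`, in which `V` is normal
  set N : Subgroup H := normalizer (V : Set H) with hN
  set V1 : Subgroup ↥N := V.subgroupOf N with hV1
  haveI hV1n : V1.Normal := normal_in_normalizer
  set Q1 : Subgroup ↥N := Q.subgroupOf N with hQ1
  set σ1 : ↥N := ⟨σ, hσV⟩ with hσ1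
  set x1 : ↥N := ⟨x, hQV hxQ⟩ with hx1
  have hVN : V ≤ N := le_normalizer
  -- membership in `ker π = C_N(V1)` means centralizing `V`
  have hker : ∀ g : ↥N, pi V1 g = 1 → (g : H) ∈ centralizer (V : Set H) := by
    intro g hg
    have h1 : g ∈ (pi V1).ker := hg
    rw [ker_pi, mem_centralizer_iff] at h1
    rw [mem_centralizer_iff]
    intro v hv
    have h2 := h1 ⟨v, hVN hv⟩ (by rw [SetLike.mem_coe, hV1, mem_subgroupOf]; exact hv)
    exact congrArg Subtype.val h2
  -- the order of `π σ`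
  have hσ3 : σ1 ^ 3 = 1 := by
    apply Subtype.ext
    rw [SubgroupClass.coe_pow, ← hσ]
    exact pow_orderOf_eq_one σ
  have hπσ3 : (pi V1 σ1) ^ 3 = 1 := by rw [← map_pow, hσ3, map_one]
  -- `π σ` does not commute with `π x`
  have hnc : pi V1 σ1 * pi V1 x1 ≠ pi V1 x1 * pi V1 σ1 := by
    intro hc
    apply hx
    have h1 : pi V1 (x1⁻¹ * (σ1 * x1 * σ1⁻¹)) = 1 := by
      rw [map_mul, map_mul, map_mul, map_inv, map_inv, hc]
      group
    exact hker _ h1
  have hπσ1 : pi V1 σ1 ≠ 1 := by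
    intro h1
    apply hnc
    rw [h1, one_mul, mul_one]
  have hord : orderOf (pi V1 σ1) = 3 := by
    have h3 : Nat.Prime 3 := by norm_num
    haveI : Fact (Nat.Prime 3) := ⟨h3⟩
    exact orderOf_eq_prime hπσ3 hπσ1
  -- the three subgroups of the holomorph
  set X' : Subgroup (HolG V1) := (zpowers σ1).map (pi V1) with hX'
  set Q' : Subgroup (HolG V1) := Q1.map (pi V1) with hQ'
  have hX'z : X' = zpowers (pi V1 σ1) := by
    rw [hX', MonoidHom.map_zpowers]
  have hXcard : Nat.card X' = 3 := by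
    rw [hX'z, Nat.card_zpowers, hord]
  have hQ1p : IsPGroup q Q1 := by
    rw [hQ1]
    exact hQ.comap_of_injective N.subtype N.subtype_injective
  have hQ'p : IsPGroup q Q' := hQ1p.map (pi V1)
  have hσ1Q1 : σ1 ∈ normalizer (Q1 : Set ↥N) := by
    rw [mem_normalizer_iff]
    intro y
    rw [hQ1, mem_subgroupOf, mem_subgroupOf]
    exact (mem_normalizer_iff.1 hσQ) (y : H)
  have hXQ : X' ≤ normalizer (Q' : Set (HolG V1)) := by
    rw [hX'z, zpowers_le]
    exact le_normalizer_map (pi V1) ⟨σ1, hσ1Q1, rfl⟩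
  have h3p : Nat.Prime 3 := by norm_num
  have hXfaith : X' ⊓ centralizer (Q' : Set (HolG V1)) = ⊥ := by
    by_contra hne
    have hle : X' ≤ centralizer (Q' : Set (HolG V1)) := by
      have h1 : X' ⊓ centralizer (Q' : Set (HolG V1)) = X' := by
        have hdvd : Nat.card ↥(X' ⊓ centralizer (Q' : Set (HolG V1))) ∣ 3 := by
          rw [← hXcard]
          exact card_dvd_of_le inf_le_left
        rcases (Nat.dvd_prime h3p).1 hdvd with h1 | h3
        · exact absurd (card_eq_one.1 h1) hne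
        · apply eq_of_le_of_card_ge inf_le_left
          rw [h3, hXcard]
      rw [← h1]
      exact inf_le_right
    have h2 : pi V1 σ1 ∈ centralizer (Q' : Set (HolG V1)) :=
      hle (by rw [hX'z]; exact mem_zpowers _)
    have h3 := mem_centralizer_iff.1 h2 (pi V1 x1)
      ⟨x1, by rw [SetLike.mem_coe, hQ1, mem_subgroupOf]; exact hxQ, rfl⟩
    exact hnc h3.symm
  -- `V1` is elementary abelian and nontrivial
  have hV1ea : Cfsg.IsElementaryAbelian r V1 := by
    refine ⟨⟨⟨?_⟩⟩, ?_⟩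
    · rintro ⟨a, ha⟩ ⟨b, hb⟩
      apply Subtype.ext
      apply Subtype.ext
      exact hV.1 (a : H) (mem_subgroupOf.1 ha) (b : H) (mem_subgroupOf.1 hb)
    · intro a ha
      apply Subtype.ext
      rw [SubgroupClass.coe_pow]
      exact hV.2 (a : H) (mem_subgroupOf.1 ha)
  have hVVea : Cfsg.IsElementaryAbelian r (VV V1) := VV_elemAb V1 hV1ea
  have hVne : V ≠ ⊥ := by
    intro hVb
    apply hx
    rw [hVb, mem_centralizer_iff]
    intro v hv
    rw [SetLike.mem_coe, mem_bot] at hv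
    rw [hv, one_mul, mul_one]
  have hVV1 : VV V1 ≠ ⊥ := by
    intro hb
    have h1 : Nat.card (VV V1) = 1 := by rw [hb]; exact card_bot
    rw [card_VV, hV1, Cfsg.Agent.Helper1.Hol.card_subgroupOf_of_le N hVN] at h1
    exact hVne (card_eq_one.1 h1)
  have hXV : X' ≤ normalizer (VV V1 : Set (HolG V1)) := map_le_normalizer V1 _
  have hQV' : Q' ≤ normalizer (VV V1 : Set (HolG V1)) := map_le_normalizer V1 _
  have hfaith : (X' ⊔ Q') ⊓ centralizer (VV V1 : Set (HolG V1)) = ⊥ := by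
    rw [eq_bot_iff, ← range_inf_centralizer V1]
    refine inf_le_inf_right _ (sup_le ?_ ?_)
    · rw [MonoidHom.range_eq_map]; exact map_mono le_top
    · rw [MonoidHom.range_eq_map]; exact map_mono le_top
  have hrp : r.Prime := Fact.out
  have hqp : q.Prime := Fact.out
  have hres := Cfsg.Agent.S3765.result (G := HolG V1) (p := r) (q := q) (r := 3) hrp hqp h3p
    hqr.symm hr3 hq3 X' Q' (VV V1) hXcard hQ'p hXQ hXfaith hVVea hVV1 hXV hQV' hfaith
    (fun h2 => absurd h2 hq2)
  -- back to `V`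
  have hcard : Nat.card ↥(V1 ⊓ centralizer ((zpowers σ1 : Subgroup ↥N) : Set ↥N)) ≠ 1 := by
    rw [← card_VV_inf_centralizer_map V1 (zpowers σ1)]
    intro h1
    exact hres (card_eq_one.1 h1)
  have hne : V1 ⊓ centralizer ((zpowers σ1 : Subgroup ↥N) : Set ↥N) ≠ ⊥ := by
    intro hb
    apply hcard
    rw [hb]
    exact card_bot
  obtain ⟨⟨v, hv⟩, hv1'⟩ := (Subgroup.ne_bot_iff_exists_ne_one).1 hne
  have hv1 : v ≠ 1 := fun h => hv1' (Subtype.ext h)
  refine ⟨(v : H), mem_subgroupOf.1 hv.1, fun h => hv1 (Subtype.ext h), ?_⟩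
  have hc := mem_centralizer_iff.1 hv.2 σ1 (mem_zpowers σ1)
  have hc' : σ * (v : H) = (v : H) * σ := congrArg Subtype.val hc
  rw [hc', mul_inv_cancel_right]

end Cfsg.Agent.Helper62.Shult
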