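import Mathlib
import Cfsg.Agent.Helper13.MonoA
import Cfsg.Agent.Helper13.MonoA2

/-!
# S5634, piece (TOR) of helper13's WANTED #6099 / #6219

A rigidity lemma for the one-parameter family `x * d_{kl}(c) * x⁻¹`: if all its members are
monomial then column `k` of `x` has at most one nonzero entry, or columns `k` and `l` of `x` are
supported on two common rows.
-/

set_option autoImplicit false

namespace Cfsg.Agent.Helper62.MonoTOR

open Matrix Cfsg.Agent.Helper13.Mono

theorem exists_not_mem_finset' {α : Type*} [Fintype α] (s : Finset α)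
    (h : s.card < Fintype.card α) : ∃ x, x ∉ s := by
  by_contra hcon
  push Not at hcon
  have : s = Finset.univ := Finset.eq_univ_iff_forall.mpr hcon
  rw [this, Finset.card_univ] at h
  exact lt_irrefl _ h

variable {ι : Type*} [Fintype ι] [DecidableEq ι] {F : Type*} [Field F] [Fintype F]

/-- (TOR) -/
theorem tor (hq : 5 ≤ Fintype.card F) (x xi : Matrix ι ι F) (h1 : x * xi = 1) (h2 : xi * x = 1)
    {k l : ι} (hkl : k ≠ l)
    (hmono : ∀ c : F, c ≠ 0 → IsMonoMat (x * diagonal (dkl k l c) * xi)) :
    (∃ b, ∀ i, i ≠ b → x i k = 0) ∨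
      (∃ b b', ∀ i, i ≠ b → i ≠ b' → x i k = 0 ∧ x i l = 0) := by
  classical
  -- entry formula
  have hent : ∀ c : F, ∀ i j, (x * diagonal (dkl k l c) * xi) i j =
      (1 : Matrix ι ι F) i j + (c - 1) * (x i k * xi k j) + (c⁻¹ - 1) * (x i l * xi l j) := by
    intro c i j
    rw [mul_dkl_mul x xi hkl, h1]
  -- every column of a member of the family has at most one nonzero entry
  have hcol : ∀ c : F, c ≠ 0 → ∀ j, ∃ p, ∀ i, i ≠ p →
      (1 : Matrix ι ι F) i j + (c - 1) * (x i k * xi k j) + (c⁻¹ - 1) * (x i l * xi l j) = 0 := by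
    intro c hc j
    obtain ⟨σ, hσ⟩ := hmono c hc
    refine ⟨σ j, fun i hi => ?_⟩
    by_contra hne
    rw [← hent] at hne
    exact hi (hσ i j hne)
  by_cases hcase : ∃ j, xi k j * xi l j ≠ 0
  · -- CASE 1
    right
    obtain ⟨j, hj⟩ := hcase
    have hα : xi k j ≠ 0 := left_ne_zero_of_mul hj
    have hβ : xi l j ≠ 0 := right_ne_zero_of_mul hj
    have supp2 : ∀ s : F, s ≠ 0 → ∃ p p', ∀ i, i ≠ p → i ≠ p' →
        xi k j * x i k - s * (xi l j * x i l) = 0 := by
      intro s hs
      have hpair : ∃ c c' : F, c ≠ 0 ∧ c' ≠ 0 ∧ c ≠ c' ∧ (c * c')⁻¹ = s := by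
        by_cases hs1 : s = 1
        · obtain ⟨c, hc⟩ := exists_not_mem_finset' ({0, 1, -1} : Finset F)
            (lt_of_le_of_lt Finset.card_le_three (by omega))
          simp only [Finset.mem_insert, Finset.mem_singleton, not_or] at hc
          obtain ⟨hc0, hc1, hcm1⟩ := hc
          refine ⟨c, c⁻¹, hc0, inv_ne_zero hc0, ?_, ?_⟩
          · intro h
            have h' : c * c = 1 := by
              nth_rewrite 2 [h]
              exact mul_inv_cancel₀ hc0
            have h'' : (c - 1) * (c + 1) = 0 := by linear_combination h'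
            rcases mul_eq_zero.mp h'' with h3 | h3
            · exact hc1 (sub_eq_zero.mp h3)
            · exact hcm1 (eq_neg_of_add_eq_zero_left h3)
          · rw [mul_inv_cancel₀ hc0, inv_one, hs1]
        · refine ⟨1, s⁻¹, one_ne_zero, inv_ne_zero hs, ?_, ?_⟩
          · intro h
            apply hs1
            rw [← inv_inv s, ← h, inv_one]
          · rw [one_mul, inv_inv]
      obtain ⟨c, c', hc, hc', hcc', hs'⟩ := hpair
      obtain ⟨p, hp⟩ := hcol c hc j
      obtain ⟨p', hp'⟩ := hcol c' hc' j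
      refine ⟨p, p', fun i hi hi' => ?_⟩
      have e1 := hp i hi
      have e2 := hp' i hi'
      have hcc : c - c' ≠ 0 := sub_ne_zero.mpr hcc'
      have hinv : (c - c') * (c * c')⁻¹ = c'⁻¹ - c⁻¹ := by
        field_simp
      have key : (c - c') * (xi k j * x i k - s * (xi l j * x i l)) = 0 := by
        rw [← hs']
        linear_combination e1 - e2 - (xi l j * x i l) * hinv
      exact (mul_eq_zero.mp key).resolve_left hcc
    by_contra hcon
    have hex : ∀ b b', ∃ i, i ≠ b ∧ i ≠ b' ∧ ¬ (x i k = 0 ∧ x i l = 0) := by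
      intro b b'
      by_contra h
      apply hcon
      refine ⟨b, b', fun i hi hi' => ?_⟩
      by_contra h'
      exact h ⟨i, hi, hi', h'⟩
    obtain ⟨i₁, -, -, hT₁⟩ := hex k k
    obtain ⟨i₂, h21, -, hT₂⟩ := hex i₁ i₁
    obtain ⟨i₃, h31, h32, hT₃⟩ := hex i₁ i₂
    have hbad : ∀ i, ¬ (x i k = 0 ∧ x i l = 0) → ∀ s : F, s ≠ 0 →
        xi k j * x i k - s * (xi l j * x i l) = 0 →
        s = (xi k j * x i k) / (xi l j * x i l) := by
      intro i hT s _ hw
      have hv : x i l ≠ 0 := by
        intro hv0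
        apply hT
        rw [hv0, mul_zero, mul_zero, sub_zero] at hw
        exact ⟨(mul_eq_zero.mp hw).resolve_left hα, hv0⟩
      have hne : xi l j * x i l ≠ 0 := mul_ne_zero hβ hv
      rw [eq_div_iff hne]
      linear_combination -hw
    obtain ⟨s, hs⟩ := exists_not_mem_finset'
      ({0, (xi k j * x i₁ k) / (xi l j * x i₁ l), (xi k j * x i₂ k) / (xi l j * x i₂ l),
        (xi k j * x i₃ k) / (xi l j * x i₃ l)} : Finset F)
      (lt_of_le_of_lt Finset.card_le_four (by omega))
    simp only [Finset.mem_insert, Finset.mem_singleton, not_or] at hs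
    obtain ⟨hs0, hs1, hs2, hs3⟩ := hs
    obtain ⟨p, p', hpp⟩ := supp2 s hs0
    have a1 : i₁ = p ∨ i₁ = p' := by
      by_contra h
      push Not at h
      exact hs1 (hbad i₁ hT₁ s hs0 (hpp i₁ h.1 h.2))
    have a2 : i₂ = p ∨ i₂ = p' := by
      by_contra h
      push Not at h
      exact hs2 (hbad i₂ hT₂ s hs0 (hpp i₂ h.1 h.2))
    have a3 : i₃ = p ∨ i₃ = p' := by
      by_contra h
      push Not at h
      exact hs3 (hbad i₃ hT₃ s hs0 (hpp i₃ h.1 h.2))
    rcases a1 with a1 | a1 <;> rcases a2 with a2 | a2 <;> rcases a3 with a3 | a3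
    all_goals first
      | exact h21 (a2.trans a1.symm)
      | exact h31 (a3.trans a1.symm)
      | exact h32 (a3.trans a2.symm)
  · -- CASE 2
    left
    push Not at hcase
    have hrow : ∃ j, xi k j ≠ 0 := by
      by_contra hcon
      push Not at hcon
      have h3 : (xi * x) k k = 1 := by rw [h2, Matrix.one_apply_eq]
      rw [Matrix.mul_apply] at h3
      have h4 : ∑ m, xi k m * x m k = 0 :=
        Finset.sum_eq_zero (fun m _ => by rw [hcon m, zero_mul])
      rw [h4] at h3
      exact zero_ne_one h3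
    obtain ⟨j, hα⟩ := hrow
    have hβ : xi l j = 0 := (mul_eq_zero.mp (hcase j)).resolve_left hα
    -- two nonzero entries of column `k`, one of them off row `j`, are impossible
    have hkey : ∀ p p', p ≠ p' → p' ≠ j → x p k ≠ 0 → x p' k ≠ 0 → False := by
      intro p p' hpp' hp'j hup hup'
      obtain ⟨c, hc⟩ := exists_not_mem_finset'
        ({0, 1, 1 - (1 : Matrix ι ι F) p j / (xi k j * x p k)} : Finset F)
        (lt_of_le_of_lt Finset.card_le_three (by omega))
      simp only [Finset.mem_insert, Finset.mem_singleton, not_or] at hc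
      obtain ⟨hc0, hc1, hc2⟩ := hc
      obtain ⟨r, hr⟩ := hcol c hc0 j
      have hc1' : c - 1 ≠ 0 := sub_ne_zero.mpr hc1
      -- entry `p'` is nonzero
      have hp'r : p' = r := by
        by_contra h
        have e := hr p' h
        rw [hβ, mul_zero, mul_zero, add_zero, Matrix.one_apply_ne hp'j, zero_add] at e
        rcases mul_eq_zero.mp e with e' | e'
        · exact hc1' e'
        · rcases mul_eq_zero.mp e' with e'' | e''
          · exact hup' e''
          · exact hα e''
      -- entry `p` is nonzero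
      have hpr : p = r := by
        by_contra h
        have e := hr p h
        rw [hβ, mul_zero, mul_zero, add_zero] at e
        apply hc2
        have hne : xi k j * x p k ≠ 0 := mul_ne_zero hα hup
        have hdiv : (1 : Matrix ι ι F) p j / (xi k j * x p k) = 1 - c := by
          rw [div_eq_iff hne]
          linear_combination e
        rw [hdiv]
        ring
      exact hpp' (hpr.trans hp'r.symm)
    by_contra hcon
    have hex : ∀ b, ∃ i, i ≠ b ∧ x i k ≠ 0 := by
      intro b
      by_contra h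
      apply hcon
      refine ⟨b, fun i hi => ?_⟩
      by_contra h'
      exact h ⟨i, hi, h'⟩
    obtain ⟨p₀, -, hp₀⟩ := hex k
    obtain ⟨p₁, hp₁ne, hp₁⟩ := hex p₀
    by_cases hp₁j : p₁ = j
    · have hp₀j : p₀ ≠ j := fun h => hp₁ne (hp₁j.trans h.symm)
      exact hkey p₁ p₀ hp₁ne hp₀j hp₁ hp₀
    · exact hkey p₀ p₁ (Ne.symm hp₁ne) hp₁j hp₀ hp₁

end Cfsg.Agent.Helper62.MonoTOR
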