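import Mathlib
import Cfsg.Agent.Helper13.MonoA

/-!
# S5634, piece (AX) of helper13's WANTED #6104

Monomial matrices of determinant one together with one nontrivial transvection whose axis is a
coordinate hyperplane generate `SL`: `axis_all`.
-/

set_option autoImplicit false

namespace Cfsg.Agent.Helper62.MonoAX

open Matrix Cfsg.Agent.Helper13.Mono

variable {ι : Type*} [Fintype ι] [DecidableEq ι] {F : Type*} [Field F]

/-- `Z a γ = 1 + γ e_aᵀ`. -/
def Z (a : ι) (γ : ι → F) : Matrix ι ι F := 1 + vecMulVec γ (Pi.single a (1 : F))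

theorem Z_mul (a : ι) (γ γ' : ι → F) (h : γ' a = 0) : Z a γ * Z a γ' = Z a (γ + γ') := by
  unfold Z
  rw [Matrix.add_mul, Matrix.mul_add, Matrix.mul_add, Matrix.one_mul, Matrix.mul_one,
    Matrix.one_mul, vecMulVec_mul_vecMulVec]
  have : (Pi.single a (1 : F) : ι → F) ⬝ᵥ γ' = 0 := by
    rw [single_dotProduct, h, mul_zero]
  rw [this, zero_smul]
  ext i j
  simp only [Matrix.add_apply, vecMulVec_apply, Pi.add_apply, Pi.zero_apply, mul_zero, add_zero]
  ring

theorem Z_zero (a : ι) : Z a (0 : ι → F) = 1 := by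
  unfold Z
  ext i j
  simp [vecMulVec_apply]

theorem matIn_Z_add {M : Subgroup (GL ι F)} {a : ι} {γ γ' : ι → F} (h' : γ' a = 0)
    (hγ : MatIn M (Z a γ)) (hγ' : MatIn M (Z a γ')) : MatIn M (Z a (γ + γ')) := by
  rw [← Z_mul a γ γ' h']
  exact hγ.mul hγ'

theorem matIn_Z_neg {M : Subgroup (GL ι F)} {a : ι} {γ : ι → F} (h : γ a = 0)
    (hγ : MatIn M (Z a γ)) : MatIn M (Z a (-γ)) := by
  apply hγ.of_mul_eq_one
  rw [Z_mul a γ (-γ) (by simp [h]), add_neg_cancel, Z_zero]

/-- conjugation of `Z a γ` by a diagonal matrix `d` with `d a = 1` -/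
theorem diag_conj_Z (a : ι) (γ : ι → F) (d : ι → Fˣ) (hda : d a = 1) :
    ((dg d : GL ι F) : Matrix ι ι F) * Z a γ * (((dg d)⁻¹ : GL ι F) : Matrix ι ι F) =
      Z a (fun i => (d i : F) * γ i) := by
  rw [dg_val, dg_inv_val]
  unfold Z
  rw [Matrix.mul_add, Matrix.add_mul, Matrix.mul_one, diagonal_mul_diagonal, mul_vecMulVec,
    vecMulVec_mul]
  have h1 : (fun i => ((d i : Fˣ) : F) * (((d i)⁻¹ : Fˣ) : F)) = fun _ => (1 : F) := by
    funext i; simp
  have h2 : (Pi.single a (1 : F) : ι → F) ᵥ* diagonal (fun i => (((d i)⁻¹ : Fˣ) : F)) =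
      Pi.single a (1 : F) := by
    rw [single_vecMul_diagonal, hda]; simp
  have h3 : diagonal (fun i => ((d i : Fˣ) : F)) *ᵥ γ = fun i => (d i : F) * γ i := by
    funext i; rw [mulVec_diagonal]
  rw [h1, h2, h3, diagonal_one]


theorem matIn_Z_scale {M : Subgroup (GL ι F)}
    (hN : ∀ g : GL ι F, IsMonoMat (g : Matrix ι ι F) → (g : Matrix ι ι F).det = 1 → g ∈ M)
    {a : ι} {γ : ι → F} (d : ι → Fˣ) (hda : d a = 1) (hprod : ∏ i, ((d i : Fˣ) : F) = 1)
    (hγ : MatIn M (Z a γ)) : MatIn M (Z a (fun i => (d i : F) * γ i)) := by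
  have hd : dg d ∈ M :=
    hN _ (by rw [dg_val]; exact isMonoMat_diagonal _) (by rw [det_dg, hprod])
  rw [← diag_conj_Z a γ d hda]
  exact ((matIn_of_mem hd).mul hγ).mul (matIn_of_mem (M.inv_mem hd))

/-- the diagonal with `s` at `m`, `s⁻¹` at `m'`, `1` elsewhere -/
noncomputable def d2 (m m' : ι) (s : Fˣ) : ι → Fˣ :=
  fun i => if i = m then s else if i = m' then s⁻¹ else 1

theorem d2_prod (m m' : ι) (hmm : m ≠ m') (s : Fˣ) : ∏ i, ((d2 m m' s i : Fˣ) : F) = 1 := by
  rw [Finset.prod_eq_mul m m' hmm]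
  · simp [d2, hmm.symm]
  · intro c _ hc
    simp [d2, hc.1, hc.2]
  · intro h; exact absurd (Finset.mem_univ _) h
  · intro h; exact absurd (Finset.mem_univ _) h

theorem d2_of_ne (m m' : ι) (s : Fˣ) {i : ι} (h1 : i ≠ m) (h2 : i ≠ m') : d2 m m' s i = 1 := by
  simp [d2, h1, h2]

theorem d2_same (m m' : ι) (s : Fˣ) : d2 m m' s m = s := by
  simp [d2]

theorem exists_not_mem_finset {α : Type*} [Fintype α] (s : Finset α)
    (h : s.card < Fintype.card α) : ∃ x, x ∉ s := by
  by_contra hcon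
  push Not at hcon
  have : s = Finset.univ := Finset.eq_univ_iff_forall.mpr hcon
  rw [this, Finset.card_univ] at h
  exact lt_irrefl _ h

theorem Z_single (a m : ι) (c : F) : Z a (Pi.single m c) = transvection m a c := by
  unfold Z transvection
  congr 1
  ext i j
  rw [vecMulVec_apply, Matrix.single_apply, Pi.single_apply, Pi.single_apply]
  by_cases h1 : i = m
  · by_cases h2 : j = a
    · simp [h1, h2]
    · have : ¬ (m = i ∧ a = j) := fun h => h2 h.2.symm
      simp [h2, this]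
  · have : ¬ (m = i ∧ a = j) := fun h => h1 h.1.symm
    simp [h1, this]

/-- Steps (1), (2): all transvections `transvection m₁ a c` lie in `M`, for some `m₁ ≠ a`. -/
theorem exists_row [Fintype F] (hq : 3 ≤ Fintype.card F) (hn : 4 ≤ Fintype.card ι)
    (M : Subgroup (GL ι F))
    (hN : ∀ g : GL ι F, IsMonoMat (g : Matrix ι ι F) → (g : Matrix ι ι F).det = 1 → g ∈ M)
    (a : ι) (γ : ι → F) (hγa : γ a = 0) (hγ : γ ≠ 0)
    (hM : MatIn M (1 + vecMulVec γ (Pi.single a (1 : F)))) :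
    ∃ m₁ : ι, m₁ ≠ a ∧ ∀ c : F, MatIn M (transvection m₁ a c) := by
  classical
  change MatIn M (Z a γ) at hM
  obtain ⟨m₁, hm₁⟩ : ∃ m₁, γ m₁ ≠ 0 := by
    by_contra hcon
    push Not at hcon
    exact hγ (funext hcon)
  have hm₁a : m₁ ≠ a := fun h => hm₁ (h ▸ hγa)
  obtain ⟨m₂, hm₂⟩ := exists_not_mem_finset ({a, m₁} : Finset ι)
    (lt_of_le_of_lt Finset.card_le_two (by omega))
  obtain ⟨a', ha'⟩ := exists_not_mem_finset ({a, m₁, m₂} : Finset ι)
    (lt_of_le_of_lt Finset.card_le_three (by omega))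
  obtain ⟨s, hs⟩ := exists_not_mem_finset ({0, 1} : Finset F)
    (lt_of_le_of_lt Finset.card_le_two (by omega))
  simp only [Finset.mem_insert, Finset.mem_singleton, not_or] at hm₂ ha' hs
  obtain ⟨hm₂a, hm₂m₁⟩ := hm₂
  obtain ⟨ha'a, ha'm₁, ha'm₂⟩ := ha'
  obtain ⟨hs0, hs1⟩ := hs
  set su : Fˣ := Units.mk0 s hs0 with hsu
  -- first difference
  have h1 := matIn_Z_scale hN (d2 m₁ m₂ su)
    (d2_of_ne m₁ m₂ su (Ne.symm hm₁a) (Ne.symm hm₂a)) (d2_prod m₁ m₂ (Ne.symm hm₂m₁) su) hM
  have h2 := matIn_Z_add (by simp [hγa]) h1 (matIn_Z_neg hγa hM)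
  set γ₁ : ι → F := (fun i => ((d2 m₁ m₂ su i : Fˣ) : F) * γ i) + -γ with hγ₁
  have hγ₁a : γ₁ a = 0 := by simp [hγ₁, hγa]
  -- second difference
  have h3 := matIn_Z_scale hN (d2 m₁ a' su)
    (d2_of_ne m₁ a' su (Ne.symm hm₁a) (Ne.symm ha'a)) (d2_prod m₁ a' (Ne.symm ha'm₁) su) h2
  have h4 := matIn_Z_add (by simp [hγ₁a]) h3 (matIn_Z_neg hγ₁a h2)
  have hc₀ : (s - 1) ^ 2 * γ m₁ ≠ 0 :=
    mul_ne_zero (pow_ne_zero 2 (sub_ne_zero.mpr hs1)) hm₁
  have hγ₂ : ((fun i => ((d2 m₁ a' su i : Fˣ) : F) * γ₁ i) + -γ₁) =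
      Pi.single m₁ ((s - 1) ^ 2 * γ m₁) := by
    funext i
    by_cases hi1 : i = m₁
    · subst hi1
      simp only [Pi.add_apply, Pi.neg_apply, hγ₁, d2_same, Pi.single_eq_same, hsu, Units.val_mk0]
      ring
    · rw [Pi.single_eq_of_ne hi1]
      by_cases hi2 : i = a'
      · subst hi2
        have : γ₁ i = 0 := by
          simp only [hγ₁, Pi.add_apply, Pi.neg_apply, d2_of_ne m₁ m₂ su ha'm₁ ha'm₂, Units.val_one]
          ring
        simp [this]
      · simp only [Pi.add_apply, Pi.neg_apply, d2_of_ne m₁ a' su hi1 hi2, Units.val_one]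
        ring
  rw [hγ₂] at h4
  refine ⟨m₁, hm₁a, fun c => ?_⟩
  rw [← Z_single]
  by_cases hc : c = 0
  · rw [hc, Pi.single_zero, Z_zero]; exact MatIn.one M
  · have hr : c / ((s - 1) ^ 2 * γ m₁) ≠ 0 := div_ne_zero hc hc₀
    have h5 := matIn_Z_scale hN (d2 m₁ a' (Units.mk0 _ hr))
      (d2_of_ne m₁ a' _ (Ne.symm hm₁a) (Ne.symm ha'a)) (d2_prod m₁ a' (Ne.symm ha'm₁) _) h4
    have h6 : (fun i => ((d2 m₁ a' (Units.mk0 _ hr) i : Fˣ) : F) *
        (Pi.single m₁ ((s - 1) ^ 2 * γ m₁) : ι → F) i) = Pi.single m₁ c := by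
      funext i
      by_cases hi1 : i = m₁
      · subst hi1
        simp only [d2_same, Pi.single_eq_same, Units.val_mk0]
        field_simp
      · rw [Pi.single_eq_of_ne hi1, Pi.single_eq_of_ne hi1, mul_zero]
    rwa [h6] at h5


/-- the sign vector of the signed swap -/
def eps (k : ι) : ι → F := fun i => if i = k then (-1 : F) else 1

theorem eps_mul_self (k i : ι) : (eps k i : F) * eps k i = 1 := by
  unfold eps
  split_ifs <;> simp

/-- signed swap matrix: `e_s ↦ ε_s e_{σ s}`, `σ = swap k l` -/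
noncomputable def nu (k l : ι) : Matrix ι ι F :=
  (Equiv.swap k l).permMatrix F * diagonal (eps k)

theorem nu_apply (k l r s : ι) :
    (nu k l : Matrix ι ι F) r s = if r = Equiv.swap k l s then eps k s else 0 := by
  unfold nu
  rw [Matrix.mul_diagonal, Equiv.Perm.permMatrix, PEquiv.toMatrix_apply, Equiv.toPEquiv_apply]
  by_cases h : r = Equiv.swap k l s
  · have : s ∈ (some (Equiv.swap k l r) : Option ι) := by
      rw [Option.mem_some_iff, h, Equiv.swap_apply_self]
    rw [if_pos this, if_pos h, one_mul]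
  · have : ¬ s ∈ (some (Equiv.swap k l r) : Option ι) := by
      rw [Option.mem_some_iff]
      intro h'
      apply h
      rw [← h', Equiv.swap_apply_self]
    rw [if_neg this, if_neg h, zero_mul]

theorem det_nu {k l : ι} (hkl : k ≠ l) : (nu k l : Matrix ι ι F).det = 1 := by
  unfold nu
  rw [det_mul, det_permutation, det_diagonal, Equiv.Perm.sign_swap hkl]
  have : ∏ i, (eps k i : F) = -1 := by
    unfold eps
    rw [Finset.prod_ite_eq']
    simp
  rw [this]
  simp

theorem isMonoMat_nu (k l : ι) : IsMonoMat (nu k l : Matrix ι ι F) := by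
  refine ⟨Equiv.swap k l, fun r s hrs => ?_⟩
  rw [nu_apply] at hrs
  by_contra h
  rw [if_neg h] at hrs
  exact hrs rfl

theorem nu_mul_transvection (k l i j : ι) (c : F) :
    (nu k l : Matrix ι ι F) * transvection i j c =
      transvection (Equiv.swap k l i) (Equiv.swap k l j) (c * eps k i * eps k j) * nu k l := by
  unfold transvection
  rw [Matrix.mul_add, Matrix.add_mul, Matrix.mul_one, Matrix.one_mul]
  congr 1
  ext r s
  by_cases hs : s = j
  · subst hs
    rw [mul_single_apply_same, nu_apply]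
    by_cases hr : r = Equiv.swap k l i
    · subst hr
      rw [single_mul_apply_same, nu_apply, if_pos rfl, if_pos rfl]
      have := eps_mul_self (F := F) k s
      linear_combination (-(c * eps k i)) * this
    · rw [if_neg hr, single_mul_apply_of_ne _ _ _ _ _ hr, zero_mul]
  · rw [mul_single_apply_of_ne _ _ _ _ _ hs]
    by_cases hr : r = Equiv.swap k l i
    · subst hr
      rw [single_mul_apply_same, nu_apply]
      have : ¬ Equiv.swap k l j = Equiv.swap k l s := fun h => hs ((Equiv.swap k l).injective h).symm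
      rw [if_neg this, mul_zero]
    · rw [single_mul_apply_of_ne _ _ _ _ _ hr]

theorem conj_swap {M : Subgroup (GL ι F)}
    (hN : ∀ g : GL ι F, IsMonoMat (g : Matrix ι ι F) → (g : Matrix ι ι F).det = 1 → g ∈ M)
    (k l i j : ι) (h : ∀ c : F, MatIn M (transvection i j c)) :
    ∀ c : F, MatIn M (transvection (Equiv.swap k l i) (Equiv.swap k l j) c) := by
  intro c
  by_cases hkl : k = l
  · subst hkl
    simpa [Equiv.swap_self] using h c
  have hdet : (nu k l : Matrix ι ι F).det = 1 := det_nu hkl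
  set g : GL ι F := Matrix.GeneralLinearGroup.mkOfDetNeZero (nu k l)
    (by rw [hdet]; exact one_ne_zero) with hgdef
  have hgval : (g : Matrix ι ι F) = nu k l := rfl
  have hg : g ∈ M := hN g (by rw [hgval]; exact isMonoMat_nu k l) (by rw [hgval]; exact hdet)
  obtain ⟨t, ht, htval⟩ := h (c * eps k i * eps k j)
  refine ⟨g * t * g⁻¹, M.mul_mem (M.mul_mem hg ht) (M.inv_mem hg), ?_⟩
  have hkey : (g : Matrix ι ι F) * (t : Matrix ι ι F) =
      transvection (Equiv.swap k l i) (Equiv.swap k l j) c * (g : Matrix ι ι F) := by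
    rw [hgval, htval, nu_mul_transvection]
    congr 2
    have h1 := eps_mul_self (F := F) k i
    have h2 := eps_mul_self (F := F) k j
    linear_combination (c * eps k j * eps k j) * h1 + c * h2
  rw [Units.val_mul, Units.val_mul, hkey, Matrix.mul_assoc, ← Units.val_mul, mul_inv_cancel,
    Units.val_one, Matrix.mul_one]

/-- (AX) monomial matrices of determinant one and one nontrivial transvection with axis a
coordinate hyperplane generate `SL`. -/
theorem axis_all [Fintype F] (hq : 3 ≤ Fintype.card F) (hn : 4 ≤ Fintype.card ι)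
    (M : Subgroup (GL ι F))
    (hN : ∀ g : GL ι F, IsMonoMat (g : Matrix ι ι F) → (g : Matrix ι ι F).det = 1 → g ∈ M)
    (a : ι) (γ : ι → F) (hγa : γ a = 0) (hγ : γ ≠ 0)
    (hM : MatIn M (1 + vecMulVec γ (Pi.single a (1 : F)))) :
    ∀ g : GL ι F, (g : Matrix ι ι F).det = 1 → g ∈ M := by
  obtain ⟨m₁, hm₁a, hrow⟩ := exists_row hq hn M hN a γ hγa hγ hM
  have : Nontrivial ι := Fintype.one_lt_card_iff_nontrivial.mp (by omega)
  apply sl_le_of_elem M
  · rintro g ⟨d, hd⟩ hdet
    exact hN g (by rw [hd]; exact isMonoMat_diagonal d) hdet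
  · intro i j hij c
    have h1 := conj_swap hN m₁ i m₁ a hrow
    rw [Equiv.swap_apply_left] at h1
    have hia₁ : i ≠ Equiv.swap m₁ i a := by
      intro h
      have h' := congrArg (Equiv.swap m₁ i) h
      rw [Equiv.swap_apply_right, Equiv.swap_apply_self] at h'
      exact hm₁a h'
    have h2 := conj_swap hN (Equiv.swap m₁ i a) j i (Equiv.swap m₁ i a) h1
    rw [Equiv.swap_apply_of_ne_of_ne hia₁ hij, Equiv.swap_apply_left] at h2
    exact h2 c

end Cfsg.Agent.Helper62.MonoAX
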