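import Mathlib
import Cfsg.Agent.Helper15.MixDefs
import Cfsg.Agent.Helper81.MixH1

/-!
# S4017, piece (II3) of helper15's WANTED #5926

Case II (`Y p Q = ⊥`): two different involutions `t, s` of `Q` with `W p t ≠ ⊥` cannot have
`W p t` and `W p s` in the same Sylow `p`-subgroup.  Pieces (U1) and (C2) are explicit hypotheses
(`hU1`, `hC2`), instantiated at this configuration.
-/

set_option autoImplicit false

namespace Cfsg.Agent.Helper62.MixII3

open Subgroup Cfsg.Agent.Helper15.Mix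

variable {G : Type*} [Group G] {p : ℕ}

/-- The elements of `W p t` commute with `t`. -/
theorem W_le_cz (p : ℕ) (t : G) : W p t ≤ centralizer ({t} : Set G) := by
  unfold W
  rw [closure_le]
  intro g hg
  rw [SetLike.mem_coe, mem_centralizer_singleton_iff]
  exact hg.1

/-- Conjugation maps `W p t` into `W p (c t c⁻¹)`. -/
theorem conj_mem_W {c t w : G} (hw : w ∈ W p t) : c * w * c⁻¹ ∈ W p (c * t * c⁻¹) := by
  have hle : W p t ≤ (W p (c * t * c⁻¹)).comap (MulAut.conj c).toMonoidHom := by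
    unfold W
    rw [closure_le]
    intro g hg
    rw [SetLike.mem_coe, mem_comap]
    apply Subgroup.subset_closure
    refine ⟨?_, ?_⟩
    · show (MulAut.conj c) g * (c * t * c⁻¹) = (c * t * c⁻¹) * (MulAut.conj c) g
      rw [MulAut.conj_apply]
      have h1 := hg.1
      calc c * g * c⁻¹ * (c * t * c⁻¹) = c * (g * t) * c⁻¹ := by group
        _ = c * (t * g) * c⁻¹ := by rw [h1]
        _ = c * t * c⁻¹ * (c * g * c⁻¹) := by group
    · obtain ⟨j, hj⟩ := hg.2
      refine ⟨j, ?_⟩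
      rw [← hj]
      exact MulEquiv.orderOf_eq (MulAut.conj c) g
  have := hle hw
  rw [mem_comap] at this
  simpa [MulAut.conj_apply] using this

/-- A power of a `p`-element is a `p`-element. -/
theorem isPElt_pow (hp : p.Prime) {g : G} (hg : IsPElt p g) (k : ℕ) : IsPElt p (g ^ k) := by
  obtain ⟨j, hj⟩ := hg
  have h1 : orderOf (g ^ k) ∣ p ^ j := by rw [← hj]; exact orderOf_pow_dvd k
  obtain ⟨i, -, hi⟩ := (Nat.dvd_prime_pow hp).mp h1
  exact ⟨i, hi⟩

/-- The elements of a `p`-subgroup are `p`-elements. -/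
theorem isPElt_of_mem [Fact p.Prime] {H : Subgroup G} (hH : IsPGroup p H) {w : G} (hw : w ∈ H) :
    IsPElt p w := by
  obtain ⟨k, hk⟩ := IsPGroup.iff_orderOf.mp hH ⟨w, hw⟩
  exact ⟨k, by rw [← hk, Subgroup.orderOf_mk]⟩

variable [Finite G] {a : ℕ} {Q : Subgroup G} {x : G}

/-- (II3), with (U1) and (C2) as hypotheses. -/
theorem false_of_two_W_le' [Fact p.Prime] (h : Cfg G p a Q x) (hY : Y p Q = ⊥)
    (hU1 : ∀ {w z : G}, IsPElt p w → w ≠ 1 → orderOf z = 2 → w * z = z * w →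
      ∀ P P' : Sylow p G, w ∈ P → w ∈ P' → P = P')
    (hC2 : ∀ {t : G}, t ∈ Q → t ≠ 1 → IsPGroup p (W p t))
    {t s : G}
    (ht : t ∈ Q) (ht1 : t ≠ 1) (hs : s ∈ Q) (hs1 : s ≠ 1) (hts : t ≠ s) (hW : W p t ≠ ⊥)
    (P : Sylow p G) (hPt : W p t ≤ P) (hPs : W p s ≤ P) : False := by
  have hp : p.Prime := h.mc.hp
  have hQcard : Nat.card Q = p + 1 := by rw [h.qcard, h.mc.hpa]
  -- the transporting element `c = x ^ k`
  obtain ⟨k, hk⟩ := h.xtrans t ht s hs ht1 hs1
  set c := x ^ k with hc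
  have hcN : c ∈ normalizer (Q : Set G) := Subgroup.pow_mem _ h.xN k
  have hcp : IsPElt p c := isPElt_pow hp h.xp k
  have hcC : c ∉ centralizer (Q : Set G) := by
    intro hcc
    rw [mem_centralizer_iff] at hcc
    have h1 : t * c = c * t := hcc t ht
    apply hts
    rw [← hk, ← h1, mul_inv_cancel_right]
  -- a nontrivial element of `W p t`
  obtain ⟨⟨w₀, hw₀⟩, hw₀1⟩ := (Subgroup.ne_bot_iff_exists_ne_one).mp hW
  have hw₀1' : w₀ ≠ 1 := fun hh => hw₀1 (Subtype.ext hh)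
  -- its conjugate lies in `W p s`
  have hw' : c * w₀ * c⁻¹ ∈ W p s := by
    have := conj_mem_W (c := c) hw₀
    rwa [hk] at this
  have hw'1 : c * w₀ * c⁻¹ ≠ 1 := by
    intro hh
    apply hw₀1'
    have : w₀ = c⁻¹ * (c * w₀ * c⁻¹) * c := by group
    rw [this, hh]; group
  have hw'p : IsPElt p (c * w₀ * c⁻¹) := isPElt_of_mem (hC2 hs hs1) hw'
  have hs2 : orderOf s = 2 := by
    have : Fact (Nat.Prime 2) := ⟨Nat.prime_two⟩
    exact orderOf_eq_prime (by rw [pow_two]; exact h.qexp s hs) hs1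
  have hw's : c * w₀ * c⁻¹ * s = s * (c * w₀ * c⁻¹) := by
    have := W_le_cz p s hw'
    rwa [mem_centralizer_singleton_iff] at this
  -- `c • P = P`
  have hmem1 : c * w₀ * c⁻¹ ∈ P := hPs hw'
  have hmem2 : c * w₀ * c⁻¹ ∈ (c • P : Sylow p G) := by
    show c * w₀ * c⁻¹ ∈ ((c • P : Sylow p G) : Subgroup G)
    rw [Sylow.coe_subgroup_smul, Subgroup.mem_smul_pointwise_iff_exists]
    exact ⟨w₀, hPt hw₀, by rw [MulAut.smul_def, MulAut.conj_apply]⟩
  have hPeq : P = c • P := hU1 hw'p hw'1 hs2 hw's P (c • P) hmem1 hmem2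
  have hcNP : c ∈ normalizer ((P : Subgroup G) : Set G) :=
    Sylow.smul_eq_iff_mem_normalizer.mp hPeq.symm
  -- `c ∈ P`
  have hcP : c ∈ P := by
    obtain ⟨j, hj⟩ := hcp
    have hz : IsPGroup p (zpowers c) := by
      apply IsPGroup.of_card (n := j)
      rw [Nat.card_zpowers, hj]
    have h1 : c ∈ zpowers c ⊓ normalizer ((P : Subgroup G) : Set G) :=
      mem_inf.mpr ⟨mem_zpowers c, hcNP⟩
    have h2 : zpowers c ⊓ normalizer ((P : Subgroup G) : Set G) = zpowers c ⊓ (P : Subgroup G) :=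
      hz.inf_normalizer_sylow P
    rw [h2] at h1
    exact (mem_inf.mp h1).2
  -- `W p t ≤ C(Q)`
  have hWC : W p t ≤ centralizer (Q : Set G) := by
    intro w hw
    rw [mem_centralizer_iff]
    intro v hv
    by_cases hv1 : v = 1
    · rw [hv1, one_mul, mul_one]
    obtain ⟨m, hm⟩ := Cfsg.Agent.Helper81.Mix.trans_of_pelt hp Q hQcard hcN hcp hcC t ht v hv ht1 hv1
    have hcm : c ^ m ∈ P := Subgroup.pow_mem _ hcP m
    have hcomm : c ^ m * w = w * c ^ m := h.mc.pab P P.isPGroup' _ hcm _ (hPt hw)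
    have h1 : c ^ m * w * (c ^ m)⁻¹ ∈ W p v := by
      have := conj_mem_W (c := c ^ m) hw
      rwa [hm] at this
    rw [hcomm, mul_inv_cancel_right] at h1
    have := W_le_cz p v h1
    rw [mem_centralizer_singleton_iff] at this
    exact this.symm
  -- so `W p t ≤ Y p Q = ⊥`
  apply hW
  rw [eq_bot_iff, ← hY]
  intro w hw
  unfold Y
  apply Subgroup.subset_closure
  exact ⟨hWC hw, isPElt_of_mem (hC2 ht ht1) hw⟩

end Cfsg.Agent.Helper62.MixII3
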