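import Mathlib
import Cfsg.Agent.Helper15.MixDefs
import Cfsg.Agent.Helper62.MixII3

/-!
# S4017, piece (II4) of helper15's WANTED #5926

Case II (`Y p Q = ⊥`) with `|Q| = 2 ^ a ≥ 8`: `W p t ≠ ⊥` is impossible.
Pieces (U1) and (C2) are explicit hypotheses (`hU1`, `hC2`); (II3) is `MixII3.false_of_two_W_le'`;
the four-group lemma (V4) is proved here (`v4_aux`, no oddness needed).
-/

set_option autoImplicit false

namespace Cfsg.Agent.Helper62.MixII4

open Subgroup Cfsg.Agent.Helper15.Mix Cfsg.Agent.Helper62.MixII3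

/-- (V4) a four-group `⟨s, u⟩` acting on an abelian group `A` so that `s`, `u`, `s u` have no
nontrivial fixed points: impossible unless `A = ⊥`. -/
theorem v4_aux {G : Type*} [Group G] (A : Subgroup G)
    (hcomm : ∀ v ∈ A, ∀ w ∈ A, v * w = w * v) (s u : G) (hs2 : s * s = 1) (hu2 : u * u = 1)
    (hsA : ∀ w ∈ A, s * w * s⁻¹ ∈ A) (huA : ∀ w ∈ A, u * w * u⁻¹ ∈ A)
    (h1 : ∀ w ∈ A, s * w = w * s → w = 1) (h2 : ∀ w ∈ A, u * w = w * u → w = 1)
    (h3 : ∀ w ∈ A, (s * u) * w = w * (s * u) → w = 1) : A = ⊥ := by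
  have inv_of : ∀ r : G, r * r = 1 → (∀ w ∈ A, r * w * r⁻¹ ∈ A) →
      (∀ w ∈ A, r * w = w * r → w = 1) → ∀ w ∈ A, r * w * r⁻¹ = w⁻¹ := by
    intro r hr2 hrA hr1 w hw
    have hrinv : r⁻¹ = r := inv_eq_of_mul_eq_one_left hr2
    have hrw : r * w * r ∈ A := by
      have := hrA w hw
      rwa [hrinv] at this
    have hz : w * (r * w * r) ∈ A := A.mul_mem hw hrw
    have hcz : r * (w * (r * w * r)) = (w * (r * w * r)) * r := by
      calc r * (w * (r * w * r)) = (r * w * r) * w * r := by simp only [mul_assoc]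
        _ = w * (r * w * r) * r := by rw [hcomm (r * w * r) hrw w hw]
    have hz1 := hr1 _ hz hcz
    rw [hrinv]
    exact eq_inv_of_mul_eq_one_right hz1
  rw [Subgroup.eq_bot_iff_forall]
  intro w hw
  apply h3 w hw
  have hs' := inv_of s hs2 hsA h1
  have hu' := inv_of u hu2 huA h2
  have e1 : u * w * u⁻¹ = w⁻¹ := hu' w hw
  have e2 : s * w⁻¹ * s⁻¹ = w := by
    have := hs' w⁻¹ (A.inv_mem hw)
    rwa [inv_inv] at this
  have e3 : (s * u) * w * (s * u)⁻¹ = w := by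
    calc (s * u) * w * (s * u)⁻¹ = s * (u * w * u⁻¹) * s⁻¹ := by group
      _ = w := by rw [e1, e2]
  exact mul_inv_eq_iff_eq_mul.mp e3

/-- A subgroup with more elements than a finset has an element outside it. -/
theorem exists_mem_not_mem_finset {G : Type*} [Group G] (Q : Subgroup G) (F : Finset G)
    (hF : F.card < Nat.card Q) : ∃ u ∈ Q, u ∉ F := by
  by_contra hcon
  push Not at hcon
  have hsub : (Q : Set G) ⊆ (F : Set G) := fun u hu => hcon u hu
  have h1 := Set.ncard_le_ncard hsub (Finset.finite_toSet F)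
  rw [Set.ncard_coe_finset] at h1
  have h2 : (Q : Set G).ncard = Nat.card Q := (Nat.card_coe_set_eq (Q : Set G)).symm
  omega

variable {G : Type*} [Group G] [Finite G] {p a : ℕ} {Q : Subgroup G} {x : G}

/-- (II4), with (U1) and (C2) as hypotheses. -/
theorem false_of_three_le' [Fact p.Prime] (h : Cfg G p a Q x) (hY : Y p Q = ⊥)
    (hU1 : ∀ {w z : G}, IsPElt p w → w ≠ 1 → orderOf z = 2 → w * z = z * w →
      ∀ P P' : Sylow p G, w ∈ P → w ∈ P' → P = P')
    (hC2 : ∀ {t : G}, t ∈ Q → t ≠ 1 → IsPGroup p (W p t))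
    (ha : 3 ≤ a)
    {t : G} (ht : t ∈ Q) (ht1 : t ≠ 1) (hW : W p t ≠ ⊥) : False := by
  classical
  have hp : p.Prime := h.mc.hp
  have hinvQ : ∀ u ∈ Q, u⁻¹ = u := fun u hu => inv_eq_of_mul_eq_one_left (h.qexp u hu)
  have hQab : ∀ u ∈ Q, ∀ v ∈ Q, u * v = v * u := by
    intro u hu v hv
    have h1 := hinvQ (u * v) (Q.mul_mem hu hv)
    rw [mul_inv_rev, hinvQ u hu, hinvQ v hv] at h1
    exact h1.symm
  have hQ8 : 8 ≤ Nat.card Q := by
    rw [h.qcard]
    calc 8 = 2 ^ 3 := by norm_num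
      _ ≤ 2 ^ a := Nat.pow_le_pow_right (by norm_num) ha
  have ord2 : ∀ v ∈ Q, v ≠ 1 → orderOf v = 2 := by
    intro v hv hv1
    have : Fact (Nat.Prime 2) := ⟨Nat.prime_two⟩
    exact orderOf_eq_prime (by rw [pow_two]; exact h.qexp v hv) hv1
  -- choose `s` and `u`
  obtain ⟨s, hsQ, hs⟩ := exists_mem_not_mem_finset Q ({1, t} : Finset G)
    (lt_of_le_of_lt Finset.card_le_two (by omega))
  obtain ⟨u, huQ, hu⟩ := exists_mem_not_mem_finset Q ({1, t, s, t * s} : Finset G)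
    (lt_of_le_of_lt Finset.card_le_four (by omega))
  simp only [Finset.mem_insert, Finset.mem_singleton, not_or] at hs hu
  obtain ⟨hs1, hst⟩ := hs
  obtain ⟨hu1, hut, hus, huts⟩ := hu
  have hsuQ : s * u ∈ Q := Q.mul_mem hsQ huQ
  have hsu1 : s * u ≠ 1 := by
    intro hh
    apply hus
    have : u = s⁻¹ := eq_inv_of_mul_eq_one_right hh
    rw [this, hinvQ s hsQ]
  have hsut : s * u ≠ t := by
    intro hh
    apply huts
    have : u = s⁻¹ * t := by rw [← hh]; group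
    rw [this, hinvQ s hsQ, hQab s hsQ t ht]
  -- `A = W p t`
  have hAp : IsPGroup p (W p t) := hC2 ht ht1
  have hAcomm : ∀ v ∈ W p t, ∀ w ∈ W p t, v * w = w * v := h.mc.pab (W p t) hAp
  have hnorm : ∀ r ∈ Q, ∀ w ∈ W p t, r * w * r⁻¹ ∈ W p t := by
    intro r hr w hw
    have h1 := conj_mem_W (p := p) (c := r) hw
    have h2 : r * t * r⁻¹ = t := by rw [hQab r hr t ht, mul_inv_cancel_right]
    rwa [h2] at h1
  have hcase : ∃ s' ∈ Q, s' ≠ 1 ∧ t ≠ s' ∧ ∃ w ∈ W p t, w ≠ 1 ∧ s' * w = w * s' := by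
    by_contra hcon
    push Not at hcon
    apply hW
    refine v4_aux (W p t) hAcomm s u (h.qexp s hsQ) (h.qexp u huQ) (hnorm s hsQ) (hnorm u huQ)
      ?_ ?_ ?_
    · intro w hw hc
      by_contra hw1
      exact hcon s hsQ hs1 (Ne.symm hst) w hw hw1 hc
    · intro w hw hc
      by_contra hw1
      exact hcon u huQ hu1 (Ne.symm hut) w hw hw1 hc
    · intro w hw hc
      by_contra hw1
      exact hcon (s * u) hsuQ hsu1 (Ne.symm hsut) w hw hw1 hc
  obtain ⟨s', hs'Q, hs'1, hts', w, hw, hw1, hws'⟩ := hcase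
  have hwp : IsPElt p w := isPElt_of_mem hAp hw
  have hwWs' : w ∈ W p s' := by
    unfold W
    apply Subgroup.subset_closure
    exact ⟨hws'.symm, hwp⟩
  obtain ⟨P, hPt⟩ := IsPGroup.exists_le_sylow hAp
  obtain ⟨P', hPs'⟩ := IsPGroup.exists_le_sylow (hC2 hs'Q hs'1)
  have hwt : w * t = t * w := by
    have := W_le_cz p t hw
    rwa [mem_centralizer_singleton_iff] at this
  have hPP' : P = P' := hU1 hwp hw1 (ord2 t ht ht1) hwt P P' (hPt hw) (hPs' hwWs')
  rw [← hPP'] at hPs'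
  exact false_of_two_W_le' h hY hU1 hC2 ht ht1 hs'Q hs'1 hts' hW P hPt hPs'

end Cfsg.Agent.Helper62.MixII4
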