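import Mathlib
import Cfsg.Agent.Helper15.TIInvDefs
import Cfsg.Agent.Helper53.NormalComplement
import Cfsg.Agent.Helper55.AbelianSylowTwo

/-!
# Piece (GB1) of helper15's plan for S4018, by helper62

Under `Hyp P` the Sylow 2-subgroups of `G` are Klein four groups, all involutions of `G` are
conjugate and `G` has no element of order 4.
-/

set_option autoImplicit false

namespace Cfsg.Agent.Helper62.TIInv

open Cfsg Cfsg.Agent.Helper15.TIInv

universe u

variable {G : Type u} [Group G] [Finite G] (P : Sylow 3 G)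

/-- `G` is not commutative. -/
theorem not_comm (h : Hyp P) : ¬ ∀ x y : G, x * y = y * x := by
  intro hc
  have h1 : Subgroup.centralizer ((P : Subgroup G) : Set G) = ⊤ := by
    rw [Subgroup.eq_top_iff']
    intro x
    rw [Subgroup.mem_centralizer_iff]
    intro y _
    exact hc y x
  have h2 : Subgroup.normalizer ((P : Subgroup G) : Set G) = ⊤ := by
    rw [eq_top_iff, ← h1]
    exact Subgroup.centralizer_le_normalizer _
  have h3 := h.hN
  have h4 := h.hC
  rw [h2] at h3
  rw [h1, h3] at h4
  have h5 : 0 < Nat.card (P : Subgroup G) := Nat.card_pos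
  omega

theorem four_dvd_card (h : Hyp P) : 4 ∣ Nat.card G := by
  have h1 := Subgroup.card_subgroup_dvd_card (Subgroup.normalizer ((P : Subgroup G) : Set G))
  rw [h.hN] at h1
  exact (Dvd.intro _ rfl).trans h1

theorem sylow2_ne_top (h : Hyp P) (S : Sylow 2 G) : (S : Subgroup G) ≠ ⊤ := by
  intro hS
  haveI : Fact (Nat.Prime 2) := ⟨Nat.prime_two⟩
  have hG2 : IsPGroup 2 G := by
    intro g
    have hg : g ∈ (S : Subgroup G) := hS ▸ Subgroup.mem_top g
    obtain ⟨k, hk⟩ := S.2 ⟨g, hg⟩
    refine ⟨k, ?_⟩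
    have h1 := congrArg Subtype.val hk
    simpa using h1
  haveI := h.hsimple
  haveI hnt : Nontrivial (Subgroup.center G) := hG2.center_nontrivial
  have hcen : Subgroup.center G = ⊤ := by
    rcases (inferInstance : (Subgroup.center G).Normal).eq_bot_or_eq_top with hb | ht
    · exact absurd hb ((Subgroup.nontrivial_iff_ne_bot _).1 hnt)
    · exact ht
  apply not_comm P h
  intro x y
  have hx : x ∈ Subgroup.center G := hcen ▸ Subgroup.mem_top x
  exact (Subgroup.mem_center_iff.1 hx y).symm

theorem card_sylow2 (h : Hyp P) (S : Sylow 2 G) : Nat.card (S : Subgroup G) = 4 := by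
  haveI : Fact (Nat.Prime 2) := ⟨Nat.prime_two⟩
  haveI : Fact (Nat.Prime 3) := ⟨Nat.prime_three⟩
  have h4 : 4 ∣ Nat.card (S : Subgroup G) := by
    rw [S.card_eq_multiplicity]
    have h1 : 2 ^ 2 ∣ Nat.card G := four_dvd_card P h
    exact pow_dvd_pow 2 ((Nat.prime_two.pow_dvd_iff_le_factorization Nat.card_pos.ne').1 h1)
  have h2 : 2 ∣ Nat.card (S : Subgroup G) := Dvd.dvd.trans (by norm_num) h4
  have hdvd := h.heven S (sylow2_ne_top P h S) h2
  obtain ⟨k, hk⟩ := S.2.exists_card_eq
  obtain ⟨a, ha⟩ := P.2.exists_card_eq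
  have hk' : Nat.card (S : Subgroup G) = 2 ^ k := hk
  have ha' : Nat.card (P : Subgroup G) = 3 ^ a := ha
  rw [hk', ha'] at hdvd
  have hcop : Nat.Coprime (2 ^ k) (3 ^ a) := Nat.Coprime.pow _ _ (by norm_num)
  have h5 : 2 ^ k ∣ 4 := hcop.dvd_of_dvd_mul_right hdvd
  have h6 := Nat.le_of_dvd (by norm_num) h5
  rw [hk'] at h4 ⊢
  have h7 := Nat.le_of_dvd (Nat.pos_of_ne_zero (by positivity)) h4
  omega

theorem no_normal_complement (h : Hyp P) (S : Sylow 2 G) (N : Subgroup G) (hN : N.Normal)
    (hc : N.IsComplement' (S : Subgroup G)) : False := by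
  have hcard := hc.card_mul_card
  rw [card_sylow2 P h S] at hcard
  haveI := h.hsimple
  rcases hN.eq_bot_or_eq_top with hb | ht
  · rw [hb, Subgroup.card_bot] at hcard
    apply sylow2_ne_top P h S
    apply Subgroup.eq_top_of_card_eq
    rw [card_sylow2 P h S]
    omega
  · rw [ht, Subgroup.card_top] at hcard
    have h1 : 0 < Nat.card G := Nat.card_pos
    omega

theorem sylow2_not_cyclic (h : Hyp P) (S : Sylow 2 G) : ¬ IsCyclic ↥(S : Subgroup G) := by
  intro hS
  obtain ⟨S', N, hN, hc⟩ := Cfsg.Agent.Helper53.hasNormalPComplement_two_of_isCyclic S hS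
  exact no_normal_complement P h S' N hN hc

theorem sq_eq_one_of_mem_sylow2 (h : Hyp P) (S : Sylow 2 G) (x : G)
    (hx : x ∈ (S : Subgroup G)) : x * x = 1 := by
  have hcard := card_sylow2 P h S
  have hdvd : orderOf x ∣ 4 := hcard ▸ Subgroup.orderOf_dvd_natCard _ hx
  have hne : orderOf x ≠ 4 := by
    intro h4
    apply sylow2_not_cyclic P h S
    exact isCyclic_of_orderOf_eq_card (⟨x, hx⟩ : ↥(S : Subgroup G))
      (by rw [Subgroup.orderOf_mk, h4, hcard])
  have h2 : orderOf x ∣ 2 := by
    have hle : orderOf x ≤ 4 := Nat.le_of_dvd (by norm_num) hdvd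
    generalize orderOf x = o at hdvd hne hle
    revert hdvd hne
    interval_cases o <;> decide
  rw [← pow_two]
  exact orderOf_dvd_iff_pow_eq_one.1 h2

/-- (GB1) -/
theorem hyp_klein (h : Hyp P) :
    (∀ u v : G, orderOf u = 2 → orderOf v = 2 → IsConj u v) ∧
      (∀ x : G, x ^ 4 = 1 → x ^ 2 = 1) := by
  haveI : Fact (Nat.Prime 2) := ⟨Nat.prime_two⟩
  constructor
  · obtain S : Sylow 2 G := default
    have hcard := card_sylow2 P h S
    have hsq := sq_eq_one_of_mem_sylow2 P h S
    -- a first involution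
    have hSne : (S : Subgroup G) ≠ ⊥ := by
      rw [← Subgroup.one_lt_card_iff_ne_bot, hcard]
      norm_num
    obtain ⟨⟨u, hu⟩, hu1'⟩ := (Subgroup.ne_bot_iff_exists_ne_one).1 hSne
    have hu1 : u ≠ 1 := fun e => hu1' (Subtype.ext e)
    have huo : orderOf u = 2 := orderOf_eq_prime (by rw [pow_two]; exact hsq u hu) hu1
    -- a second one outside `⟨u⟩`
    have hlt : Subgroup.zpowers u < (S : Subgroup G) := by
      refine lt_of_le_of_ne ((Subgroup.zpowers_le).2 hu) ?_
      intro e
      have h1 : Nat.card (Subgroup.zpowers u) = 2 := by rw [Nat.card_zpowers, huo]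
      rw [e, hcard] at h1
      omega
    obtain ⟨v, hv, hvu⟩ := SetLike.exists_of_lt hlt
    have hv1 : v ≠ 1 := fun e => hvu (e ▸ one_mem _)
    have huv : u ≠ v := fun e => hvu (e ▸ Subgroup.mem_zpowers u)
    have hvo : orderOf v = 2 := orderOf_eq_prime (by rw [pow_two]; exact hsq v hv) hv1
    have huu : u * u = 1 := hsq u hu
    have hvv : v * v = 1 := hsq v hv
    have huvS : u * v ∈ (S : Subgroup G) := mul_mem hu hv
    -- commutativity
    have hab : ∀ x ∈ (S : Subgroup G), ∀ y ∈ (S : Subgroup G), x * y = y * x := by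
      intro x hx y hy
      have hxx := hsq x hx
      have hyy := hsq y hy
      have hxy := hsq (x * y) (mul_mem hx hy)
      calc x * y = x * (x * y * (x * y)) * y := by rw [hxy, mul_one]
        _ = (x * x) * y * x * (y * y) := by group
        _ = y * x := by rw [hxx, hyy, one_mul, mul_one]
    -- the four elements
    have hI : ∀ x ∈ (S : Subgroup G), x * x = 1 → x = 1 ∨ x = u ∨ x = v ∨ x = u * v := by
      intro x hx _
      classical
      haveI : Fintype ↥(S : Subgroup G) := Fintype.ofFinite _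
      have hFc : Fintype.card ↥(S : Subgroup G) = 4 := by
        rw [Fintype.card_eq_nat_card, hcard]
      set u' : ↥(S : Subgroup G) := ⟨u, hu⟩ with hu'
      set v' : ↥(S : Subgroup G) := ⟨v, hv⟩ with hv'
      have hvinv : v⁻¹ = v := inv_eq_of_mul_eq_one_left hvv
      have g3 : u * v ≠ 1 := by
        intro e
        apply huv
        rw [mul_eq_one_iff_eq_inv.1 e, hvinv]
      have g5 : u ≠ u * v := fun e => hv1 (left_eq_mul.1 e)
      have g6 : v ≠ u * v := fun e => hu1 (right_eq_mul.1 e)
      have f1 : (1 : ↥(S : Subgroup G)) ≠ u' := fun e => hu1 (congrArg Subtype.val e).symm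
      have f2 : (1 : ↥(S : Subgroup G)) ≠ v' := fun e => hv1 (congrArg Subtype.val e).symm
      have f3 : (1 : ↥(S : Subgroup G)) ≠ u' * v' := fun e => g3 (congrArg Subtype.val e).symm
      have f4 : u' ≠ v' := fun e => huv (congrArg Subtype.val e)
      have f5 : u' ≠ u' * v' := fun e => g5 (congrArg Subtype.val e)
      have f6 : v' ≠ u' * v' := fun e => g6 (congrArg Subtype.val e)
      have hT : ({1, u', v', u' * v'} : Finset ↥(S : Subgroup G)).card = 4 := by
        rw [Finset.card_insert_of_notMem, Finset.card_insert_of_notMem,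
          Finset.card_insert_of_notMem, Finset.card_singleton]
        · simp only [Finset.mem_singleton]; exact f6
        · simp only [Finset.mem_insert, Finset.mem_singleton, not_or]; exact ⟨f4, f5⟩
        · simp only [Finset.mem_insert, Finset.mem_singleton, not_or]; exact ⟨f1, f2, f3⟩
      have hU := Finset.eq_univ_of_card _ (hT.trans hFc.symm)
      have hxT : (⟨x, hx⟩ : ↥(S : Subgroup G)) ∈
          ({1, u', v', u' * v'} : Finset ↥(S : Subgroup G)) := by
        rw [hU]; exact Finset.mem_univ _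
      simp only [Finset.mem_insert, Finset.mem_singleton] at hxT
      rcases hxT with e | e | e | e
      · exact Or.inl (congrArg Subtype.val e)
      · exact Or.inr (Or.inl (congrArg Subtype.val e))
      · exact Or.inr (Or.inr (Or.inl (congrArg Subtype.val e)))
      · exact Or.inr (Or.inr (Or.inr (congrArg Subtype.val e)))
    rcases Cfsg.Agent.Helper55.complement_or_conj_of_three_invol S hab hu hv huo hvo huv hI
      with ⟨N, hN, hc⟩ | hconj
    · exact (no_normal_complement P h S N hN hc).elim
    · exact hconj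
  · intro x hx
    have hxp : IsPGroup 2 (Subgroup.zpowers x) := by
      rintro ⟨g, hg⟩
      obtain ⟨i, rfl⟩ := Subgroup.mem_zpowers_iff.1 hg
      refine ⟨2, Subtype.ext ?_⟩
      show (x ^ i) ^ (2 ^ 2) = 1
      have h4 : (2 : ℕ) ^ 2 = 4 := by norm_num
      rw [h4, ← zpow_natCast, ← zpow_mul, mul_comm, zpow_mul, zpow_natCast, hx, one_zpow]
    obtain ⟨S, hS⟩ := hxp.exists_le_sylow
    have h1 := sq_eq_one_of_mem_sylow2 P h S x (hS (Subgroup.mem_zpowers x))
    rw [pow_two]
    exact h1

end Cfsg.Agent.Helper62.TIInv
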