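import Mathlib
import Cfsg.Agent.Helper15.TIInvDefs
import Cfsg.Agent.Helper62.TIInvGB1

/-!
# Piece (GC) of helper15's plan for S4018, by helper62

Under `Hyp P` (and the facts already established), every product of two distinct involutions is
conjugate into `C_G(P)`.
-/

set_option autoImplicit false

namespace Cfsg.Agent.Helper62.TIInv

open Cfsg Cfsg.Agent.Helper15.TIInv
open scoped Pointwise

universe u

variable {G : Type u} [Group G] [Finite G] (P : Sylow 3 G)

/-- `g w g⁻¹ = w⁻¹` puts `g` in the normalizer of `⟨w⟩` -/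
theorem mem_normalizer_zpowers_of_conj_eq_inv {g w : G} (hg : g * w * g⁻¹ = w⁻¹) :
    g ∈ Subgroup.normalizer ((Subgroup.zpowers w : Subgroup G) : Set G) := by
  have hg' : g⁻¹ * w * g = w⁻¹ := by
    have h1 : w = g⁻¹ * w⁻¹ * g := by rw [← hg]; group
    calc g⁻¹ * w * g = (g⁻¹ * w⁻¹ * g)⁻¹ := by group
      _ = w⁻¹ := by rw [← h1]
  rw [Subgroup.mem_normalizer_iff]
  intro y
  constructor
  · intro hy
    obtain ⟨k, rfl⟩ := Subgroup.mem_zpowers_iff.1 hy
    have h1 : g * w ^ k * g⁻¹ = (g * w * g⁻¹) ^ k := by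
      rw [conj_zpow]
    rw [h1, hg]
    exact Subgroup.zpow_mem _ (Subgroup.inv_mem _ (Subgroup.mem_zpowers w)) k
  · intro hy
    obtain ⟨k, hk⟩ := Subgroup.mem_zpowers_iff.1 hy
    have h1 : y = g⁻¹ * w ^ k * g := by rw [hk]; group
    have h2 : g⁻¹ * w ^ k * g = (g⁻¹ * w * g) ^ k := by
      have := conj_zpow (a := g⁻¹) (b := w) (i := k)
      rw [inv_inv] at this
      exact this.symm
    rw [h1, h2, hg']
    exact Subgroup.zpow_mem _ (Subgroup.inv_mem _ (Subgroup.mem_zpowers w)) k

/-- (GC) -/
theorem hyp_sreal (h : Hyp P) (z : G)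
    (hzC : z ∈ Subgroup.centralizer ((P : Subgroup G) : Set G)) (hz2 : orderOf z = 2)
    (hcz : Subgroup.centralizer ({z} : Set G) = Subgroup.normalizer ((P : Subgroup G) : Set G))
    (hinv : ∀ u v : G, orderOf u = 2 → orderOf v = 2 → IsConj u v)
    (hexp : ∀ x : G, x ^ 4 = 1 → x ^ 2 = 1)
    (hNC : ∀ g ∈ Subgroup.normalizer ((P : Subgroup G) : Set G),
      g ∉ Subgroup.centralizer ((P : Subgroup G) : Set G) → g * g = 1) :
    ∀ u v : G, orderOf u = 2 → orderOf v = 2 → u ≠ v →
      ∃ g : G, g * (u * v) * g⁻¹ ∈ Subgroup.centralizer ((P : Subgroup G) : Set G) := by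
  intro u v hu hv huv
  haveI : Fact (Nat.Prime 2) := ⟨Nat.prime_two⟩
  haveI : Fact (Nat.Prime 3) := ⟨Nat.prime_three⟩
  have huu : u * u = 1 := by rw [← pow_two, ← hu]; exact pow_orderOf_eq_one u
  have hvv : v * v = 1 := by rw [← pow_two, ← hv]; exact pow_orderOf_eq_one v
  have huinv : u⁻¹ = u := inv_eq_of_mul_eq_one_left huu
  have hvinv : v⁻¹ = v := inv_eq_of_mul_eq_one_left hvv
  set w : G := u * v with hw
  have hw1 : w ≠ 1 := by
    intro e
    apply huv
    rw [mul_eq_one_iff_eq_inv.1 e, hvinv]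
  have hwinv : w⁻¹ = v * u := by rw [hw, mul_inv_rev, huinv, hvinv]
  have huw : u * w * u⁻¹ = w⁻¹ := by
    rw [hwinv, hw, huinv]
    calc u * (u * v) * u = (u * u) * v * u := by group
      _ = v * u := by rw [huu, one_mul]
  have hvw : v * w * v⁻¹ = w⁻¹ := by
    rw [hwinv, hw, hvinv]
    calc v * (u * v) * v = v * u * (v * v) := by group
      _ = v * u := by rw [hvv, mul_one]
  -- the dihedral group `D`
  set D : Subgroup G := Subgroup.closure {u, v} with hD
  have huD : u ∈ D := Subgroup.subset_closure (by simp)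
  have hvD : v ∈ D := Subgroup.subset_closure (by simp)
  have hwD : w ∈ D := mul_mem huD hvD
  have hDtop : D ≠ ⊤ := by
    intro hDt
    have hle : D ≤ Subgroup.normalizer ((Subgroup.zpowers w : Subgroup G) : Set G) := by
      rw [hD, Subgroup.closure_le]
      intro x hx
      rcases hx with rfl | hx
      · exact mem_normalizer_zpowers_of_conj_eq_inv huw
      · rw [Set.mem_singleton_iff] at hx
        rw [hx]
        exact mem_normalizer_zpowers_of_conj_eq_inv hvw
    rw [hDt, top_le_iff] at hle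
    have hn : (Subgroup.zpowers w).Normal := Subgroup.normalizer_eq_top_iff.1 hle
    haveI := h.hsimple
    rcases hn.eq_bot_or_eq_top with hb | ht
    · exact hw1 (Subgroup.zpowers_eq_bot.1 hb)
    · apply not_comm P h
      intro x y
      have hx : x ∈ Subgroup.zpowers w := ht ▸ Subgroup.mem_top x
      have hy : y ∈ Subgroup.zpowers w := ht ▸ Subgroup.mem_top y
      obtain ⟨i, rfl⟩ := Subgroup.mem_zpowers_iff.1 hx
      obtain ⟨j, rfl⟩ := Subgroup.mem_zpowers_iff.1 hy
      rw [← zpow_add, ← zpow_add, add_comm]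
  have hDeven : 2 ∣ Nat.card D := by
    rw [← hu]
    exact Subgroup.orderOf_dvd_natCard D huD
  have hDdvd := h.heven D hDtop hDeven
  obtain ⟨a, ha⟩ := P.2.exists_card_eq
  have ha' : Nat.card (P : Subgroup G) = 3 ^ a := ha
  rw [ha'] at hDdvd
  have hn : orderOf w ∣ 4 * 3 ^ a := (Subgroup.orderOf_dvd_natCard D hwD).trans hDdvd
  have hnpos : 0 < orderOf w := orderOf_pos w
  -- `P ≤ C_G(P)`
  have hPC : (P : Subgroup G) ≤ Subgroup.centralizer ((P : Subgroup G) : Set G) := by
    intro x hx
    rw [Subgroup.mem_centralizer_iff]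
    intro y hy
    exact h.hab y hy x hx
  by_cases h4 : 4 ∣ orderOf w
  · -- an element of order 4
    exfalso
    obtain ⟨j, hj⟩ := h4
    have hj0 : 0 < j := by
      rcases Nat.eq_zero_or_pos j with e | e
      · rw [e, mul_zero] at hj; omega
      · exact e
    have h1 : (w ^ j) ^ 4 = 1 := by
      rw [← pow_mul, mul_comm, ← hj]
      exact pow_orderOf_eq_one w
    have h2 := hexp _ h1
    rw [← pow_mul] at h2
    exact pow_ne_one_of_lt_orderOf (by omega) (by omega) h2
  · by_cases h2 : 2 ∣ orderOf w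
    · -- `orderOf w = 2 k`, `k` odd
      obtain ⟨k, hk⟩ := h2
      have hk0 : 0 < k := by
        rcases Nat.eq_zero_or_pos k with e | e
        · rw [e, mul_zero] at hk; omega
        · exact e
      have hkodd : ¬ 2 ∣ k := by
        rintro ⟨l, hl⟩
        apply h4
        exact ⟨l, by rw [hk, hl]; ring⟩
      set t : G := w ^ k with ht
      have ht1 : t ≠ 1 := pow_ne_one_of_lt_orderOf (by omega) (by omega)
      have ht2 : t ^ 2 = 1 := by
        rw [ht, ← pow_mul, mul_comm, ← hk]
        exact pow_orderOf_eq_one w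
      have hto : orderOf t = 2 := orderOf_eq_prime ht2 ht1
      obtain ⟨c, hc⟩ := isConj_iff.1 (hinv t z hto hz2)
      set w' : G := c * w * c⁻¹ with hw'
      have hw'k : w' ^ k = z := by
        rw [hw', conj_pow, ← ht, hc]
      have hw'N : w' ∈ Subgroup.normalizer ((P : Subgroup G) : Set G) := by
        rw [← hcz, Subgroup.mem_centralizer_iff]
        intro y hy
        rw [Set.mem_singleton_iff] at hy
        rw [hy, ← hw'k, ← pow_succ, ← pow_succ']
      by_cases hw'C : w' ∈ Subgroup.centralizer ((P : Subgroup G) : Set G)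
      · exact ⟨c, hw'C⟩
      · exfalso
        have h5 := hNC w' hw'N hw'C
        have h6 : w * w = 1 := by
          have h7 : c * (w * w) * c⁻¹ = 1 := by
            calc c * (w * w) * c⁻¹ = w' * w' := by rw [hw']; group
              _ = 1 := h5
          have h8 : w * w = c⁻¹ * (c * (w * w) * c⁻¹) * c := by group
          rw [h8, h7]; group
        have h9 : orderOf w ∣ 2 := orderOf_dvd_of_pow_eq_one (by rw [pow_two]; exact h6)
        have h10 : k = 1 := by
          have := Nat.le_of_dvd (by norm_num) h9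
          omega
        apply hw'C
        have h11 : w' = z := by rw [← hw'k, h10, pow_one]
        rw [h11]
        exact hzC
    · -- odd order: a 3-element
      have hcop : Nat.Coprime (orderOf w) 4 := by
        have h5 : Nat.Coprime (orderOf w) 2 :=
          (Nat.coprime_comm.1 ((Nat.Prime.coprime_iff_not_dvd Nat.prime_two).2 h2))
        have h6 : (4 : ℕ) = 2 ^ 2 := by norm_num
        rw [h6]
        exact Nat.Coprime.pow_right 2 h5
      have h5 : orderOf w ∣ 3 ^ a := hcop.dvd_of_dvd_mul_left hn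
      obtain ⟨j, -, hj⟩ := (Nat.dvd_prime_pow Nat.prime_three).1 h5
      have hwp : IsPGroup 3 (Subgroup.zpowers w) := by
        apply IsPGroup.of_card (n := j)
        rw [Nat.card_zpowers, hj]
      obtain ⟨Q, hQ⟩ := hwp.exists_le_sylow
      obtain ⟨g, hg⟩ := MulAction.exists_smul_eq G Q P
      refine ⟨g, hPC ?_⟩
      have h6 : w ∈ (Q : Subgroup G) := hQ (Subgroup.mem_zpowers w)
      have h7 : MulAut.conj g • w ∈ MulAut.conj g • (Q : Subgroup G) :=
        Subgroup.smul_mem_pointwise_smul w (MulAut.conj g) (Q : Subgroup G) h6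
      rw [← Sylow.coe_subgroup_smul, hg] at h7
      exact h7

end Cfsg.Agent.Helper62.TIInv
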