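import Cfsg.Agent.Helper62.SL2QuatB

set_option autoImplicit false
open Matrix

namespace Cfsg.Agent.Helper62.SL2C

variable {F : Type*} [Field F] [Fintype F]

local notation "SL2" => Matrix.SpecialLinearGroup (Fin 2) F

theorem commute_of_pow_commute {G : Type*} [Group G] (a x : G) (k : ℕ)
    (hk : Nat.Coprime k (orderOf a)) (h : Commute (a ^ k) x) : Commute a x := by
  obtain ⟨m, hm⟩ := exists_pow_eq_self_of_coprime hk
  rw [← hm]
  exact h.pow_left m

section charp
variable (p : ℕ) [Fact p.Prime] [CharP F p]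

theorem structure_of_two_group (hp : p ≠ 2) (a : SL2) (ha : orderOf a = p) (R : Subgroup SL2)
    (hR2 : IsPGroup 2 R) (hn : ∀ g, g ∈ R ↔ a * g * a⁻¹ ∈ R) (hnc : ∃ g ∈ R, ¬ Commute a g) :
    p = 3 ∧ ∃ x y : SL2, x ∈ R ∧ y ∈ R ∧ x ^ 2 = -1 ∧ y ^ 2 = -1 ∧ y * x = -(x * y) ∧
      a * x * a⁻¹ = y ∧ a * y * a⁻¹ = x * y ∧
      (∀ g ∈ R, g = 1 ∨ g = -1 ∨ g = x ∨ g = -x ∨ g = y ∨ g = -y ∨ g = x * y ∨ g = -(x * y)) := by
  have hpp : p.Prime := Fact.out
  have h2 := two_ne_zero_of_char (F := F) p hp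
  have hodd : Nat.Coprime 2 (orderOf a) := by
    rw [ha]
    exact (Nat.coprime_primes Nat.prime_two hpp).2 hp.symm
  obtain ⟨g0, hg0, hg0c⟩ := hnc
  have hnab : ¬ ∀ x ∈ R, ∀ y ∈ R, Commute x y := fun hab =>
    hg0c (commute_all_of_abelian p hp a ha hR2 hn hab g0 hg0)
  obtain ⟨x, hx⟩ := exists_isQ R hR2 hnab
  have hy : IsQ R (a * x * a⁻¹) := hx.conj a hn
  have hxy : ¬ Commute x (a * x * a⁻¹) := fun hc =>
    hg0c (commute_all_of_commute_conj p hp a ha hR2 hn hx hc g0 hg0)
  obtain ⟨hyx, h8⟩ := mem_eight h2 hx hy hxy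
  have hx2 := hx.sq h2
  have hy2 := hy.sq h2
  set y := a * x * a⁻¹ with hydef
  have hnax : ¬ Commute a x := by
    intro h
    apply hxy
    have : y = x := mul_inv_eq_iff_eq_mul.mpr h.eq
    rw [this]
  have hnay : ¬ Commute a y := by
    intro h
    apply hxy
    have h1 : a⁻¹ * y * a = x := by rw [hydef]; group
    have h3 : a⁻¹ * y * a = y := by
      rw [mul_assoc, ← h.eq, inv_mul_cancel_left]
    rw [← h1, h3]
  have hw := hy.conj a hn
  have hwR : a * y * a⁻¹ ∈ R := hw.1
  have hw2 : a * y * a⁻¹ = a ^ 2 * x * (a ^ 2)⁻¹ := by rw [hydef, pow_two]; group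
  have hcopx := coprime_orderOf_of_two_group p hp hR2 hx.1
  have hcopy := coprime_orderOf_of_two_group p hp hR2 hy.1
  have hnyw : ¬ Commute y (a * y * a⁻¹) := fun h =>
    hnay (commute_of_commute_conj p hp a y hodd hcopy h)
  have hnxw : ¬ Commute x (a * y * a⁻¹) := by
    intro h
    rw [hw2] at h
    have hodd2 : Nat.Coprime 2 (orderOf (a ^ 2)) :=
      Nat.Coprime.coprime_dvd_right (orderOf_pow_dvd 2) hodd
    have := commute_of_commute_conj p hp (a ^ 2) x hodd2 hcopx h
    exact hnax (commute_of_pow_commute a x 2 hodd this)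
  have hyy : y * y = -1 := by rw [← pow_two]; exact hy2
  have hw' : a * y * a⁻¹ = x * y ∨ a * y * a⁻¹ = -(x * y) := by
    rcases h8 _ hwR with h | h | h | h | h | h | h | h
    · exact absurd (by rw [h]; exact Commute.one_right y) hnyw
    · exact absurd (by rw [h]; exact (Commute.one_right y).neg_right) hnyw
    · exact absurd (by rw [h]) hnxw
    · exact absurd (by rw [h]; exact (Commute.refl x).neg_right) hnxw
    · exact absurd (by rw [h]) hnyw
    · exact absurd (by rw [h]; exact (Commute.refl y).neg_right) hnyw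
    · left; exact h
    · right; exact h
  have hyxy : y * (x * y) = x := by
    rw [← mul_assoc, hyx, neg_mul, mul_assoc, hyy, mul_neg, mul_one, neg_neg]
  have ha3 : a ^ 3 * x * (a ^ 3)⁻¹ = x := by
    have e1 : a ^ 3 * x * (a ^ 3)⁻¹ = a * (a * y * a⁻¹) * a⁻¹ := by
      rw [hydef, pow_succ, pow_two]; group
    have e2 : a * (x * y) * a⁻¹ = y * (a * y * a⁻¹) := by rw [hydef]; group
    rcases hw' with h | h
    · rw [e1, h, e2, h, hyxy]
    · rw [e1, h, conj_neg, e2, h, mul_neg, neg_neg, hyxy]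
  have hp3 : p = 3 := by
    by_contra hne
    have hc3 : Nat.Coprime 3 (orderOf a) := by
      rw [ha]
      exact (Nat.coprime_primes Nat.prime_three hpp).2 (Ne.symm hne)
    exact hnax (commute_of_pow_commute a x 3 hc3 (commute_of_conj_eq ha3))
  refine ⟨hp3, ?_⟩
  rcases hw' with h | h
  · exact ⟨x, y, hx.1, hy.1, hx2, hy2, hyx, rfl, h, h8⟩
  · refine ⟨-x, -y, ?_, ?_, ?_, ?_, ?_, ?_, ?_, ?_⟩
    · rw [← inv_eq_neg_of_sq hx2]; exact R.inv_mem hx.1
    · rw [← inv_eq_neg_of_sq hy2]; exact R.inv_mem hy.1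
    · rw [neg_sq, hx2]
    · rw [neg_sq, hy2]
    · rw [neg_mul_neg, neg_mul_neg, hyx]
    · rw [conj_neg]
    · rw [conj_neg, h, neg_neg, neg_mul_neg]
    · intro g hg
      rw [neg_neg, neg_neg, neg_mul_neg]
      rcases h8 g hg with h | h | h | h | h | h | h | h
      · left; exact h
      · right; left; exact h
      · right; right; right; left; exact h
      · right; right; left; exact h
      · right; right; right; right; right; left; exact h
      · right; right; right; right; left; exact h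
      · right; right; right; right; right; right; left; exact h
      · right; right; right; right; right; right; right; exact h

end charp

end Cfsg.Agent.Helper62.SL2C
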