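import Mathlib
import Cfsg.Agent.Helper41.SL2
import Cfsg.Agent.Helper37.SL2Sylow2

set_option autoImplicit false
open Matrix

namespace Cfsg.Agent.Helper62.SL2C

variable {F : Type*} [Field F]

local notation "SL2" => Matrix.SpecialLinearGroup (Fin 2) F

/-- a matrix commuting with a non-scalar `2 × 2` matrix is a polynomial in it -/
theorem exists_eq_add_smul (z u : Matrix (Fin 2) (Fin 2) F)
    (hz : z 0 1 ≠ 0 ∨ z 1 0 ≠ 0 ∨ z 0 0 ≠ z 1 1) (h : z * u = u * z) :
    ∃ α β : F, u = α • (1 : Matrix (Fin 2) (Fin 2) F) + β • z := by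
  have e00 := congr_fun (congr_fun h 0) 0
  have e01 := congr_fun (congr_fun h 0) 1
  have e10 := congr_fun (congr_fun h 1) 0
  have e11 := congr_fun (congr_fun h 1) 1
  simp only [Matrix.mul_apply, Fin.sum_univ_two] at e00 e01 e10 e11
  rcases hz with hb | hc | hd
  · refine ⟨u 0 0 - u 0 1 / z 0 1 * z 0 0, u 0 1 / z 0 1, ?_⟩
    ext i j
    fin_cases i <;> fin_cases j <;> simp <;> field_simp <;>
      first | ring1 | linear_combination e00 | linear_combination e01
  · refine ⟨u 0 0 - u 1 0 / z 1 0 * z 0 0, u 1 0 / z 1 0, ?_⟩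
    ext i j
    fin_cases i <;> fin_cases j <;> simp <;> field_simp <;>
      first | ring1 | linear_combination e00 | linear_combination e01 | linear_combination e10 |
        linear_combination e11 | linear_combination -e00 | linear_combination -e01 |
        linear_combination -e10
  · have hd' : z 0 0 - z 1 1 ≠ 0 := sub_ne_zero.mpr hd
    refine ⟨u 0 0 - (u 0 0 - u 1 1) / (z 0 0 - z 1 1) * z 0 0,
      (u 0 0 - u 1 1) / (z 0 0 - z 1 1), ?_⟩
    ext i j
    fin_cases i <;> fin_cases j <;> simp <;> field_simp <;>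
      first | ring1 | linear_combination e00 | linear_combination e01 | linear_combination e10 |
        linear_combination e11 | linear_combination -e00 | linear_combination -e01 |
        linear_combination -e10

/-- a non-central element of `SL₂` is a non-scalar matrix -/
theorem nonscalar_of_not_mem_center (z : SL2) (hz : z ∉ Subgroup.center SL2) :
    (z : Matrix (Fin 2) (Fin 2) F) 0 1 ≠ 0 ∨ (z : Matrix (Fin 2) (Fin 2) F) 1 0 ≠ 0 ∨
      (z : Matrix (Fin 2) (Fin 2) F) 0 0 ≠ (z : Matrix (Fin 2) (Fin 2) F) 1 1 := by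
  by_contra hcon
  push Not at hcon
  obtain ⟨h01, h10, h00⟩ := hcon
  apply hz
  have hdet := Cfsg.Agent.Helper41.sl2_det z
  rw [h01, h10, h00] at hdet
  refine Cfsg.Agent.Helper41.sl2_mem_center_of_eq_scalar z
    ((z : Matrix (Fin 2) (Fin 2) F) 1 1) (by linear_combination hdet) ?_
  ext i j
  fin_cases i <;> fin_cases j <;> simp [h01, h10, h00]

/-- the centralizer of a non-central element of `SL₂` is commutative -/
theorem commute_of_commute_noncentral (z u v : SL2) (hz : z ∉ Subgroup.center SL2)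
    (hu : Commute z u) (hv : Commute z v) : Commute u v := by
  have hns := nonscalar_of_not_mem_center z hz
  have hu' : (z : Matrix (Fin 2) (Fin 2) F) * u = u * z := by
    have := congrArg (fun g : SL2 => (g : Matrix (Fin 2) (Fin 2) F)) hu.eq
    simpa using this
  have hv' : (z : Matrix (Fin 2) (Fin 2) F) * v = v * z := by
    have := congrArg (fun g : SL2 => (g : Matrix (Fin 2) (Fin 2) F)) hv.eq
    simpa using this
  obtain ⟨α, β, hu2⟩ := exists_eq_add_smul _ _ hns hu'
  obtain ⟨α', β', hv2⟩ := exists_eq_add_smul _ _ hns hv'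
  apply Subtype.ext
  rw [Matrix.SpecialLinearGroup.coe_mul, Matrix.SpecialLinearGroup.coe_mul, hu2, hv2]
  have hc : Commute (α • (1 : Matrix (Fin 2) (Fin 2) F) + β • (z : Matrix (Fin 2) (Fin 2) F))
      (α' • (1 : Matrix (Fin 2) (Fin 2) F) + β' • (z : Matrix (Fin 2) (Fin 2) F)) := by
    apply Commute.add_left
    · exact ((Commute.one_left _).smul_left α)
    · apply Commute.smul_left
      apply Commute.add_right
      · exact (Commute.one_right _).smul_right α'
      · exact (Commute.refl _).smul_right β'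
  exact hc.eq

theorem trace_sq_eq_four_of_mem_center (z : SL2) (hz : z ∈ Subgroup.center SL2) :
    (Matrix.trace (z : Matrix (Fin 2) (Fin 2) F)) ^ 2 = 4 := by
  obtain ⟨r, hr, h⟩ := (Cfsg.Agent.Helper41.sl2_mem_center_iff z).1 hz
  rw [h, Matrix.trace_fin_two]
  simp
  linear_combination 4 * hr

/-- two commuting elements of `SL₂` with the same trace `t`, `t² ≠ 4`, are equal or inverse -/
theorem eq_or_eq_inv_of_commute_of_trace_eq (h2 : (2 : F) ≠ 0) (z w : SL2) (h : Commute z w)
    (ht : Matrix.trace (w : Matrix (Fin 2) (Fin 2) F) = Matrix.trace (z : Matrix (Fin 2) (Fin 2) F))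
    (ht4 : (Matrix.trace (z : Matrix (Fin 2) (Fin 2) F)) ^ 2 ≠ 4) : w = z ∨ w = z⁻¹ := by
  have hz : z ∉ Subgroup.center SL2 := fun hc => ht4 (trace_sq_eq_four_of_mem_center z hc)
  have hns := nonscalar_of_not_mem_center z hz
  have hw' : (z : Matrix (Fin 2) (Fin 2) F) * w = w * z := by
    have := congrArg (fun g : SL2 => (g : Matrix (Fin 2) (Fin 2) F)) h.eq
    simpa using this
  obtain ⟨α, β, hw2⟩ := exists_eq_add_smul _ _ hns hw'
  have hdz := Cfsg.Agent.Helper41.sl2_det z
  have hdw := Cfsg.Agent.Helper41.sl2_det w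
  rw [Matrix.trace_fin_two, Matrix.trace_fin_two] at ht
  rw [Matrix.trace_fin_two] at ht4
  have w00 : (w : Matrix (Fin 2) (Fin 2) F) 0 0 = α + β * (z : Matrix (Fin 2) (Fin 2) F) 0 0 := by
    rw [hw2]; simp
  have w01 : (w : Matrix (Fin 2) (Fin 2) F) 0 1 = β * (z : Matrix (Fin 2) (Fin 2) F) 0 1 := by
    rw [hw2]; simp
  have w10 : (w : Matrix (Fin 2) (Fin 2) F) 1 0 = β * (z : Matrix (Fin 2) (Fin 2) F) 1 0 := by
    rw [hw2]; simp
  have w11 : (w : Matrix (Fin 2) (Fin 2) F) 1 1 = α + β * (z : Matrix (Fin 2) (Fin 2) F) 1 1 := by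
    rw [hw2]; simp
  rw [w00, w01, w10, w11] at hdw
  rw [w00, w11] at ht
  set a := (z : Matrix (Fin 2) (Fin 2) F) 0 0
  set b := (z : Matrix (Fin 2) (Fin 2) F) 0 1
  set c := (z : Matrix (Fin 2) (Fin 2) F) 1 0
  set d := (z : Matrix (Fin 2) (Fin 2) F) 1 1
  have hkey : (1 - β ^ 2) * ((a + d) ^ 2 - 4) = 0 := by
    linear_combination 4 * hdw - (4 * β ^ 2) * hdz - (2 * α + β * (a + d) + (a + d)) * ht
  have hb2 : β ^ 2 = 1 := by
    rcases mul_eq_zero.mp hkey with h1 | h1
    · linear_combination -h1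
    · exact absurd (by linear_combination h1) ht4
  have hb : β = 1 ∨ β = -1 := by
    have : (β - 1) * (β + 1) = 0 := by linear_combination hb2
    rcases mul_eq_zero.mp this with h1 | h1
    · left; linear_combination h1
    · right; linear_combination h1
  rcases hb with hb | hb
  · left
    have hα : α = 0 := by
      have : 2 * α = 0 := by rw [hb] at ht; linear_combination ht
      rcases mul_eq_zero.mp this with h1 | h1
      · exact absurd h1 h2
      · exact h1
    apply Subtype.ext
    rw [hw2, hα, hb]; simp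
  · right
    have hα : α = a + d := by
      have : 2 * (α - (a + d)) = 0 := by rw [hb] at ht; linear_combination ht
      rcases mul_eq_zero.mp this with h1 | h1
      · exact absurd h1 h2
      · linear_combination h1
    apply Subtype.ext
    rw [Matrix.SpecialLinearGroup.coe_inv, Matrix.adjugate_fin_two, hw2, hα, hb]
    ext i j
    fin_cases i <;> fin_cases j <;> simp [a, d]

theorem mem_center_iff_eq (z : SL2) : z ∈ Subgroup.center SL2 ↔ z = 1 ∨ z = -1 := by
  constructor
  · intro hz
    obtain ⟨r, hr, h⟩ := (Cfsg.Agent.Helper41.sl2_mem_center_iff z).1 hz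
    have : (r - 1) * (r + 1) = 0 := by linear_combination hr
    rcases mul_eq_zero.mp this with h1 | h1
    · left
      have hr1 : r = 1 := by linear_combination h1
      apply Subtype.ext
      rw [h, hr1]; simp
    · right
      have hr1 : r = -1 := by linear_combination h1
      apply Subtype.ext
      rw [h, hr1, Matrix.SpecialLinearGroup.coe_neg]
      ext i j
      fin_cases i <;> fin_cases j <;> simp
  · rintro (rfl | rfl)
    · exact Subgroup.one_mem _
    · rw [Subgroup.mem_center_iff]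
      intro g
      rw [mul_neg_one, neg_one_mul]

theorem neg_one_mem_center : (-1 : SL2) ∈ Subgroup.center SL2 :=
  (mem_center_iff_eq _).2 (Or.inr rfl)

theorem neg_ne_self (h2 : (2 : F) ≠ 0) (x : SL2) : -x ≠ x := by
  intro h
  have h1 := congrArg (fun g : SL2 => (g : Matrix (Fin 2) (Fin 2) F)) h
  simp only [Matrix.SpecialLinearGroup.coe_neg] at h1
  have hdet := Cfsg.Agent.Helper41.sl2_det x
  have e00 := congr_fun (congr_fun h1 0) 0
  have e01 := congr_fun (congr_fun h1 0) 1
  simp only [Matrix.neg_apply] at e00 e01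
  have a0 : (x : Matrix (Fin 2) (Fin 2) F) 0 0 = 0 := by
    have : 2 * (x : Matrix (Fin 2) (Fin 2) F) 0 0 = 0 := by linear_combination -e00
    rcases mul_eq_zero.mp this with h | h
    · exact absurd h h2
    · exact h
  have b0 : (x : Matrix (Fin 2) (Fin 2) F) 0 1 = 0 := by
    have : 2 * (x : Matrix (Fin 2) (Fin 2) F) 0 1 = 0 := by linear_combination -e01
    rcases mul_eq_zero.mp this with h | h
    · exact absurd h h2
    · exact h
  rw [a0, b0] at hdet
  simp at hdet

theorem neg_one_ne_one (h2 : (2 : F) ≠ 0) : (-1 : SL2) ≠ 1 := neg_ne_self h2 1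

theorem sq_eq_one_iff (h2 : (2 : F) ≠ 0) (g : SL2) : g ^ 2 = 1 ↔ g = 1 ∨ g = -1 := by
  constructor
  · intro h
    exact (mem_center_iff_eq g).1 (Cfsg.Agent.Helper41.sl2_mem_center_of_sq_eq_one h2 g h)
  · rintro (rfl | rfl)
    · simp
    · simp

theorem trace_conj (a z : SL2) :
    Matrix.trace ((a * z * a⁻¹ : SL2) : Matrix (Fin 2) (Fin 2) F) =
      Matrix.trace (z : Matrix (Fin 2) (Fin 2) F) := by
  rw [Matrix.SpecialLinearGroup.coe_mul, Matrix.trace_mul_comm, ← Matrix.SpecialLinearGroup.coe_mul]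
  rw [show a⁻¹ * (a * z) = z by group]

theorem trace_neg' (x : SL2) :
    Matrix.trace ((-x : SL2) : Matrix (Fin 2) (Fin 2) F) =
      - Matrix.trace (x : Matrix (Fin 2) (Fin 2) F) := by
  rw [Matrix.SpecialLinearGroup.coe_neg, Matrix.trace_neg]

/-- an element of trace zero squares to `-1` -/
theorem sq_eq_neg_one_of_trace_eq_zero (x : SL2)
    (h : Matrix.trace (x : Matrix (Fin 2) (Fin 2) F) = 0) : x ^ 2 = -1 := by
  apply Subtype.ext
  rw [Matrix.SpecialLinearGroup.coe_pow, pow_two, Cfsg.Agent.Helper41.sl2_cayley_hamilton, h,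
    Matrix.SpecialLinearGroup.coe_neg]
  simp

section charp
variable (p : ℕ) [Fact p.Prime] [CharP F p]

theorem two_ne_zero_of_char (hp : p ≠ 2) : (2 : F) ≠ 0 := by
  intro h
  have h' : ((2 : ℕ) : F) = 0 := by exact_mod_cast h
  rw [CharP.cast_eq_zero_iff F p] at h'
  have hpp : p.Prime := Fact.out
  exact hp ((Nat.prime_dvd_prime_iff_eq hpp Nat.prime_two).1 h')

/-- an element of order prime to `p` with `tr² = 4` is central -/
theorem mem_center_of_trace_sq_eq_four (z : SL2) (hz : (orderOf z).Coprime p)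
    (ht : (Matrix.trace (z : Matrix (Fin 2) (Fin 2) F)) ^ 2 = 4) : z ∈ Subgroup.center SL2 := by
  have h1 := Cfsg.Agent.Helper41.sl2_pow_char_mem_center p z ht
  obtain ⟨m, hm⟩ := exists_pow_eq_self_of_coprime hz.symm
  rw [← hm]
  exact Subgroup.pow_mem _ h1 m

/-- **Key lemma**: if a `p'`-element `z` commutes with its conjugate under an element `a` of
odd order, then `a` centralizes `z`. -/
theorem commute_of_commute_conj (hp : p ≠ 2) (a z : SL2) (ha : Nat.Coprime 2 (orderOf a))
    (hz : (orderOf z).Coprime p) (h : Commute z (a * z * a⁻¹)) : Commute a z := by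
  have h2 := two_ne_zero_of_char (F := F) p hp
  by_cases hzc : z ∈ Subgroup.center SL2
  · exact ((Subgroup.mem_center_iff.mp hzc) a)
  have ht4 : (Matrix.trace (z : Matrix (Fin 2) (Fin 2) F)) ^ 2 ≠ 4 :=
    fun ht => hzc (mem_center_of_trace_sq_eq_four p z hz ht)
  rcases eq_or_eq_inv_of_commute_of_trace_eq h2 z (a * z * a⁻¹) h (trace_conj a z) ht4 with h1 | h1
  · show a * z = z * a
    calc a * z = a * z * a⁻¹ * a := by group
      _ = z * a := by rw [h1]
  · have h3 : Commute (a ^ 2) z := by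
      show a ^ 2 * z = z * a ^ 2
      have : a ^ 2 * z * (a ^ 2)⁻¹ = z := by
        calc a ^ 2 * z * (a ^ 2)⁻¹ = a * (a * z * a⁻¹) * a⁻¹ := by rw [pow_two]; group
          _ = a * z⁻¹ * a⁻¹ := by rw [h1]
          _ = (a * z * a⁻¹)⁻¹ := by group
          _ = z := by rw [h1, inv_inv]
      calc a ^ 2 * z = a ^ 2 * z * (a ^ 2)⁻¹ * a ^ 2 := by
            rw [inv_mul_cancel_right]
        _ = z * a ^ 2 := by rw [this]
    obtain ⟨m, hm⟩ := exists_pow_eq_self_of_coprime ha
    rw [← hm]
    exact h3.pow_left m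

end charp

section finite
variable [Fintype F] (p : ℕ) [Fact p.Prime] [CharP F p]

omit [Fact p.Prime] in
theorem p_dvd_card : p ∣ Fintype.card F := by
  obtain ⟨n, -, hn⟩ := FiniteField.card F p
  rw [hn]
  exact dvd_pow_self p n.ne_zero

/-- no element of `SL₂(q)` has order divisible by `p` unless its `2p`-th power is one -/
theorem pow_two_mul_of_p_dvd_order (g : SL2) (hg : p ∣ orderOf g) : g ^ (p * 2) = 1 := by
  have hpp : p.Prime := Fact.out
  have hq := p_dvd_card (F := F) p
  have hq1 : 1 ≤ Fintype.card F := Fintype.card_pos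
  rcases Cfsg.Agent.Helper37.SL2Q.pow_trichotomy p g with h | h | h
  · exact h
  · exfalso
    have h1 : p ∣ Fintype.card F - 1 := hg.trans (orderOf_dvd_of_pow_eq_one h)
    have h2 : p ∣ 1 := by
      have := Nat.dvd_sub hq h1
      rwa [Nat.sub_sub_self hq1] at this
    exact hpp.one_lt.ne' (Nat.dvd_one.mp h2)
  · exfalso
    have h1 : p ∣ Fintype.card F + 1 := hg.trans (orderOf_dvd_of_pow_eq_one h)
    have h2 : p ∣ 1 := by
      have := Nat.dvd_sub h1 hq
      rwa [Nat.add_sub_cancel_left] at this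
    exact hpp.one_lt.ne' (Nat.dvd_one.mp h2)

/-- a nontrivial `p`-element of `SL₂(q)`, `p` odd, has order `p` -/
theorem orderOf_eq_of_pelement (hp : p ≠ 2) (a : SL2) (ha1 : a ≠ 1) (k : ℕ)
    (hak : a ^ (p ^ k) = 1) : orderOf a = p := by
  have hpp : p.Prime := Fact.out
  obtain ⟨j, hj, hoj⟩ := (Nat.dvd_prime_pow hpp).1 (orderOf_dvd_of_pow_eq_one hak)
  have hj1 : j ≠ 0 := by
    rintro rfl
    rw [pow_zero, orderOf_eq_one_iff] at hoj
    exact ha1 hoj
  have hdvd : p ∣ orderOf a := by rw [hoj]; exact dvd_pow_self p hj1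
  have h2p := orderOf_dvd_of_pow_eq_one (pow_two_mul_of_p_dvd_order p a hdvd)
  have hcop : Nat.Coprime (orderOf a) 2 := by
    rw [hoj]
    apply Nat.Coprime.pow_left
    exact (Nat.coprime_primes hpp Nat.prime_two).2 hp
  have h3 : orderOf a ∣ p := hcop.dvd_of_dvd_mul_right h2p
  exact Nat.dvd_antisymm h3 hdvd

/-- a `p'`-element commuting with a nontrivial `p`-element squares to one -/
theorem sq_eq_one_of_commute_pelement (a : SL2) (ha : orderOf a = p) (s : SL2)
    (hs : (orderOf s).Coprime p) (hc : Commute s a) : s ^ 2 = 1 := by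
  have hpp : p.Prime := Fact.out
  have ho : orderOf (s * a) = orderOf s * p := by
    rw [← ha]
    exact hc.orderOf_mul_eq_mul_orderOf_of_coprime (by rw [ha]; exact hs)
  have h1 := pow_two_mul_of_p_dvd_order p (s * a) (by rw [ho]; exact dvd_mul_left _ _)
  have h2 := orderOf_dvd_of_pow_eq_one h1
  rw [ho, mul_comm p 2] at h2
  have h3 : orderOf s ∣ 2 := Nat.dvd_of_mul_dvd_mul_right hpp.pos h2
  exact orderOf_dvd_iff_pow_eq_one.mp h3

end finite

end Cfsg.Agent.Helper62.SL2C
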