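import Mathlib
import Cfsg.Agent.Helper3.S3S3Defs

/-!
# S3805, piece (G5a) of helper3's WANTED #5796: centralizer orders in the `S₃ × S₃` configuration

With `N_G(T) = T ⋊ ⟨a, b⟩` of order 36 (`NData`), `|T| = 9`, and `C_G(t) ≤ N_G(T)` for `t ∈ T#`:
`|C_G(x)| = |C_G(y)| = 18` and `|C_G(xy)| = 9`.
-/

set_option autoImplicit false

namespace Cfsg.Agent.Helper62.S3S3G5a
open Cfsg.Agent.Helper3.S3S3

universe u
variable {G : Type u} [Group G]

/-- A subgroup strictly between one of order 9 and one of order 36 has order 18. -/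
theorem card_eq_18_of_between [Finite G] (T C N : Subgroup G) (hTC : T ≤ C) (hCN : C ≤ N)
    (hT : Nat.card T = 9) (hN : Nat.card N = 36) (b a : G) (hbC : b ∈ C) (hbT : b ∉ T)
    (haN : a ∈ N) (haC : a ∉ C) : Nat.card C = 18 := by
  have h1 : Nat.card T ∣ Nat.card C := Subgroup.card_dvd_of_le hTC
  have h2 : Nat.card C ∣ Nat.card N := Subgroup.card_dvd_of_le hCN
  rw [hT] at h1; rw [hN] at h2
  have h3 : Nat.card C ≠ 9 := by
    intro h
    have : T = C := Subgroup.eq_of_le_of_card_ge hTC (by rw [h, hT])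
    exact hbT (this ▸ hbC)
  have h4 : Nat.card C ≠ 36 := by
    intro h
    have : C = N := Subgroup.eq_of_le_of_card_ge hCN (by rw [h, hN])
    exact haC (this ▸ haN)
  have h5 : Nat.card C ≤ 36 := Nat.le_of_dvd (by norm_num) h2
  generalize Nat.card C = k at *
  interval_cases k <;> omega

/-- An element of order 3 is not its own inverse. -/
theorem inv_ne_self_of_pow_three {z : G} (h3 : z ^ 3 = 1) (h1 : z ≠ 1) : z⁻¹ ≠ z := by
  intro h
  apply h1
  have h2 : z * z = 1 := by
    calc z * z = z⁻¹ * z := by rw [h]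
      _ = 1 := inv_mul_cancel z
  calc z = (z * z) * z := by rw [h2, one_mul]
    _ = z ^ 3 := by rw [pow_succ, pow_two]
    _ = 1 := h3

/-- (G5a) centralizer orders. -/
theorem card_centralizers [Finite G] (T : Subgroup G) (x y a b : G) (hd : NData T x y a b)
    (hcard : Nat.card T = 9) (hN36 : Nat.card (Subgroup.normalizer (T : Set G)) = 36)
    (hloc : ∀ t ∈ T, t ≠ 1 →
      Subgroup.centralizer ({t} : Set G) ≤ Subgroup.normalizer (T : Set G)) :
    Nat.card (Subgroup.centralizer ({x} : Set G)) = 18 ∧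
    Nat.card (Subgroup.centralizer ({y} : Set G)) = 18 ∧
    Nat.card (Subgroup.centralizer ({x * y} : Set G)) = 9 := by
  have hxinv : x⁻¹ ≠ x := inv_ne_self_of_pow_three hd.x3 hd.x1
  have hyinv : y⁻¹ ≠ y := inv_ne_self_of_pow_three hd.y3 hd.y1
  have hTle : ∀ s ∈ T, T ≤ Subgroup.centralizer ({s} : Set G) := by
    intro s hs t ht
    rw [Subgroup.mem_centralizer_singleton_iff]
    exact hd.commT t ht s hs
  have haT : a ∉ T := fun h => hxinv (by rw [← hd.ax, hd.conj_T h hd.xT])
  have hbT : b ∉ T := fun h => hyinv (by rw [← hd.by_, hd.conj_T h hd.yT])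
  have haCy : a ∈ Subgroup.centralizer ({y} : Set G) := by
    rw [Subgroup.mem_centralizer_singleton_iff]
    exact mul_inv_eq_iff_eq_mul.mp hd.ay
  have hbCx : b ∈ Subgroup.centralizer ({x} : Set G) := by
    rw [Subgroup.mem_centralizer_singleton_iff]
    exact mul_inv_eq_iff_eq_mul.mp hd.bx
  have haCx : a ∉ Subgroup.centralizer ({x} : Set G) := by
    rw [Subgroup.mem_centralizer_singleton_iff]
    intro h
    exact hxinv (by rw [← hd.ax]; exact mul_inv_eq_iff_eq_mul.mpr h)
  have hbCy : b ∉ Subgroup.centralizer ({y} : Set G) := by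
    rw [Subgroup.mem_centralizer_singleton_iff]
    intro h
    exact hyinv (by rw [← hd.by_]; exact mul_inv_eq_iff_eq_mul.mpr h)
  -- the element `z = x * y`
  have hzT : x * y ∈ T := T.mul_mem hd.xT hd.yT
  have hz3 : (x * y) ^ 3 = 1 := by
    rw [(show Commute x y from hd.comm).mul_pow, hd.x3, hd.y3, one_mul]
  have hz1 : x * y ≠ 1 := by
    intro h
    have hx : x = y⁻¹ := eq_inv_of_mul_eq_one_left h
    have hy2 : y ^ 2 = y⁻¹ := by
      apply eq_inv_of_mul_eq_one_left
      rw [← pow_succ]; exact hd.y3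
    have : x ^ 1 = 1 := hd.indep 1 2 (by rw [pow_one, hy2, hx])
    exact hd.x1 (by simpa using this)
  have hzinv : (x * y)⁻¹ ≠ x * y := inv_ne_self_of_pow_three hz3 hz1
  refine ⟨?_, ?_, ?_⟩
  · exact card_eq_18_of_between T _ _ (hTle x hd.xT) (hloc x hd.xT hd.x1) hcard hN36 b a
      hbCx hbT hd.aN haCx
  · exact card_eq_18_of_between T _ _ (hTle y hd.yT) (hloc y hd.yT hd.y1) hcard hN36 a b
      haCy haT hd.bN hbCy
  · have hCT : Subgroup.centralizer ({x * y} : Set G) = T := by
      apply le_antisymm _ (hTle _ hzT)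
      intro n hn
      have hnN : n ∈ Subgroup.normalizer (T : Set G) := hloc _ hzT hz1 hn
      -- an element `m` of `C(z)` conjugates `z` to itself
      have hfix : ∀ m ∈ Subgroup.centralizer ({x * y} : Set G), m * (x * y) * m⁻¹ = x * y := by
        intro m hm
        rw [Subgroup.mem_centralizer_singleton_iff] at hm
        exact mul_inv_eq_iff_eq_mul.mpr hm
      have hsplit : ∀ m : G, m * (x * y) * m⁻¹ = (m * x * m⁻¹) * (m * y * m⁻¹) := by
        intro m; group
      obtain ⟨t, ht, rfl | rfl | rfl | rfl⟩ := hd.memN n hnN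
      · exact ht
      · exfalso
        have haC : a ∈ Subgroup.centralizer ({x * y} : Set G) := by
          have : a = t⁻¹ * (t * a) := by group
          rw [this]
          exact Subgroup.mul_mem _ (Subgroup.inv_mem _ (hTle _ hzT ht)) hn
        have h := hfix a haC
        rw [hsplit, hd.ax, hd.ay] at h
        exact hxinv (mul_right_cancel h)
      · exfalso
        have hbC : b ∈ Subgroup.centralizer ({x * y} : Set G) := by
          have : b = t⁻¹ * (t * b) := by group
          rw [this]
          exact Subgroup.mul_mem _ (Subgroup.inv_mem _ (hTle _ hzT ht)) hn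
        have h := hfix b hbC
        rw [hsplit, hd.bx, hd.by_] at h
        exact hyinv (mul_left_cancel h)
      · exfalso
        have habC : a * b ∈ Subgroup.centralizer ({x * y} : Set G) := by
          have : a * b = t⁻¹ * (t * (a * b)) := by group
          rw [this]
          exact Subgroup.mul_mem _ (Subgroup.inv_mem _ (hTle _ hzT ht)) hn
        have h := hfix (a * b) habC
        have hx' : a * b * x * (a * b)⁻¹ = x⁻¹ := by
          have : a * b * x * (a * b)⁻¹ = a * (b * x * b⁻¹) * a⁻¹ := by group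
          rw [this, hd.bx, hd.ax]
        have hay' : a * y⁻¹ * a⁻¹ = y⁻¹ := by
          have := congrArg (·⁻¹) hd.ay
          simpa [mul_assoc] using this
        have hy' : a * b * y * (a * b)⁻¹ = y⁻¹ := by
          have : a * b * y * (a * b)⁻¹ = a * (b * y * b⁻¹) * a⁻¹ := by group
          rw [this, hd.by_, hay']
        rw [hsplit, hx', hy'] at h
        apply hzinv
        rw [mul_inv_rev, ← h]
        -- y⁻¹ * x⁻¹ = x⁻¹ * y⁻¹
        have hc : Commute x y := hd.comm
        exact (hc.inv_inv.eq).symm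
    rw [hCT, hcard]

end Cfsg.Agent.Helper62.S3S3G5a
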