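import Mathlib
import Cfsg.Agent.Helper62.FrobActGroup

/-!
# Frobenius actions VII: the commutator criterion

`frobenius_commutator_centralizes`: let `U ⋊ E` be a Frobenius-type group of conjugations (`E ≠ 1`
normalizing `U`, acting fixed-point-freely) on a solvable subgroup `M` of coprime order.  If
`C_M(E)` is cyclic, then `U'` centralizes `M`.
-/

set_option autoImplicit false

namespace Cfsg.Agent.Helper62.FrobAct

open Cfsg.Agent.Helper48
open scoped commutatorElement

variable {X : Type*} [Group X] [Finite X]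

/-- **Commutator criterion for a Frobenius group of conjugations**: if `C_M(E)` is cyclic, then
`U'` centralizes the solvable subgroup `M` of coprime order. -/
theorem frobenius_commutator_centralizes (U E : Subgroup X) (hE1 : E ≠ ⊥)
    (hUn : ∀ e ∈ E, ∀ u ∈ U, e * u * e⁻¹ ∈ U)
    (hfpf : ∀ e ∈ E, e ≠ 1 → ∀ u ∈ U, e * u = u * e → u = 1) :
    ∀ (n : ℕ) (M : Subgroup X), Nat.card M = n →
      (∀ x ∈ U ⊔ E, ∀ m ∈ M, x * m * x⁻¹ ∈ M) → Group.IsSolvable M →
      Nat.Coprime (Nat.card M) (Nat.card ↥(U ⊔ E)) →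
      IsCyclic ↥(M ⊓ Subgroup.centralizer (E : Set X)) →
      ⁅U, U⁆ ≤ Subgroup.centralizer (M : Set X) := by
  have hnilU : Group.IsNilpotent U := isNilpotent_of_fpf U E hE1 hUn hfpf
  intro n
  induction n using Nat.strong_induction_on with
  | _ n ih =>
  intro M hn hMn hsolv hcop hcyc
  by_cases hM : M = ⊥
  · subst hM
    intro g _
    rw [Subgroup.mem_centralizer_iff]
    intro m hm
    rw [Subgroup.coe_bot, Set.mem_singleton_iff] at hm
    rw [hm, mul_one, one_mul]
  · set S : Subgroup X := U ⊔ E with hSdef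
    have hUS : U ≤ S := le_sup_left
    have hES : E ≤ S := le_sup_right
    have hS : S ≤ Subgroup.normalizer (M : Set X) := by
      intro x hx
      rw [Subgroup.mem_normalizer_iff]
      intro h
      constructor
      · exact hMn x hx h
      · intro hh
        have := hMn x⁻¹ (S.inv_mem hx) _ hh
        simpa [mul_assoc] using this
    have hlt : ⁅M, M⁆ < M := commutator_self_lt_of_isSolvable hsolv hM
    have hS' : S ≤ Subgroup.normalizer ((⁅M, M⁆ : Subgroup X) : Set X) :=
      hS.trans (normalizer_le_normalizer_commutator_self M)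
    have hcard' : Nat.card ↥(⁅M, M⁆ : Subgroup X) < n := by
      rw [← hn]
      exact lt_of_le_of_ne (Subgroup.card_le_of_le hlt.le)
        (fun e => hlt.ne (Subgroup.eq_of_le_of_card_ge hlt.le e.ge))
    have hsolv' : Group.IsSolvable ↥(⁅M, M⁆ : Subgroup X) :=
      Group.isSolvable_of_isSolvable_injective (Subgroup.inclusion_injective hlt.le)
    have hmulM := card_eq_card_commutator_mul_card_abelianization M
    have hcop' : Nat.Coprime (Nat.card ↥(⁅M, M⁆ : Subgroup X)) (Nat.card S) :=
      Nat.Coprime.coprime_dvd_left (Dvd.intro _ hmulM.symm) hcop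
    have hcyc' : IsCyclic ↥((⁅M, M⁆ : Subgroup X) ⊓ Subgroup.centralizer (E : Set X)) :=
      isCyclic_of_injective (Subgroup.inclusion (inf_le_inf_right _ hlt.le))
        (Subgroup.inclusion_injective _)
    have hIH := ih _ hcard' ⁅M, M⁆ rfl
      (fun x hx h hh => (Subgroup.mem_normalizer_iff.mp (hS' hx) h).mp hh) hsolv' hcop' hcyc'
    -- the abelianization
    let W := Abelianization ↥M
    let φ : ↥S →* MulAut W := abOp S M hS
    have hcopW : (Nat.card W).Coprime (Nat.card S) :=
      Nat.Coprime.coprime_dvd_left (Dvd.intro_left _ hmulM.symm) hcop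
    haveI hUn' : (U.subgroupOf S).Normal := by
      rw [Subgroup.normal_subgroupOf_iff_le_normalizer hUS]
      refine sup_le Subgroup.le_normalizer ?_
      intro x hx
      rw [Subgroup.mem_normalizer_iff]
      intro u
      constructor
      · exact hUn x hx u
      · intro h
        have := hUn x⁻¹ (E.inv_mem hx) _ h
        simpa [mul_assoc] using this
    haveI : Group.IsNilpotent ↥(U.subgroupOf S) :=
      Group.nilpotent_of_mulEquiv (Subgroup.subgroupOfEquivOfLe hUS).symm
    have hfpf' : ∀ e ∈ E.subgroupOf S, e ≠ 1 → ∀ u ∈ U.subgroupOf S, e * u = u * e → u = 1 := by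
      intro e he he1 u hu hcomm
      apply Subtype.ext
      refine hfpf e (Subgroup.mem_subgroupOf.mp he) (fun h => he1 (Subtype.ext h)) u
        (Subgroup.mem_subgroupOf.mp hu) ?_
      exact congrArg Subtype.val hcomm
    obtain ⟨-, hW⟩ := abelian_main φ (U.subgroupOf S) (E.subgroupOf S) hcopW hfpf'
      _ ⊤ rfl (fun _ _ _ => Subgroup.mem_top _)
    -- `Fix_W(E)` is the image of `C_M(E)`, hence cyclic
    have hlE := card_centralizer_eq_mul M E (hES.trans hS)
      ((Nat.Coprime.coprime_dvd_right (Subgroup.card_dvd_of_le hES) hcop).symm) (Or.inr hsolv)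
    rw [iInf_fixSub_eq_fixOf S M hS E hES] at hlE
    let f : ↥(M ⊓ Subgroup.centralizer (E : Set X)) →* W :=
      Abelianization.of.comp (Subgroup.inclusion inf_le_left)
    have hfle : f.range ≤ fixOf φ (E.subgroupOf S) := by
      rintro _ ⟨x, rfl⟩ e he
      have hxc : (x : X) ∈ Subgroup.centralizer (E : Set X) := x.2.2
      rw [Subgroup.mem_centralizer_iff] at hxc
      have he' : (e : X) ∈ E := Subgroup.mem_subgroupOf.mp he
      show abAct M ⟨e, hS e.2⟩ (Abelianization.of (Subgroup.inclusion inf_le_left x)) =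
        Abelianization.of (Subgroup.inclusion inf_le_left x)
      rw [abAct_of]
      congr 1
      apply Subtype.ext
      rw [conjNormalizerHom_coe]
      show (e : X) * (x : X) * (e : X)⁻¹ = x
      rw [hxc e he', mul_inv_cancel_right]
    have hker : Nat.card f.ker =
        Nat.card ↥((⁅M, M⁆ : Subgroup X) ⊓ Subgroup.centralizer (E : Set X)) := by
      have : f.ker.map (M ⊓ Subgroup.centralizer (E : Set X)).subtype =
          ⁅M, M⁆ ⊓ Subgroup.centralizer (E : Set X) := by
        ext x
        constructor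
        · rintro ⟨y, hy, rfl⟩
          have hy : f y = 1 := hy
          have h1 : (Subgroup.inclusion (inf_le_left :
              M ⊓ Subgroup.centralizer (E : Set X) ≤ M) y) ∈ commutator ↥M := by
            rw [← Abelianization.ker_of]
            exact hy
          rw [mem_commutator_iff] at h1
          exact ⟨h1, y.2.2⟩
        · rintro ⟨h1, h2⟩
          have hxm : x ∈ M ⊓ Subgroup.centralizer (E : Set X) := ⟨hlt.le h1, h2⟩
          refine ⟨⟨x, hxm⟩, ?_, rfl⟩
          show f ⟨x, hxm⟩ = 1
          have h3 : (Subgroup.inclusion (inf_le_left :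
              M ⊓ Subgroup.centralizer (E : Set X) ≤ M) ⟨x, hxm⟩) ∈ commutator ↥M := by
            rw [mem_commutator_iff]
            exact h1
          rw [← Abelianization.ker_of] at h3
          exact h3
      rw [← this]
      exact (Subgroup.card_map_of_injective (Subgroup.subtype_injective _)).symm
    have hrange : f.range = fixOf φ (E.subgroupOf S) := by
      apply Subgroup.eq_of_le_of_card_ge hfle
      have h1 : Nat.card ↥(M ⊓ Subgroup.centralizer (E : Set X)) =
          Nat.card f.ker * Nat.card f.range := by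
        rw [← Subgroup.index_ker, Subgroup.card_mul_index]
      rw [hker, hlE] at h1
      have hpos : 0 < Nat.card ↥((⁅M, M⁆ : Subgroup X) ⊓ Subgroup.centralizer (E : Set X)) :=
        Nat.card_pos
      exact (Nat.eq_of_mul_eq_mul_left hpos h1).le
    have hcycW : IsCyclic ↥((⊤ : Subgroup W) ⊓ fixOf φ (E.subgroupOf S)) := by
      rw [top_inf_eq, ← hrange]
      exact isCyclic_of_surjective f.rangeRestrict f.rangeRestrict_surjective
    have hWc := hW hcycW
    -- conclude
    rw [Subgroup.commutator_le]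
    intro u₁ hu₁ u₂ hu₂
    set g : X := ⁅u₁, u₂⁆ with hg
    have hgS : g ∈ S := S.mul_mem (S.mul_mem (S.mul_mem (hUS hu₁) (hUS hu₂))
      (S.inv_mem (hUS hu₁))) (S.inv_mem (hUS hu₂))
    have hgU' : g ∈ ⁅U, U⁆ := Subgroup.commutator_mem_commutator hu₁ hu₂
    have hgM' : g ∈ Subgroup.centralizer ((⁅M, M⁆ : Subgroup X) : Set X) := hIH hgU'
    rw [Subgroup.mem_centralizer_iff]
    intro m hm
    have hm' : m ∈ M := hm
    -- `g m g⁻¹ ≡ m` modulo `M'`
    have hdS : u₂ * u₁ ∈ S := S.mul_mem (hUS hu₂) (hUS hu₁)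
    have hm₀ : (u₂ * u₁)⁻¹ * m * (u₂ * u₁) ∈ M := by
      have := hMn (u₂ * u₁)⁻¹ (S.inv_mem hdS) m hm'
      rwa [inv_inv] at this
    have hmod : (g * m * g⁻¹)⁻¹ * m ∈ (⁅M, M⁆ : Subgroup X) := by
      have h1 := hWc ⟨u₁, hUS hu₁⟩ (Subgroup.mem_subgroupOf.mpr hu₁) ⟨u₂, hUS hu₂⟩
        (Subgroup.mem_subgroupOf.mpr hu₂)
        (Abelianization.of ⟨(u₂ * u₁)⁻¹ * m * (u₂ * u₁), hm₀⟩) (Subgroup.mem_top _)
      have h2 : ∀ (s : ↥S) (y : ↥M), φ s (Abelianization.of y) =
          Abelianization.of (⟨(s : X) * y * (s : X)⁻¹, hMn s s.2 y y.2⟩ : ↥M) := fun s y => rfl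
      rw [h2, h2, of_eq_of_iff] at h1
      have h3 : (g * m * g⁻¹)⁻¹ * m =
          (u₁ * u₂ * ((u₂ * u₁)⁻¹ * m * (u₂ * u₁)) * (u₁ * u₂)⁻¹)⁻¹ *
            (u₂ * u₁ * ((u₂ * u₁)⁻¹ * m * (u₂ * u₁)) * (u₂ * u₁)⁻¹) := by
        rw [hg, commutatorElement_def]
        group
      rw [h3]
      exact h1
    set z : X := m⁻¹ * (g * m * g⁻¹) with hz
    have hzM' : z ∈ (⁅M, M⁆ : Subgroup X) := by
      have := (⁅M, M⁆ : Subgroup X).inv_mem hmod
      have h4 : ((g * m * g⁻¹)⁻¹ * m)⁻¹ = z := by rw [hz]; group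
      rwa [h4] at this
    have hgz : g * z * g⁻¹ = z := by
      rw [Subgroup.mem_centralizer_iff] at hgM'
      have := hgM' z hzM'
      rw [← this, mul_inv_cancel_right]
    have hgm : g * m * g⁻¹ = m * z := by rw [hz]; group
    have hpow : ∀ k : ℕ, g ^ k * m * (g ^ k)⁻¹ = m * z ^ k := by
      intro k
      induction k with
      | zero => simp
      | succ k ihk =>
        have h5 : g ^ (k + 1) * m * (g ^ (k + 1))⁻¹ = g * (g ^ k * m * (g ^ k)⁻¹) * g⁻¹ := by
          rw [pow_succ']; group
        have h6 : g * z ^ k * g⁻¹ = z ^ k := by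
          have : g * z ^ k * g⁻¹ = (g * z * g⁻¹) ^ k := by
            rw [conj_pow]
          rw [this, hgz]
        rw [h5, ihk]
        calc g * (m * z ^ k) * g⁻¹ = (g * m * g⁻¹) * (g * z ^ k * g⁻¹) := by group
          _ = m * z * z ^ k := by rw [hgm, h6]
          _ = m * z ^ (k + 1) := by rw [pow_succ', mul_assoc]
    have hzS : z ^ Nat.card S = 1 := by
      have h7 : g ^ Nat.card S = 1 := by
        have h8 : (⟨g, hgS⟩ : S) ^ Nat.card S = 1 := pow_card_eq_one'
        have h9 := congrArg Subtype.val h8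
        rw [Subgroup.coe_pow, Subgroup.coe_one] at h9
        exact h9
      have := hpow (Nat.card S)
      rw [h7] at this
      simpa using this.symm
    have hzM : z ∈ M := hlt.le hzM'
    have hzMc : z ^ Nat.card M = 1 := by
      have h8 : (⟨z, hzM⟩ : M) ^ Nat.card M = 1 := pow_card_eq_one'
      have h9 := congrArg Subtype.val h8
      rw [Subgroup.coe_pow, Subgroup.coe_one] at h9
      exact h9
    have hz1 : z = 1 := by
      have h1 : orderOf z ∣ Nat.card S := orderOf_dvd_of_pow_eq_one hzS
      have h2 : orderOf z ∣ Nat.card M := orderOf_dvd_of_pow_eq_one hzMc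
      have h3 : orderOf z = 1 := Nat.eq_one_of_dvd_coprimes hcop h2 h1
      exact orderOf_eq_one_iff.mp h3
    rw [hz1, mul_one] at hgm
    calc m * g = (g * m * g⁻¹) * g := by rw [hgm]
      _ = g * m := by group


end Cfsg.Agent.Helper62.FrobAct
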