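import Mathlib
import Cfsg.Agent.Helper52.PQDefs
import Cfsg.Agent.Helper21.WardKey0
import Cfsg.Agent.Helper23.Sup
import Cfsg.Agent.Helper76.WardW1
import Cfsg.Agent.Helper60.ShultO
import Cfsg.Agent.Helper38.PQFA
import Cfsg.Agent.Helper41.PQFB
import Cfsg.Agent.Helper25.PQL

/-!
# Piece (TY) of helper52's plan for S4306, by helper62: the types of hyperplanes

`V` elementary abelian `ℓ`-group, `T` elementary abelian `w`-group acting on `V` with
`C_V(T) = 1`, both invariant under the Frobenius group `A = ⟨σ, τ⟩` without fixed points; `D` a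
hyperplane of `T` with `V_D = C_V(D) ≠ 1`.  Then the stabilizer of `D` in `A` contains `σ` or is
some `⟨τ_i⟩`, its generator `b` centralizes `T / D` and has no fixed points on `V_D`.
-/

set_option autoImplicit false
set_option linter.unusedSectionVars false
set_option linter.style.haveILetI false

namespace Cfsg.Agent.Helper62.PQ

open Subgroup Cfsg.Agent.Helper1.Shult Cfsg.Agent.Helper52.PQ Cfsg.Agent.Helper21.Ward

variable {H : Type*} [Group H] [Finite H]

/-! ### hyperplane basics -/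

/-- `T = D ⟨g0⟩` for a hyperplane `D` and `g0 ∈ T \ D` -/
theorem exists_decomp {w : ℕ} (hw : w.Prime) {T D : Subgroup H} (hT : IsEA w T)
    (hD : IsHyp w T ⊥ D) {g0 : H} (hg0T : g0 ∈ T) (hg0D : g0 ∉ D) :
    ∀ x ∈ T, ∃ d ∈ D, ∃ k : ℕ, x = d * g0 ^ k := by
  obtain ⟨-, hDT, hidx⟩ := hD
  have hTD : T ≤ normalizer (D : Set H) := by
    intro g hg
    rw [mem_normalizer_iff]
    intro h
    constructor
    · intro hh
      have h1 := hT.1 g hg h (hDT hh)
      rw [h1, mul_inv_cancel_right]; exact hh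
    · intro hh
      have h1 : g * h * g⁻¹ ∈ T := hDT hh
      have h2 : h ∈ T := by
        have h3 := T.mul_mem (T.mul_mem (T.inv_mem hg) h1) hg
        have h4 : g⁻¹ * (g * h * g⁻¹) * g = h := by group
        rwa [h4] at h3
      have h3 := hT.1 g hg h h2
      rw [h3, mul_inv_cancel_right] at hh; exact hh
  set K : Subgroup H := D ⊔ zpowers g0 with hK
  have hDK : D ≤ K := le_sup_left
  have hKT : K ≤ T := sup_le hDT ((zpowers_le).2 hg0T)
  have h1 := relIndex_mul_relIndex D K T hDK hKT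
  rw [hidx] at h1
  have h2 : D.relIndex K ≠ 1 := by
    intro e
    have h3 : K ≤ D := relIndex_eq_one.1 e
    exact hg0D (h3 (le_sup_right (a := D) (mem_zpowers g0)))
  have h3 : K.relIndex T = 1 := by
    rcases (Nat.dvd_prime hw).1 (Dvd.intro _ h1) with e | e
    · exact absurd e h2
    · rw [e] at h1
      have : w * K.relIndex T = w * 1 := by rw [h1, mul_one]
      exact Nat.eq_of_mul_eq_mul_left hw.pos this
  have hTK : T ≤ K := relIndex_eq_one.1 h3
  intro x hx
  have hnorm : zpowers g0 ≤ normalizer (D : Set H) := ((zpowers_le).2 hg0T).trans hTD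
  obtain ⟨d, hd, b, hb, hdb⟩ :=
    (Cfsg.Agent.Helper23.mem_sup_iff_of_le_normalizer hnorm).mp (hTK hx)
  rw [← mem_powers_iff_mem_zpowers] at hb
  obtain ⟨k, rfl⟩ := (Submonoid.mem_powers_iff b g0).mp hb
  exact ⟨d, hd, k, hdb⟩

/-- `g0 ∈ T \ D` has no fixed points on `V_D` -/
theorem eq_one_of_conj_eq {w : ℕ} (hw : w.Prime) {V T D : Subgroup H} (hT : IsEA w T)
    (hD : IsHyp w T ⊥ D) (hVT : V ⊓ centralizer (T : Set H) = ⊥) {g0 : H} (hg0T : g0 ∈ T)
    (hg0D : g0 ∉ D) {v : H} (hv : v ∈ V ⊓ centralizer (D : Set H)) (hfix : g0 * v * g0⁻¹ = v) :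
    v = 1 := by
  have hgv : g0 * v = v * g0 := by
    calc g0 * v = g0 * v * g0⁻¹ * g0 := by group
      _ = v * g0 := by rw [hfix]
  have hmem : v ∈ V ⊓ centralizer (T : Set H) := by
    refine mem_inf.2 ⟨hv.1, ?_⟩
    rw [mem_centralizer_iff]
    intro x hx
    obtain ⟨d, hd, k, rfl⟩ := exists_decomp hw hT hD hg0T hg0D x hx
    have h1 : d * v = v * d := mem_centralizer_iff.1 hv.2 d hd
    have h2 : Commute g0 v := hgv
    have h3 : g0 ^ k * v = v * g0 ^ k := (h2.pow_left k).eq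
    calc d * g0 ^ k * v = d * (g0 ^ k * v) := by group
      _ = d * (v * g0 ^ k) := by rw [h3]
      _ = (d * v) * g0 ^ k := by group
      _ = v * (d * g0 ^ k) := by rw [h1]; group
  rw [hVT, mem_bot] at hmem
  exact hmem

/-- the frob_gen step: a subgroup `W ≤ V_D` normalized by `g0 ∈ T \ D` and by `b` (`b ^ r = 1`)
on which `b` has no fixed points is trivial, as soon as `b` does not centralize `g0` mod `D`. -/
theorem eq_bot_of_frob {ℓ w r : ℕ} (hℓ : ℓ.Prime) (hw : w.Prime) (hr : r.Prime) (hwℓ : w ≠ ℓ)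
    {V T D W : Subgroup H} (hV : IsEA ℓ V) (hT : IsEA w T) (hD : IsHyp w T ⊥ D)
    (hVT : V ⊓ centralizer (T : Set H) = ⊥) (hWVD : W ≤ V ⊓ centralizer (D : Set H))
    {g0 b : H} (hg0T : g0 ∈ T) (hg0D : g0 ∉ D) (hg0W : g0 ∈ normalizer (W : Set H))
    (hbW : b ∈ normalizer (W : Set H)) (hbT : b * g0 * b⁻¹ ∈ T) (hbr : b ^ r = 1)
    (hbad : g0⁻¹ * (b * g0 * b⁻¹) ∉ D)
    (hbfix : ∀ u ∈ W, b * u * b⁻¹ = u → u = 1) : W = ⊥ := by
  classical
  have hDT : D ≤ T := hD.2.1
  have hWV : W ≤ V := hWVD.trans inf_le_left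
  letI : CommGroup ↥W := { (inferInstance : Group ↥W) with
    mul_comm := fun u v => Subtype.ext (hV.1 u (hWV u.2) v (hWV v.2)) }
  set τf : MulAut ↥W := cjAut W g0 hg0W with hτf
  set ξ : MulAut ↥W := cjAut W b hbW with hξ
  have hg0w : g0 ^ w = 1 := hT.2 g0 hg0T
  have hτw : τf ^ w = 1 := by
    ext u
    rw [hτf, cjAut_pow_coe, hg0w, MulAut.one_apply]
    group
  have hξr : ξ ^ r = 1 := by
    ext u
    rw [hξ, cjAut_pow_coe, hbr, MulAut.one_apply]
    group
  obtain ⟨d, hd, k, hdk⟩ := exists_decomp hw hT hD hg0T hg0D (b * g0 * b⁻¹) hbT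
  have hrel : ξ * τf * ξ⁻¹ = τf ^ k := by
    rw [hξ, hτf, cjAut_inv, cjAut_mul, cjAut_mul, cjAut_pow]
    ext u
    rw [cjAut_coe, cjAut_coe, hdk]
    have hu' : g0 ^ k * (u : H) * (g0 ^ k)⁻¹ ∈ W :=
      (mem_normalizer_iff.mp ((normalizer (W : Set H)).pow_mem hg0W k) _).mp u.2
    have hdc := mem_centralizer_iff.mp (hWVD hu').2 d hd
    calc d * g0 ^ k * (u : H) * (d * g0 ^ k)⁻¹
        = (d * (g0 ^ k * (u : H) * (g0 ^ k)⁻¹)) * d⁻¹ := by group
      _ = ((g0 ^ k * (u : H) * (g0 ^ k)⁻¹) * d) * d⁻¹ := by rw [hdc]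
      _ = g0 ^ k * (u : H) * (g0 ^ k)⁻¹ := by group
  have hk : ¬ k ≡ 1 [MOD w] := by
    intro hk
    apply hbad
    have hk1 : k % w = 1 := by
      have h1 := hk
      unfold Nat.ModEq at h1
      rw [h1, Nat.mod_eq_of_lt hw.one_lt]
    have hk2 : k = w * (k / w) + 1 := by
      have h1 := Nat.div_add_mod k w
      omega
    have h3 : g0 ^ k = g0 := by
      conv_lhs => rw [hk2]
      rw [pow_add, pow_mul, pow_one, hg0w, one_pow, one_mul]
    rw [hdk, h3]
    have h4 : d * g0 = g0 * d := hT.1 d (hDT hd) g0 hg0T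
    rw [h4, inv_mul_cancel_left]
    exact hd
  have hfix : ∀ u : ↥W, τf u = u → u = 1 := by
    intro u hu
    apply Subtype.ext
    have h1 := congrArg Subtype.val hu
    rw [hτf, cjAut_coe] at h1
    exact eq_one_of_conj_eq hw hT hD hVT hg0T hg0D (hWVD u.2) h1
  have hcop : (Nat.card ↥W).Coprime w := by
    haveI : Fact ℓ.Prime := ⟨hℓ⟩
    have hVp : IsPGroup ℓ V := by
      intro g
      refine ⟨1, Subtype.ext ?_⟩
      rw [pow_one, SubgroupClass.coe_pow]
      exact hV.2 g g.2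
    obtain ⟨n, hn⟩ := (IsPGroup.iff_card).1 hVp
    have h1 : Nat.card ↥W ∣ ℓ ^ n := hn ▸ Subgroup.card_dvd_of_le hWV
    exact Nat.Coprime.coprime_dvd_left h1
      (Nat.Coprime.pow_left n ((Nat.coprime_primes hℓ hw).2 (Ne.symm hwℓ)))
  have hY1 : ∀ u : ↥W, (∏ i ∈ Finset.range r, (ξ ^ i) u) ∈ (⊥ : Subgroup ↥W) := by
    intro u
    rw [mem_bot]
    set N : ↥W := ∏ i ∈ Finset.range r, (ξ ^ i) u with hN
    have hξN : ξ N = N := by
      rw [hN, map_prod]
      have h1 : ∀ i ∈ Finset.range r, ξ ((ξ ^ i) u) = (ξ ^ (i + 1)) u := by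
        intro i _
        rw [pow_succ', MulAut.mul_apply]
      rw [Finset.prod_congr rfl h1]
      have h2 := Finset.prod_range_succ' (fun i => (ξ ^ i) u) r
      have h3 := Finset.prod_range_succ (fun i => (ξ ^ i) u) r
      rw [h3] at h2
      simp only [hξr, pow_zero, MulAut.one_apply] at h2
      exact (mul_right_cancel h2).symm
    apply Subtype.ext
    have h1 := congrArg Subtype.val hξN
    rw [hξ, cjAut_coe] at h1
    exact hbfix _ N.2 h1
  have hY2 : ∀ y ∈ (⊥ : Subgroup ↥W), τf y ∈ (⊥ : Subgroup ↥W) := by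
    intro y hy
    rw [mem_bot] at hy ⊢
    rw [hy, map_one]
  have htop := Cfsg.Agent.Helper76.WardW1.frob_gen hw hr τf ξ hτw hξr hrel hk hfix hcop ⊥ hY1 hY2
  rw [eq_bot_iff]
  intro u hu
  have h1 : (⟨u, hu⟩ : ↥W) ∈ (⊤ : Subgroup ↥W) := mem_top _
  rw [← htop, mem_bot] at h1
  rw [mem_bot]
  exact congrArg Subtype.val h1

/-- the orbit product argument: a vector of `V_D` fixed by a subgroup `B` of `A = ⟨σ, τ⟩`
containing the stabilizer of `D` is trivial. -/
theorem eq_one_of_fixed_stab {ℓ w : ℕ} [Fact w.Prime] (hℓ : ℓ.Prime) {σ τ : H}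
    {V T : Subgroup H} (hs : HypSet w V T ⊥) (hVℓ : ∀ v ∈ V, v ^ ℓ = 1)
    (hVinv : Inv σ τ V) (hTinv : Inv σ τ T) (hfixV : Fix σ τ V = ⊥) (D : Subgroup H)
    (hD : IsHyp w T ⊥ D) (B : Subgroup H) (hBA : B ≤ closure ({σ, τ} : Set H))
    (hstab : ∀ a ∈ closure ({σ, τ} : Set H), a ∉ B → a ∉ normalizer (D : Set H))
    (hcard : (Nat.card B).Coprime ℓ)
    {v : H} (hv : v ∈ V ⊓ centralizer (D : Set H)) (hfix : ∀ c ∈ B, c * v * c⁻¹ = v) :
    v = 1 := by
  classical
  set A : Subgroup H := closure ({σ, τ} : Set H) with hA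
  have hσA : σ ∈ A := subset_closure (by simp)
  have hτA : τ ∈ A := subset_closure (by simp)
  have hAV : A ≤ normalizer (V : Set H) := by
    rw [hA, closure_le]
    intro x hx
    rcases hx with rfl | hx
    · exact hVinv.1
    · rw [Set.mem_singleton_iff] at hx; rw [hx]; exact hVinv.2
  have hAT : A ≤ normalizer (T : Set H) := by
    rw [hA, closure_le]
    intro x hx
    rcases hx with rfl | hx
    · exact hTinv.1
    · rw [Set.mem_singleton_iff] at hx; rw [hx]; exact hTinv.2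
  have hbotN : ∀ a : H, a ∈ normalizer (((⊥ : Subgroup H) : Subgroup H) : Set H) := by
    intro a
    rw [mem_normalizer_iff]
    intro h
    rw [mem_bot, mem_bot]
    constructor
    · intro h1; rw [h1]; group
    · intro h1
      have h2 : h = a⁻¹ * (a * h * a⁻¹) * a := by group
      rw [h2, h1]; group
  letI : CommGroup ↥V := { (inferInstance : Group ↥V) with
    mul_comm := fun u v => Subtype.ext (hs.hVab u u.2 v v.2) }
  haveI : Fintype ↥A := Fintype.ofFinite _
  set v' : ↥V := ⟨v, hv.1⟩ with hv'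
  set f : ↥A → ↥V := fun a => cjAut V (a : H) (hAV a.2) v' with hf
  set P : ↥V := ∏ a, f a with hP
  -- `P` is fixed by `σ` and `τ`
  have hinvP : ∀ c : ↥A, cjAut V (c : H) (hAV c.2) P = P := by
    intro c
    rw [hP, map_prod]
    have h1 : ∀ a : ↥A, cjAut V (c : H) (hAV c.2) (f a) = f (c * a) := by
      intro a
      apply Subtype.ext
      rw [hf]
      simp only [cjAut_coe]
      rw [Subgroup.coe_mul]
      group
    rw [Finset.prod_congr rfl (fun a _ => h1 a)]
    exact Fintype.prod_equiv (Equiv.mulLeft c) _ _ (fun a => rfl)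
  have hPfix : (P : H) ∈ Fix σ τ V := by
    refine mem_inf.2 ⟨P.2, ?_⟩
    rw [mem_centralizer_iff]
    intro y hy
    have key : ∀ c : ↥A, (c : H) * (P : H) = (P : H) * (c : H) := by
      intro c
      have h1 := congrArg Subtype.val (hinvP c)
      rw [cjAut_coe] at h1
      calc (c : H) * (P : H) = (c : H) * (P : H) * (c : H)⁻¹ * (c : H) := by group
        _ = (P : H) * (c : H) := by rw [h1]
    rcases hy with rfl | hy
    · exact key ⟨y, hσA⟩
    · rw [Set.mem_singleton_iff] at hy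
      rw [hy]
      exact key ⟨τ, hτA⟩
  rw [hfixV, mem_bot] at hPfix
  -- split the product
  have hsplit := (Finset.prod_filter_mul_prod_filter_not Finset.univ
    (fun a : ↥A => a ∈ B.subgroupOf A) f).symm
  have h1 : ∏ a ∈ Finset.univ.filter (fun a : ↥A => a ∈ B.subgroupOf A), f a =
      v' ^ (Finset.univ.filter (fun a : ↥A => a ∈ B.subgroupOf A)).card := by
    rw [← Finset.prod_const]
    apply Finset.prod_congr rfl
    intro a ha
    rw [Finset.mem_filter] at ha
    apply Subtype.ext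
    rw [hf]
    simp only [cjAut_coe]
    exact hfix (a : H) (mem_subgroupOf.1 ha.2)
  have hcardB : (Finset.univ.filter (fun a : ↥A => a ∈ B.subgroupOf A)).card = Nat.card B := by
    rw [← Fintype.card_subtype, Fintype.card_eq_nat_card]
    exact Nat.card_congr (subgroupOfEquivOfLe hBA).toEquiv
  set O' : Subgroup ↥V := (Cfsg.Agent.Helper60.Shult.others w V T ⊥ D).subgroupOf V with hO'
  have h2 : ∏ a ∈ Finset.univ.filter (fun a : ↥A => ¬ a ∈ B.subgroupOf A), f a ∈ O' := by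
    apply Subgroup.prod_mem
    intro a ha
    rw [Finset.mem_filter] at ha
    rw [hO', mem_subgroupOf, hf]
    simp only [cjAut_coe]
    have haB : (a : H) ∉ B := fun h => ha.2 (mem_subgroupOf.2 h)
    exact Cfsg.Agent.Helper60.Shult.conj_mem_others D hD (a : H) (hAV a.2) (hAT a.2)
      (hbotN _) (hstab _ a.2 haB) v hv
  set y' : ↥V := ∏ a ∈ Finset.univ.filter (fun a : ↥A => ¬ a ∈ B.subgroupOf A), f a with hy'
  have h3 : v' ^ Nat.card B * y' = 1 := by
    rw [← hcardB, ← h1, ← hsplit]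
    exact Subtype.ext hPfix
  have h4 : v ^ Nat.card B * (y' : H) = 1 := by
    have := congrArg Subtype.val h3
    simpa using this
  have hvn : v ^ Nat.card B ∈ V ⊓ centralizer (D : Set H) := pow_mem hv _
  have h5 := Cfsg.Agent.Helper60.Shult.eq_one_of_mul_mem_others hs D hD (v ^ Nat.card B)
    (y' : H) hvn (mem_subgroupOf.1 h2) h4
  have h6 : orderOf v ∣ 1 := by
    have h7 := Nat.dvd_gcd (orderOf_dvd_of_pow_eq_one h5)
      (orderOf_dvd_of_pow_eq_one (hVℓ v hv.1))
    rwa [Nat.Coprime.gcd_eq_one hcard] at h7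
  exact orderOf_eq_one_iff.1 (Nat.dvd_one.1 h6)


/-! ### small helpers for the main theorem -/

/-- an abelian group normalizes each of its subgroups -/
theorem le_normalizer_of_isEA {w : ℕ} {T D : Subgroup H} (hT : IsEA w T) (hDT : D ≤ T) :
    T ≤ normalizer (D : Set H) := by
  intro g hg
  apply mem_normalizer_fintype
  intro h hh
  have h1 := hT.1 g hg h (hDT hh)
  rw [h1, mul_inv_cancel_right]; exact hh

/-- an element normalizing `V` and `D` normalizes `V_D = C_V(D)` -/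
theorem mem_normalizer_VD {V D : Subgroup H} {x : H} (hxV : x ∈ normalizer (V : Set H))
    (hxD : x ∈ normalizer (D : Set H)) :
    x ∈ normalizer ((V ⊓ centralizer (D : Set H) : Subgroup H) : Set H) := by
  apply mem_normalizer_fintype
  intro h hh
  have hh' : h ∈ V ⊓ centralizer (D : Set H) := hh
  show x * h * x⁻¹ ∈ V ⊓ centralizer (D : Set H)
  refine mem_inf.2 ⟨(mem_normalizer_iff.1 hxV h).1 hh'.1, ?_⟩
  rw [mem_centralizer_iff]
  intro d hd
  have hd' : x⁻¹ * d * x ∈ D := by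
    have h1 := (mem_normalizer_iff.1 ((normalizer (D : Set H)).inv_mem hxD) d).1 hd
    rwa [inv_inv] at h1
  have h2 := mem_centralizer_iff.1 hh'.2 _ hd'
  calc d * (x * h * x⁻¹) = x * ((x⁻¹ * d * x) * h) * x⁻¹ := by group
    _ = x * (h * (x⁻¹ * d * x)) * x⁻¹ := by rw [h2]
    _ = x * h * x⁻¹ * d := by group

/-- clause 3 from the orbit product argument: if the stabilizer of `D` in `⟨σ, τ⟩` is inside
`⟨b⟩`, of order prime to `ℓ`, then `b` has no fixed points on `V_D`. -/
theorem fpf_of_stab {ℓ w : ℕ} [Fact w.Prime] (hℓ : ℓ.Prime) {σ τ : H}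
    {V T : Subgroup H} (hs : HypSet w V T ⊥) (hVℓ : ∀ v ∈ V, v ^ ℓ = 1)
    (hVinv : Inv σ τ V) (hTinv : Inv σ τ T) (hfixV : Fix σ τ V = ⊥) (D : Subgroup H)
    (hD : IsHyp w T ⊥ D) (b : H) (hbA : b ∈ closure ({σ, τ} : Set H))
    (hstab : ∀ a ∈ closure ({σ, τ} : Set H), a ∉ zpowers b → a ∉ normalizer (D : Set H))
    (hcard : (orderOf b).Coprime ℓ) :
    (V ⊓ centralizer (D : Set H)) ⊓ centralizer {b} = ⊥ := by
  rw [eq_bot_iff]
  intro v hv
  rw [mem_bot]
  have hv1 : v ∈ V ⊓ centralizer (D : Set H) := (mem_inf.1 hv).1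
  have hv2 : v * b = b * v := mem_centralizer_singleton_iff.1 (mem_inf.1 hv).2
  refine eq_one_of_fixed_stab hℓ hs hVℓ hVinv hTinv hfixV D hD (zpowers b)
    ((zpowers_le).2 hbA) hstab (by rwa [Nat.card_zpowers]) hv1 ?_
  intro c hc
  obtain ⟨m, rfl⟩ := mem_zpowers_iff.1 hc
  have h1 : Commute b v := hv2.symm
  have h2 : b ^ m * v = v * b ^ m := (h1.zpow_left m).eq
  rw [h2, mul_inv_cancel_right]

/-- clause 2 from clause 3: an element `b` of prime order normalizing `V`, `T`, `D` and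
without fixed points on `V_D ≠ 1` centralizes `T / D`. -/
theorem central_mod_of_fpf {ℓ w r : ℕ} (hℓ : ℓ.Prime) (hw : w.Prime) (hr : r.Prime)
    (hwℓ : w ≠ ℓ) {V T D : Subgroup H} (hV : IsEA ℓ V) (hT : IsEA w T) (hD : IsHyp w T ⊥ D)
    (hTV : T ≤ normalizer (V : Set H)) (hVT : V ⊓ centralizer (T : Set H) = ⊥)
    (hVD : V ⊓ centralizer (D : Set H) ≠ ⊥) {b : H} (hbV : b ∈ normalizer (V : Set H))
    (hbT : b ∈ normalizer (T : Set H)) (hbD : b ∈ normalizer (D : Set H)) (hbr : b ^ r = 1)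
    (hfpf : (V ⊓ centralizer (D : Set H)) ⊓ centralizer {b} = ⊥) :
    ∀ g ∈ T, g⁻¹ * (b * g * b⁻¹) ∈ D := by
  intro g0 hg0T
  by_contra hbad
  have hDT : D ≤ T := hD.2.1
  have hg0D : g0 ∉ D := by
    intro hg0D
    exact hbad (D.mul_mem (D.inv_mem hg0D) ((mem_normalizer_iff.1 hbD g0).1 hg0D))
  have hTD := le_normalizer_of_isEA hT hDT
  have h1 := eq_bot_of_frob hℓ hw hr hwℓ hV hT hD hVT (le_refl _) hg0T hg0D
    (mem_normalizer_VD (hTV hg0T) (hTD hg0T)) (mem_normalizer_VD hbV hbD)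
    ((mem_normalizer_iff.1 hbT g0).1 hg0T) hbr hbad ?_
  · exact hVD h1
  · intro u hu hfix
    have h2 : u ∈ (V ⊓ centralizer (D : Set H)) ⊓ centralizer {b} := by
      refine mem_inf.2 ⟨hu, mem_centralizer_singleton_iff.2 ?_⟩
      calc u * b = b * u * b⁻¹ * b := by rw [hfix]
        _ = b * u := by group
    rw [hfpf, mem_bot] at h2
    exact h2



/-! ### the main theorem -/

/-- **(TY)** of #5134: the types of hyperplanes. -/
theorem types {s t ℓ w : ℕ} [Fact ℓ.Prime] [Fact w.Prime] {σ τ : H} (hF : FrobPair s t σ τ)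
    (hwℓ : w ≠ ℓ) (hℓs : ℓ ≠ s) (hℓt : ℓ ≠ t) (hws : w ≠ s) (hwt : w ≠ t)
    (V T : Subgroup H) (hV : IsEA ℓ V) (hT : IsEA w T) (hVinv : Inv σ τ V) (hTinv : Inv σ τ T)
    (hTV : T ≤ normalizer (V : Set H)) (hfixV : Fix σ τ V = ⊥) (hfixT : Fix σ τ T = ⊥)
    (hVT : V ⊓ centralizer (T : Set H) = ⊥)
    (D : Subgroup H) (hD : IsHyp w T ⊥ D) (hVD : V ⊓ centralizer (D : Set H) ≠ ⊥) :
    (σ ∈ normalizer (D : Set H) ∧ (∀ g ∈ T, g⁻¹ * (σ * g * σ⁻¹) ∈ D) ∧
        (V ⊓ centralizer (D : Set H)) ⊓ centralizer {σ} = ⊥) ∨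
    (σ ∉ normalizer (D : Set H) ∧ ∃ i : ℕ,
        σ ^ i * τ * (σ ^ i)⁻¹ ∈ normalizer (D : Set H) ∧
        (∀ g ∈ T, g⁻¹ * ((σ ^ i * τ * (σ ^ i)⁻¹) * g * (σ ^ i * τ * (σ ^ i)⁻¹)⁻¹) ∈ D) ∧
        (V ⊓ centralizer (D : Set H)) ⊓ centralizer {σ ^ i * τ * (σ ^ i)⁻¹} = ⊥) := by
  classical
  have hℓ : ℓ.Prime := Fact.out
  have hw : w.Prime := Fact.out
  have hDT : D ≤ T := hD.2.1
  have hTD : T ≤ normalizer (D : Set H) := le_normalizer_of_isEA hT hDT
  set A : Subgroup H := closure ({σ, τ} : Set H) with hA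
  have hσA : σ ∈ A := subset_closure (by simp)
  have hτA : τ ∈ A := subset_closure (by simp)
  have hVp : IsPGroup ℓ V := by
    intro g
    refine ⟨1, Subtype.ext ?_⟩
    rw [pow_one, SubgroupClass.coe_pow]
    exact hV.2 g g.2
  have hTp : IsPGroup w T := by
    intro g
    refine ⟨1, Subtype.ext ?_⟩
    rw [pow_one, SubgroupClass.coe_pow]
    exact hT.2 g g.2
  have hcopV : (Nat.card V).Coprime w := by
    obtain ⟨n, hn⟩ := (IsPGroup.iff_card).1 hVp
    rw [hn]
    exact Nat.Coprime.pow_left n ((Nat.coprime_primes hℓ hw).2 (Ne.symm hwℓ))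
  have hs : HypSet w V T ⊥ :=
    { hVab := hV.1
      hTV := hTV
      hTs := hTp
      hcop := hcopV
      hS0T := bot_le
      hS0 := bot_le
      hcomm := by
        intro a ha b hb
        rw [mem_bot, hT.1 a ha b hb]; group
      hpow := by
        intro a ha
        rw [mem_bot]; exact hT.2 a ha
      hfix := hVT }
  have hσs : σ ^ s = 1 := by rw [← hF.oσ]; exact pow_orderOf_eq_one σ
  have hτt : τ ^ t = 1 := by rw [← hF.oτ]; exact pow_orderOf_eq_one τ
  have hsℓ : s.Coprime ℓ := (Nat.coprime_primes hF.hs hℓ).2 (Ne.symm hℓs)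
  have htℓ : t.Coprime ℓ := (Nat.coprime_primes hF.ht hℓ).2 (Ne.symm hℓt)
  rcases Cfsg.Agent.Helper41.PQ.frob_subgroup_cases hF (A ⊓ normalizer (D : Set H)) inf_le_left
    with hσB | hB | ⟨i, hB⟩
  · -- `σ` normalizes `D`
    have hσD : σ ∈ normalizer (D : Set H) := (mem_inf.1 hσB).2
    left
    refine ⟨hσD, ?_⟩
    by_cases hτD : τ ∈ normalizer (D : Set H)
    · -- the whole of `A` stabilizes `D`
      have h2 : ∀ g ∈ T, g⁻¹ * (σ * g * σ⁻¹) ∈ D :=
        Cfsg.Agent.Helper38.PQFA.frob_sigma_cyclic_quotient hF T D hw hDT hTD hD.2.2 hTinv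
          ⟨hσD, hτD⟩
      refine ⟨h2, ?_⟩
      obtain ⟨g0, hg0T, hg0D⟩ : ∃ g0 ∈ T, g0 ∉ D := by
        by_contra hcon
        push Not at hcon
        have h3 : D.relIndex T = 1 := relIndex_eq_one.2 hcon
        rw [hD.2.2] at h3
        exact hw.ne_one h3
      set W : Subgroup H := (V ⊓ centralizer (D : Set H)) ⊓ centralizer {σ} with hW
      have hcopD : (Nat.card D).Coprime (s * t) := by
        obtain ⟨n, hn⟩ := (IsPGroup.iff_card).1 hTp
        have h3 : Nat.card D ∣ w ^ n := hn ▸ Subgroup.card_dvd_of_le hDT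
        refine Nat.Coprime.coprime_dvd_left h3 (Nat.Coprime.pow_left n ?_)
        exact Nat.Coprime.mul_right ((Nat.coprime_primes hw hF.hs).2 hws)
          ((Nat.coprime_primes hw hF.ht).2 hwt)
      have hbad : g0⁻¹ * (τ * g0 * τ⁻¹) ∉ D := by
        intro hmem
        obtain ⟨n, hn, hnσ, hnτ⟩ := Cfsg.Agent.Helper25.PQ.pq_fixed_lift hF D ⟨hσD, hτD⟩ hcopD g0
          (h2 g0 hg0T) hmem
        have h3 : g0 * n ∈ Fix σ τ T := by
          refine mem_inf.2 ⟨T.mul_mem hg0T (hDT hn), ?_⟩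
          rw [mem_centralizer_iff]
          intro y hy
          rcases hy with hy | hy
          · rw [hy]
            calc σ * (g0 * n) = σ * (g0 * n) * σ⁻¹ * σ := by group
              _ = g0 * n * σ := by rw [hnσ]
          · rw [Set.mem_singleton_iff] at hy
            rw [hy]
            calc τ * (g0 * n) = τ * (g0 * n) * τ⁻¹ * τ := by group
              _ = g0 * n * τ := by rw [hnτ]
        rw [hfixT, mem_bot] at h3
        have h4 : g0 = n⁻¹ := eq_inv_of_mul_eq_one_left h3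
        exact hg0D (h4 ▸ D.inv_mem hn)
      have hg0W : g0 ∈ normalizer (W : Set H) := by
        apply mem_normalizer_fintype
        intro u hu
        have hu' : u ∈ W := hu
        show g0 * u * g0⁻¹ ∈ W
        have hu1 : u ∈ V ⊓ centralizer (D : Set H) := (mem_inf.1 hu').1
        have hu2 : u * σ = σ * u := mem_centralizer_singleton_iff.1 (mem_inf.1 hu').2
        have hg0VD := mem_normalizer_VD (hTV hg0T) (hTD hg0T)
        refine mem_inf.2 ⟨(mem_normalizer_iff.1 hg0VD u).1 hu1,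
          mem_centralizer_singleton_iff.2 ?_⟩
        have hdD : g0⁻¹ * (σ * g0 * σ⁻¹) ∈ D := h2 g0 hg0T
        generalize hd : g0⁻¹ * (σ * g0 * σ⁻¹) = d at hdD
        have hdu : d * u = u * d := mem_centralizer_iff.1 hu1.2 d hdD
        have hσg : σ * g0 = g0 * d * σ := by rw [← hd]; group
        have h5 : d * σ * g0⁻¹ = g0⁻¹ * σ := by rw [← hd]; group
        calc g0 * u * g0⁻¹ * σ = g0 * u * (g0⁻¹ * σ) := by group
          _ = g0 * u * (d * σ * g0⁻¹) := by rw [h5]
          _ = g0 * (u * d) * σ * g0⁻¹ := by group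
          _ = g0 * (d * u) * σ * g0⁻¹ := by rw [hdu]
          _ = g0 * d * (u * σ) * g0⁻¹ := by group
          _ = g0 * d * (σ * u) * g0⁻¹ := by rw [hu2]
          _ = (g0 * d * σ) * u * g0⁻¹ := by group
          _ = σ * g0 * u * g0⁻¹ := by rw [← hσg]
          _ = σ * (g0 * u * g0⁻¹) := by group
      have hτW : τ ∈ normalizer (W : Set H) := by
        apply mem_normalizer_fintype
        intro u hu
        have hu' : u ∈ W := hu
        show τ * u * τ⁻¹ ∈ W
        have hu1 : u ∈ V ⊓ centralizer (D : Set H) := (mem_inf.1 hu').1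
        have hu2 : u * σ = σ * u := mem_centralizer_singleton_iff.1 (mem_inf.1 hu').2
        have hτVD := mem_normalizer_VD hVinv.2 hτD
        refine mem_inf.2 ⟨(mem_normalizer_iff.1 hτVD u).1 hu1,
          mem_centralizer_singleton_iff.2 ?_⟩
        exact (Cfsg.Agent.Helper25.PQ.commute_conj_of_norm hF.hs hF.oσ hF.norm u hu2.symm).symm
      refine eq_bot_of_frob hℓ hw hF.ht hwℓ hV hT hD hVT inf_le_left hg0T hg0D hg0W hτW
        ((mem_normalizer_iff.1 hTinv.2 g0).1 hg0T) hτt hbad ?_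
      intro u hu hfix
      have h3 : u ∈ Fix σ τ V := by
        refine mem_inf.2 ⟨(mem_inf.1 (mem_inf.1 hu).1).1, ?_⟩
        rw [mem_centralizer_iff]
        intro y hy
        rcases hy with hy | hy
        · rw [hy]
          exact (mem_centralizer_singleton_iff.1 (mem_inf.1 hu).2).symm
        · rw [Set.mem_singleton_iff] at hy
          rw [hy]
          calc τ * u = τ * u * τ⁻¹ * τ := by group
            _ = u * τ := by rw [hfix]
      rw [hfixV, mem_bot] at h3
      exact h3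
    · -- the stabilizer is `⟨σ⟩`
      have hstab : ∀ a ∈ A, a ∉ zpowers σ → a ∉ normalizer (D : Set H) := by
        intro a haA haσ haD
        obtain ⟨x, hx, y, hy, rfl⟩ := Cfsg.Agent.Helper41.PQ.exists_mul_of_mem_closure hF a haA
        have hxD : x ∈ normalizer (D : Set H) := (zpowers_le.2 hσD) hx
        have hyD : y ∈ normalizer (D : Set H) := by
          have h3 := (normalizer (D : Set H)).mul_mem ((normalizer (D : Set H)).inv_mem hxD) haD
          rwa [inv_mul_cancel_left] at h3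
        have hy1 : y ≠ 1 := by
          rintro rfl
          apply haσ
          simpa using hx
        have h4 := Cfsg.Agent.Helper41.PQ.mem_zpowers_of_prime_order hF.ht hF.oτ hy hy1
        exact hτD ((zpowers_le.2 hyD) h4)
      have h3 := fpf_of_stab hℓ hs hV.2 hVinv hTinv hfixV D hD σ hσA hstab
        (by rw [hF.oσ]; exact hsℓ)
      exact ⟨central_mod_of_fpf hℓ hw hF.hs hwℓ hV hT hD hTV hVT hVD hVinv.1 hTinv.1 hσD hσs h3,
        h3⟩
  · -- trivial stabilizer: impossible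
    exfalso
    apply hVD
    rw [eq_bot_iff]
    intro v hv
    rw [mem_bot]
    refine eq_one_of_fixed_stab hℓ hs hV.2 hVinv hTinv hfixV D hD ⊥ bot_le ?_
      (by rw [Subgroup.card_bot]; exact Nat.coprime_one_left ℓ) hv ?_
    · intro a haA ha1 haD
      apply ha1
      rw [← hB]
      exact mem_inf.2 ⟨haA, haD⟩
    · intro c hc
      rw [mem_bot] at hc
      rw [hc]; group
  · -- the stabilizer is `⟨τ_i⟩`
    have hFi := Cfsg.Agent.Helper38.PQFA.frob_conj hF i
    have hbV : σ ^ i * τ * (σ ^ i)⁻¹ ∈ normalizer (V : Set H) :=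
      ((Cfsg.Agent.Helper38.PQFA.inv_conj_iff σ τ i V).2 hVinv).2
    have hbT : σ ^ i * τ * (σ ^ i)⁻¹ ∈ normalizer (T : Set H) :=
      ((Cfsg.Agent.Helper38.PQFA.inv_conj_iff σ τ i T).2 hTinv).2
    generalize hb : σ ^ i * τ * (σ ^ i)⁻¹ = b at hB hFi hbV hbT ⊢
    have hbB : b ∈ A ⊓ normalizer (D : Set H) := by rw [hB]; exact mem_zpowers b
    have hbA : b ∈ A := (mem_inf.1 hbB).1
    have hbD : b ∈ normalizer (D : Set H) := (mem_inf.1 hbB).2
    have hσD : σ ∉ normalizer (D : Set H) := by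
      intro hσD
      have h3 : σ ∈ zpowers b := by rw [← hB]; exact mem_inf.2 ⟨hσA, hσD⟩
      have h4 : orderOf σ ∣ orderOf b := orderOf_dvd_of_mem_zpowers h3
      rw [hF.oσ, hFi.oτ] at h4
      exact Cfsg.Agent.Helper38.PQFA.frob_ne hF ((Nat.prime_dvd_prime_iff_eq hF.hs hF.ht).1 h4)
    right
    refine ⟨hσD, i, ?_⟩
    rw [hb]
    have hstab : ∀ a ∈ A, a ∉ zpowers b → a ∉ normalizer (D : Set H) := by
      intro a haA hab haD
      apply hab
      rw [← hB]
      exact mem_inf.2 ⟨haA, haD⟩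
    have hbt : b ^ t = 1 := by rw [← hFi.oτ]; exact pow_orderOf_eq_one b
    have h3 := fpf_of_stab hℓ hs hV.2 hVinv hTinv hfixV D hD b hbA hstab
      (by rw [hFi.oτ]; exact htℓ)
    exact ⟨hbD,
      central_mod_of_fpf hℓ hw hF.ht hwℓ hV hT hD hTV hVT hVD hbV hbT hbD hbt h3, h3⟩


end Cfsg.Agent.Helper62.PQ
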