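/-
helper62: coprime action on a group all of whose Sylow subgroups are cyclic (Z-group):
`[G, A]` is cyclic, normal, `[G, A] ∩ C_G(A) = 1`, `G = [G, A] C_G(A)`, `C_G(A)` is a Hall subgroup.
Abstract action (`MulDistribMulAction A G`).
-/
import Mathlib

set_option autoImplicit false
set_option linter.unusedSectionVars false

namespace Cfsg.Agent.Helper62

open scoped Pointwise

section action

variable {G A : Type*} [Group G] [Group A] [MulDistribMulAction A G]

/-- `[G, A]` for an abstract action -/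
def commAct (G A : Type*) [Group G] [Group A] [MulDistribMulAction A G] : Subgroup G :=
  Subgroup.closure {y : G | ∃ (a : A) (g : G), y = g⁻¹ * a • g}

theorem mem_commAct (a : A) (g : G) : g⁻¹ * a • g ∈ commAct G A :=
  Subgroup.subset_closure ⟨a, g, rfl⟩

theorem commAct_conj_mem {y : G} (hy : y ∈ commAct G A) (h : G) : h * y * h⁻¹ ∈ commAct G A := by
  have hle : commAct G A ≤ (commAct G A).comap (MulAut.conj h).toMonoidHom := by
    unfold commAct
    rw [Subgroup.closure_le]
    rintro y ⟨a, g, rfl⟩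
    show (MulAut.conj h) (g⁻¹ * a • g) ∈ Subgroup.closure _
    rw [MulAut.conj_apply]
    have e : h * (g⁻¹ * a • g) * h⁻¹ =
        ((g * h⁻¹)⁻¹ * a • (g * h⁻¹)) * ((h⁻¹)⁻¹ * a • h⁻¹)⁻¹ := by
      simp only [smul_mul', smul_inv']
      group
    rw [e]
    exact Subgroup.mul_mem _ (mem_commAct a _) (Subgroup.inv_mem _ (mem_commAct a _))
  exact hle hy

instance commAct_normal : (commAct G A).Normal := ⟨fun _ hy h => commAct_conj_mem hy h⟩

theorem commAct_smul_mem {y : G} (hy : y ∈ commAct G A) (b : A) : b • y ∈ commAct G A := by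
  have hle : commAct G A ≤ (commAct G A).comap (MulDistribMulAction.toMonoidHom G b) := by
    unfold commAct
    rw [Subgroup.closure_le]
    rintro y ⟨a, g, rfl⟩
    show b • (g⁻¹ * a • g) ∈ Subgroup.closure _
    have e : b • (g⁻¹ * a • g) = (g⁻¹ * b • g)⁻¹ * (g⁻¹ * (b * a) • g) := by
      simp only [smul_mul', smul_inv', mul_smul]
      group
    rw [e]
    exact Subgroup.mul_mem _ (Subgroup.inv_mem _ (mem_commAct b _)) (mem_commAct (b * a) _)
  exact hle hy

theorem smul_mem_commutator {d : G} (hd : d ∈ commutator G) (a : A) : a • d ∈ commutator G := by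
  have h1 : (commutator G).map (MulDistribMulAction.toMonoidHom G a) ≤ commutator G := by
    rw [commutator_def, Subgroup.map_commutator]
    exact Subgroup.commutator_mono le_top le_top
  exact h1 ⟨d, hd, rfl⟩

/-- `[G, A]` centralizes the derived subgroup when the latter is cyclic -/
theorem commAct_le_centralizer_commutator [hcyc : IsCyclic (commutator G)] :
    commAct G A ≤ Subgroup.centralizer ((commutator G : Subgroup G) : Set G) := by
  unfold commAct
  rw [Subgroup.closure_le]
  rintro y ⟨a, x, rfl⟩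
  rw [SetLike.mem_coe, Subgroup.mem_centralizer_iff]
  intro d hd
  -- the two endomorphisms of `D`
  let cx : ↥(commutator G) →* ↥(commutator G) := (MulAut.conjNormal x).toMonoidHom
  let sa : ↥(commutator G) →* ↥(commutator G) :=
    ((MulDistribMulAction.toMonoidHom G a).comp (commutator G).subtype).codRestrict (commutator G)
      (fun d => smul_mem_commutator d.2 a)
  obtain ⟨m, hm⟩ := cx.map_cyclic
  obtain ⟨n, hn⟩ := sa.map_cyclic
  have hcx : ∀ e : ↥(commutator G), ((cx e : ↥(commutator G)) : G) = x * e * x⁻¹ := fun e => by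
    simp [cx]
  have hsa : ∀ e : ↥(commutator G), ((sa e : ↥(commutator G)) : G) = a • (e : G) := fun e => rfl
  obtain ⟨d₀, hd₀⟩ : ∃ d₀ : ↥(commutator G), a • (d₀ : G) = d :=
    ⟨⟨a⁻¹ • d, smul_mem_commutator hd a⁻¹⟩, by simp⟩
  have hcomm : sa (cx d₀) = cx (sa d₀) := by
    rw [hm, hn, hn, hm, ← zpow_mul, ← zpow_mul, mul_comm]
  have h1 := congrArg (fun e : ↥(commutator G) => (e : G)) hcomm
  simp only [hcx, hsa] at h1
  rw [hd₀, smul_mul', smul_mul', smul_inv', hd₀] at h1
  -- h1 : a • x * d * (a • x)⁻¹ = x * d * x⁻¹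
  calc d * (x⁻¹ * a • x) = x⁻¹ * (x * d * x⁻¹) * a • x := by group
    _ = x⁻¹ * (a • x * d * (a • x)⁻¹) * a • x := by rw [h1]
    _ = x⁻¹ * a • x * d := by group

theorem isNilpotent_of_le_centralizer_commutator (N : Subgroup G)
    (h : N ≤ Subgroup.centralizer ((commutator G : Subgroup G) : Set G)) :
    Group.IsNilpotent ↥N := by
  rw [Subgroup.nilpotent_iff_lowerCentralSeries]
  refine ⟨2, ?_⟩
  show ⁅⁅(⊤ : Subgroup ↥N), (⊤ : Subgroup ↥N)⁆, (⊤ : Subgroup ↥N)⁆ = ⊥
  apply le_antisymm _ bot_le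
  rw [Subgroup.commutator_le]
  intro w hw' z _
  have hwD : (w : G) ∈ commutator G := by
    have h1 : (⁅(⊤ : Subgroup ↥N), (⊤ : Subgroup ↥N)⁆ : Subgroup ↥N).map N.subtype ≤ commutator G := by
      rw [commutator_def, Subgroup.map_commutator]
      exact Subgroup.commutator_mono le_top le_top
    exact h1 ⟨w, hw', rfl⟩
  have hz : (z : G) ∈ Subgroup.centralizer ((commutator G : Subgroup G) : Set G) := h z.2
  have hcomm : (w : G) * (z : G) = (z : G) * (w : G) :=
    Subgroup.mem_centralizer_iff.mp hz _ hwD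
  rw [Subgroup.mem_bot, commutatorElement_eq_one_iff_mul_comm]
  exact Subtype.ext hcomm

theorem isCyclic_commAct [Finite G] [IsZGroup G] : IsCyclic ↥(commAct G A) := by
  have : IsCyclic (commutator G) := IsZGroup.isCyclic_commutator G
  have : Group.IsNilpotent ↥(commAct G A) :=
    isNilpotent_of_le_centralizer_commutator _ commAct_le_centralizer_commutator
  infer_instance

/-- the action of `a` restricted to `[G, A]` -/
def commActHom (a : A) : ↥(commAct G A) →* ↥(commAct G A) :=
  ((MulDistribMulAction.toMonoidHom G a).comp (commAct G A).subtype).codRestrict (commAct G A)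
    (fun y => commAct_smul_mem y.2 a)

theorem coe_commActHom (a : A) (y : ↥(commAct G A)) :
    ((commActHom a y : ↥(commAct G A)) : G) = a • (y : G) := rfl

theorem commActHom_mul (a b : A) (y : ↥(commAct G A)) :
    commActHom (a * b) y = commActHom a (commActHom b y) := by
  apply Subtype.ext
  simp only [coe_commActHom, mul_smul]

/-- **Coprime lifting of fixed points modulo `[G, A]`** when `[G, A]` is cyclic. -/
theorem exists_mul_mem_fixed [Finite G] [Finite A] [IsZGroup G]
    (hcop : (Nat.card A).Coprime (Nat.card G)) (g : G) :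
    ∃ m ∈ commAct G A, ∀ a : A, a • (g * m) = g * m := by
  classical
  have hNc : IsCyclic ↥(commAct G A) := isCyclic_commAct
  letI : CommGroup ↥(commAct G A) := IsCyclic.commGroup
  letI : Fintype A := Fintype.ofFinite A
  let ν : A → ↥(commAct G A) := fun b => ⟨g⁻¹ * b • g, mem_commAct b g⟩
  have hcoc : ∀ a b : A, ν (a * b) = ν a * commActHom a (ν b) := by
    intro a b
    apply Subtype.ext
    show g⁻¹ * (a * b) • g = (g⁻¹ * a • g) * a • (g⁻¹ * b • g)
    simp only [smul_mul', smul_inv', mul_smul]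
    group
  let T : ↥(commAct G A) := ∏ b, ν b
  have hT : ∀ a : A, T = ν a ^ (Fintype.card A) * commActHom a T := by
    intro a
    calc T = ∏ b, ν (a * b) := (Equiv.prod_comp (Equiv.mulLeft a) ν).symm
      _ = ∏ b, (ν a * commActHom a (ν b)) := by simp_rw [hcoc]
      _ = (∏ _b : A, ν a) * ∏ b, commActHom a (ν b) := Finset.prod_mul_distrib
      _ = ν a ^ (Fintype.card A) * commActHom a T := by
          rw [Finset.prod_const, Finset.card_univ, map_prod]
  have hcopN : (Nat.card ↥(commAct G A)).Coprime (Fintype.card A) := by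
    rw [← Nat.card_eq_fintype_card]
    exact (Nat.Coprime.coprime_dvd_right (Subgroup.card_dvd_of_le le_top |>.trans
      (by rw [Subgroup.card_top])) hcop).symm
  let pc := powCoprime hcopN
  obtain ⟨m₀, hm₀⟩ : ∃ m₀ : ↥(commAct G A), m₀ ^ (Fintype.card A) = T :=
    ⟨pc.symm T, pc.apply_symm_apply T⟩
  have hν : ∀ a : A, ν a = m₀ * (commActHom a m₀)⁻¹ := by
    intro a
    apply pc.injective
    show ν a ^ (Fintype.card A) = (m₀ * (commActHom a m₀)⁻¹) ^ (Fintype.card A)
    rw [mul_pow, inv_pow, ← map_pow, hm₀]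
    have := hT a
    rw [eq_mul_inv_iff_mul_eq]
    exact this.symm
  refine ⟨(m₀ : G), m₀.2, fun a => ?_⟩
  have h1 := congrArg (fun y : ↥(commAct G A) => (y : G)) (hν a)
  simp only [Subgroup.coe_mul, Subgroup.coe_inv, coe_commActHom] at h1
  -- h1 : g⁻¹ * a • g = m₀ * (a • m₀)⁻¹
  have h2 : a • g = g * ((m₀ : G) * (a • (m₀ : G))⁻¹) := by
    have : (ν a : G) = g⁻¹ * a • g := rfl
    rw [← h1, this]; group
  rw [smul_mul', h2]
  group

theorem closure_coe_preimage_commAct :
    Subgroup.closure (((↑) : ↥(commAct G A) → G) ⁻¹' {y : G | ∃ (a : A) (g : G),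
      y = g⁻¹ * a • g}) = ⊤ :=
  Subgroup.closure_closure_coe_preimage

/-- `[G, A] ∩ C_G(A) = 1` -/
theorem eq_one_of_mem_commAct_of_fixed [Finite G] [Finite A] [IsZGroup G]
    (hcop : (Nat.card A).Coprime (Nat.card G)) {x : G} (hxN : x ∈ commAct G A)
    (hx : ∀ a : A, a • x = x) : x = 1 := by
  classical
  have hNc : IsCyclic ↥(commAct G A) := isCyclic_commAct
  letI : CommGroup ↥(commAct G A) := IsCyclic.commGroup
  letI : Fintype A := Fintype.ofFinite A
  let τ : ↥(commAct G A) →* ↥(commAct G A) := ∏ b : A, commActHom b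
  have hτ : ∀ y, τ y = ∏ b : A, commActHom b y := fun y => MonoidHom.finsetProd_apply _ _ y
  have hτa : ∀ (a : A) (y : ↥(commAct G A)), τ (commActHom a y) = τ y := by
    intro a y
    rw [hτ, hτ]
    calc ∏ b : A, commActHom b (commActHom a y) = ∏ b : A, commActHom (b * a) y := by
          simp_rw [commActHom_mul]
      _ = ∏ b : A, commActHom b y :=
          Equiv.prod_comp (Equiv.mulRight a) (fun b => commActHom b y)
  -- `τ` kills the generators
  have hker : τ.ker = ⊤ := by
    rw [eq_top_iff, ← closure_coe_preimage_commAct, Subgroup.closure_le]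
    rintro ⟨y, hyN⟩ ⟨a, g, hy⟩
    have hy0 : y = g⁻¹ * a • g := hy
    rw [SetLike.mem_coe, MonoidHom.mem_ker]
    obtain ⟨m, hm, hfix⟩ := exists_mul_mem_fixed hcop g
    have hy' : y = m * (a • m)⁻¹ := by
      have h3 : a • (g * m) = g * m := hfix a
      rw [smul_mul'] at h3
      have h4 : a • g = g * m * (a • m)⁻¹ := by rw [← h3]; group
      rw [hy0, h4]; group
    have hy'' : (⟨y, hyN⟩ : ↥(commAct G A)) = ⟨m, hm⟩ * (commActHom a ⟨m, hm⟩)⁻¹ := by
      apply Subtype.ext
      simp only [Subgroup.coe_mul, Subgroup.coe_inv, coe_commActHom]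
      exact hy'
    rw [hy'', map_mul, map_inv, hτa, mul_inv_cancel]
  have hxτ : τ ⟨x, hxN⟩ = 1 := by
    have : (⟨x, hxN⟩ : ↥(commAct G A)) ∈ τ.ker := by rw [hker]; trivial
    exact this
  have hfixN : ∀ b : A, commActHom b ⟨x, hxN⟩ = ⟨x, hxN⟩ := fun b => Subtype.ext (hx b)
  rw [hτ] at hxτ
  simp_rw [hfixN] at hxτ
  rw [Finset.prod_const, Finset.card_univ] at hxτ
  have h1 : x ^ Fintype.card A = 1 := by
    have := congrArg (fun y : ↥(commAct G A) => (y : G)) hxτ
    simpa using this
  have h2 : orderOf x ∣ Nat.card A := by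
    rw [Nat.card_eq_fintype_card]; exact orderOf_dvd_of_pow_eq_one h1
  have h3 : orderOf x ∣ Nat.card G := orderOf_dvd_natCard x
  exact orderOf_eq_one_iff.mp (Nat.eq_one_of_dvd_coprimes hcop h2 h3)

/-- in a cyclic group, an element of order `p` generates every element killed by `p` -/
theorem mem_zpowers_of_pow_prime_eq_one {S : Type*} [Group S] [Finite S] [IsCyclic S] {p : ℕ}
    (hp : p.Prime) {c u : S} (hc : orderOf c = p) (hu : u ^ p = 1) : u ∈ Subgroup.zpowers c := by
  letI : CommGroup S := IsCyclic.commGroup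
  have h1 : Nat.card (powMonoidHom p : S →* S).ker = (Nat.card S).gcd p :=
    IsCyclic.card_powMonoidHom_ker S p
  have hcker : Subgroup.zpowers c ≤ (powMonoidHom p : S →* S).ker := by
    rw [Subgroup.zpowers_le, MonoidHom.mem_ker, powMonoidHom_apply, ← hc, pow_orderOf_eq_one]
  have h2 : Nat.card (Subgroup.zpowers c) = p := by rw [Nat.card_zpowers, hc]
  have h3 : Nat.card (powMonoidHom p : S →* S).ker ≤ p := by
    rw [h1]; exact Nat.le_of_dvd hp.pos (Nat.gcd_dvd_right _ _)
  have h4 : Subgroup.zpowers c = (powMonoidHom p : S →* S).ker :=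
    Subgroup.eq_of_le_of_card_ge hcker (by rw [h2]; exact h3)
  rw [h4, MonoidHom.mem_ker, powMonoidHom_apply]
  exact hu

/-- `C_G(A)` and `[G, A]` have coprime orders -/
theorem coprime_card_fixed_commAct [Finite G] [Finite A] [IsZGroup G]
    (hcop : (Nat.card A).Coprime (Nat.card G)) :
    (Nat.card (FixedPoints.subgroup A G)).Coprime (Nat.card (commAct G A)) := by
  by_contra hnc
  obtain ⟨p, hp, hpC, hpN⟩ := Nat.Prime.not_coprime_iff_dvd.mp hnc
  have : Fact p.Prime := ⟨hp⟩
  obtain ⟨c, hc⟩ := exists_prime_orderOf_dvd_card' p hpC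
  obtain ⟨u, hu⟩ := exists_prime_orderOf_dvd_card' p hpN
  rw [← Subgroup.orderOf_coe] at hc hu
  have hcp : IsPGroup p (Subgroup.zpowers (c : G)) := by
    apply IsPGroup.of_card (n := 1); rw [Nat.card_zpowers, hc, pow_one]
  have hup : IsPGroup p (Subgroup.zpowers (u : G)) := by
    apply IsPGroup.of_card (n := 1); rw [Nat.card_zpowers, hu, pow_one]
  obtain ⟨S, hS⟩ := hcp.exists_le_sylow
  obtain ⟨S₂, hS₂⟩ := hup.exists_le_sylow
  obtain ⟨g, hg⟩ := MulAction.exists_smul_eq G S₂ S
  have huS : g * (u : G) * g⁻¹ ∈ (S : Subgroup G) := by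
    rw [← hg, Sylow.coe_subgroup_smul, Subgroup.mem_smul_pointwise_iff_exists]
    exact ⟨(u : G), hS₂ (Subgroup.mem_zpowers _), by rw [MulAut.smul_def, MulAut.conj_apply]⟩
  have hcS : (c : G) ∈ (S : Subgroup G) := hS (Subgroup.mem_zpowers _)
  have huN : g * (u : G) * g⁻¹ ∈ commAct G A := commAct_conj_mem u.2 g
  have huord : (g * (u : G) * g⁻¹) ^ p = 1 := by
    rw [conj_pow, ← hu, pow_orderOf_eq_one]; group
  have hmem : (⟨g * (u : G) * g⁻¹, huS⟩ : ↥(S : Subgroup G)) ∈
      Subgroup.zpowers (⟨(c : G), hcS⟩ : ↥(S : Subgroup G)) := by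
    apply mem_zpowers_of_pow_prime_eq_one hp
    · rw [← Subgroup.orderOf_coe]; exact hc
    · apply Subtype.ext; rw [Subgroup.coe_pow]; exact huord
  obtain ⟨k, hk⟩ := Subgroup.mem_zpowers_iff.mp hmem
  have hk' : (c : G) ^ k = g * (u : G) * g⁻¹ := by
    have := congrArg (fun y : ↥(S : Subgroup G) => (y : G)) hk
    simpa using this
  have hfix : ∀ a : A, a • (g * (u : G) * g⁻¹) = g * (u : G) * g⁻¹ := by
    intro a
    rw [← hk']
    have : (c : G) ^ k ∈ FixedPoints.subgroup A G := Subgroup.zpow_mem _ c.2 k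
    exact (FixedPoints.mem_subgroup A (α := G) _).mp this a
  have h1 := eq_one_of_mem_commAct_of_fixed hcop huN hfix
  have h2 : (u : G) = 1 := by
    have : (u : G) = g⁻¹ * (g * (u : G) * g⁻¹) * g := by group
    rw [this, h1]; group
  rw [h2, orderOf_one] at hu
  exact hp.one_lt.ne hu

end action

end Cfsg.Agent.Helper62
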