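import Mathlib
import Cfsg.Agent.Helper52.PQDefs
import Cfsg.Agent.Helper1.Hol
import Cfsg.Agent.S3765

/-!
# Piece (HH) of helper52's plan for S4306, by helper62

Hall–Higman–Shult wrapper of S3765: `b` of prime order `r` normalizing the `w`-group `Q` and the
elementary abelian `ℓ`-group `W` (normalized by `Q`), without fixed points on `W`, outside the
Fermat exception: then `[Q, b]` centralizes `W`.  S3765 is applied in the holomorph of `W`
(helper1's `Hol` library) with ambient group `N_H(W)`; generalizes `Helper62/ShultS.lean`.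
-/

set_option autoImplicit false

namespace Cfsg.Agent.Helper62.PQ

open Subgroup Cfsg.Agent.Helper1.Shult Cfsg.Agent.Helper52.PQ Cfsg.Agent.Helper1.Hol

variable {H : Type*} [Group H] [Finite H]

/-- if `[Q, b]` does not centralize `V` then `b` has a nontrivial fixed point on `V` -/
theorem prime_fixed_point {q r p : ℕ} [Fact q.Prime] [Fact r.Prime] (hp : p.Prime)
    (hqr : q ≠ r) (hrp : r ≠ p) (hqp : q ≠ p) (σ : H) (hσ : orderOf σ = p) (Q V : Subgroup H)
    (hQ : IsPGroup q Q) (hV : IsEA r V) (hσQ : σ ∈ normalizer (Q : Set H))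
    (hσV : σ ∈ normalizer (V : Set H)) (hQV : Q ≤ normalizer (V : Set H))
    (hexc : q = 2 → ¬ ∃ n : ℕ, p = 2 ^ n + 1)
    (hact : ∃ x ∈ Q, x⁻¹ * (σ * x * σ⁻¹) ∉ centralizer (V : Set H)) :
    ∃ v ∈ V, v ≠ 1 ∧ σ * v * σ⁻¹ = v := by
  obtain ⟨x, hxQ, hx⟩ := hact
  haveI : Fact p.Prime := ⟨hp⟩
  -- ambient group `N = N_H(V)`, in which `V` is normal
  set N : Subgroup H := normalizer (V : Set H) with hN
  set V1 : Subgroup ↥N := V.subgroupOf N with hV1
  haveI hV1n : V1.Normal := normal_in_normalizer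
  set Q1 : Subgroup ↥N := Q.subgroupOf N with hQ1
  set σ1 : ↥N := ⟨σ, hσV⟩ with hσ1
  set x1 : ↥N := ⟨x, hQV hxQ⟩ with hx1
  have hVN : V ≤ N := le_normalizer
  have hker : ∀ g : ↥N, pi V1 g = 1 → (g : H) ∈ centralizer (V : Set H) := by
    intro g hg
    have h1 : g ∈ (pi V1).ker := hg
    rw [ker_pi, mem_centralizer_iff] at h1
    rw [mem_centralizer_iff]
    intro v hv
    have h2 := h1 ⟨v, hVN hv⟩ (by rw [SetLike.mem_coe, hV1, mem_subgroupOf]; exact hv)
    exact congrArg Subtype.val h2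
  have hσp : σ1 ^ p = 1 := by
    apply Subtype.ext
    rw [SubgroupClass.coe_pow, ← hσ]
    exact pow_orderOf_eq_one σ
  have hπσp : (pi V1 σ1) ^ p = 1 := by rw [← map_pow, hσp, map_one]
  have hnc : pi V1 σ1 * pi V1 x1 ≠ pi V1 x1 * pi V1 σ1 := by
    intro hc
    apply hx
    have h1 : pi V1 (x1⁻¹ * (σ1 * x1 * σ1⁻¹)) = 1 := by
      rw [map_mul, map_mul, map_mul, map_inv, map_inv, hc]
      group
    exact hker _ h1
  have hπσ1 : pi V1 σ1 ≠ 1 := by
    intro h1
    apply hnc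
    rw [h1, one_mul, mul_one]
  have hord : orderOf (pi V1 σ1) = p := orderOf_eq_prime hπσp hπσ1
  set X' : Subgroup (HolG V1) := (zpowers σ1).map (pi V1) with hX'
  set Q' : Subgroup (HolG V1) := Q1.map (pi V1) with hQ'
  have hX'z : X' = zpowers (pi V1 σ1) := by
    rw [hX', MonoidHom.map_zpowers]
  have hXcard : Nat.card X' = p := by
    rw [hX'z, Nat.card_zpowers, hord]
  have hQ1p : IsPGroup q Q1 := by
    rw [hQ1]
    exact hQ.comap_of_injective N.subtype N.subtype_injective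
  have hQ'p : IsPGroup q Q' := hQ1p.map (pi V1)
  have hσ1Q1 : σ1 ∈ normalizer (Q1 : Set ↥N) := by
    rw [mem_normalizer_iff]
    intro y
    rw [hQ1, mem_subgroupOf, mem_subgroupOf]
    exact (mem_normalizer_iff.1 hσQ) (y : H)
  have hXQ : X' ≤ normalizer (Q' : Set (HolG V1)) := by
    rw [hX'z, zpowers_le]
    exact le_normalizer_map (pi V1) ⟨σ1, hσ1Q1, rfl⟩
  have hXfaith : X' ⊓ centralizer (Q' : Set (HolG V1)) = ⊥ := by
    by_contra hne
    have hle : X' ≤ centralizer (Q' : Set (HolG V1)) := by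
      have h1 : X' ⊓ centralizer (Q' : Set (HolG V1)) = X' := by
        have hdvd : Nat.card ↥(X' ⊓ centralizer (Q' : Set (HolG V1))) ∣ p := by
          rw [← hXcard]
          exact card_dvd_of_le inf_le_left
        rcases (Nat.dvd_prime hp).1 hdvd with h1 | h3
        · exact absurd (card_eq_one.1 h1) hne
        · apply eq_of_le_of_card_ge inf_le_left
          rw [h3, hXcard]
      rw [← h1]
      exact inf_le_right
    have h2 : pi V1 σ1 ∈ centralizer (Q' : Set (HolG V1)) :=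
      hle (by rw [hX'z]; exact mem_zpowers _)
    have h3 := mem_centralizer_iff.1 h2 (pi V1 x1)
      ⟨x1, by rw [SetLike.mem_coe, hQ1, mem_subgroupOf]; exact hxQ, rfl⟩
    exact hnc h3.symm
  have hV1ea : Cfsg.IsElementaryAbelian r V1 := by
    refine ⟨⟨⟨?_⟩⟩, ?_⟩
    · rintro ⟨a, ha⟩ ⟨b, hb⟩
      apply Subtype.ext
      apply Subtype.ext
      exact hV.1 (a : H) (mem_subgroupOf.1 ha) (b : H) (mem_subgroupOf.1 hb)
    · intro a ha
      apply Subtype.ext
      rw [SubgroupClass.coe_pow]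
      exact hV.2 (a : H) (mem_subgroupOf.1 ha)
  have hVVea : Cfsg.IsElementaryAbelian r (VV V1) := VV_elemAb V1 hV1ea
  have hVne : V ≠ ⊥ := by
    intro hVb
    apply hx
    rw [hVb, mem_centralizer_iff]
    intro v hv
    rw [SetLike.mem_coe, mem_bot] at hv
    rw [hv, one_mul, mul_one]
  have hVV1 : VV V1 ≠ ⊥ := by
    intro hb
    have h1 : Nat.card (VV V1) = 1 := by rw [hb]; exact card_bot
    rw [card_VV, hV1, Cfsg.Agent.Helper1.Hol.card_subgroupOf_of_le N hVN] at h1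
    exact hVne (card_eq_one.1 h1)
  have hXV : X' ≤ normalizer (VV V1 : Set (HolG V1)) := map_le_normalizer V1 _
  have hQV' : Q' ≤ normalizer (VV V1 : Set (HolG V1)) := map_le_normalizer V1 _
  have hfaith : (X' ⊔ Q') ⊓ centralizer (VV V1 : Set (HolG V1)) = ⊥ := by
    rw [eq_bot_iff, ← range_inf_centralizer V1]
    refine inf_le_inf_right _ (sup_le ?_ ?_)
    · rw [MonoidHom.range_eq_map]; exact map_mono le_top
    · rw [MonoidHom.range_eq_map]; exact map_mono le_top
  have hrp' : r.Prime := Fact.out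
  have hqp' : q.Prime := Fact.out
  have hres := Cfsg.Agent.S3765.result (G := HolG V1) (p := r) (q := q) (r := p) hrp' hqp' hp
    hqr.symm hrp hqp X' Q' (VV V1) hXcard hQ'p hXQ hXfaith hVVea hVV1 hXV hQV' hfaith
    (fun h2 h3 => absurd h3 (hexc h2))
  have hcard : Nat.card ↥(V1 ⊓ centralizer ((zpowers σ1 : Subgroup ↥N) : Set ↥N)) ≠ 1 := by
    rw [← card_VV_inf_centralizer_map V1 (zpowers σ1)]
    intro h1
    exact hres (card_eq_one.1 h1)
  have hne : V1 ⊓ centralizer ((zpowers σ1 : Subgroup ↥N) : Set ↥N) ≠ ⊥ := by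
    intro hb
    apply hcard
    rw [hb]
    exact card_bot
  obtain ⟨⟨v, hv⟩, hv1'⟩ := (Subgroup.ne_bot_iff_exists_ne_one).1 hne
  have hv1 : v ≠ 1 := fun h => hv1' (Subtype.ext h)
  refine ⟨(v : H), mem_subgroupOf.1 hv.1, fun h => hv1 (Subtype.ext h), ?_⟩
  have hc := mem_centralizer_iff.1 hv.2 σ1 (mem_zpowers σ1)
  have hc' : σ * (v : H) = (v : H) * σ := congrArg Subtype.val hc
  rw [hc', mul_inv_cancel_right]

/-- (HH) Hall–Higman–Shult wrapper of S3765 -/
theorem hhs_q {ℓ w r : ℕ} [Fact ℓ.Prime] [Fact w.Prime] (hr : r.Prime) (hwℓ : w ≠ ℓ)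
    (hℓr : ℓ ≠ r) (hwr : w ≠ r) (b : H) (hb : orderOf b = r) (Q W : Subgroup H)
    (hQ : IsPGroup w Q) (hW : IsEA ℓ W) (hbQ : b ∈ normalizer (Q : Set H))
    (hbW : b ∈ normalizer (W : Set H)) (hQW : Q ≤ normalizer (W : Set H))
    (hfix : W ⊓ centralizer {b} = ⊥) (hexc : w = 2 → ¬ ∃ n : ℕ, r = 2 ^ n + 1) :
    ∀ g ∈ Q, g⁻¹ * (b * g * b⁻¹) ∈ centralizer (W : Set H) := by
  intro g hg
  by_contra hcon
  obtain ⟨v, hvW, hv1, hbv⟩ := prime_fixed_point hr hwℓ hℓr hwr b hb Q W hQ hW hbQ hbW hQW hexc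
    ⟨g, hg, hcon⟩
  apply hv1
  have h1 : v ∈ W ⊓ centralizer {b} := by
    refine mem_inf.2 ⟨hvW, ?_⟩
    rw [mem_centralizer_iff]
    intro y hy
    rw [Set.mem_singleton_iff] at hy
    rw [hy]
    calc b * v = b * v * b⁻¹ * b := by group
      _ = v * b := by rw [hbv]
  rw [hfix, mem_bot] at h1
  exact h1

end Cfsg.Agent.Helper62.PQ
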