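-- helper62: structural form of S1448 (BG 4.18(b)) in terms of `Ω₁(R)` and its centralizer.
import Cfsg.Agent.S1448

set_option autoImplicit false
open Cfsg

namespace Cfsg.Agent.Helper62.RankTwoKey

open scoped commutatorElement
open Cfsg.Agent.Helper62.RankTwoBad

/-- Under the hypotheses of S1448, if `R` is not abelian then `Ω₁(R)` is non-abelian of order `p³` and exponent `p`,
and `R = Ω₁(R) * C_R(Ω₁(R))` (all inside the type `↥R`). -/
theorem key {G : Type*} [Group G] [Finite G] (p : ℕ) [Fact p.Prime] (hp : p ≠ 2) (R A : Subgroup G)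
    (hR : IsPGroup p R) (hR1 : R ≠ ⊥) (hr : Cfsg.PRankLE p 2 R)
    (hA : (A ≤ Subgroup.normalizer (R : Set G))) (hcop : (Nat.card A).Coprime p) (hAodd : Odd (Nat.card A))
    (hRA : ⁅R, A⁆ = R) (hnab : ¬ IsMulCommutative R) :
    Base p ↥R ∧ om p ↥R ⊔ cc p ↥R = ⊤ := by
  classical
  have hpp : p.Prime := Fact.out
  have hp3 : 3 < p := (Cfsg.Agent.S1448.result p hp R A hR hR1 hr hA hcop hAodd hRA).1
  let φ : A →* MulAut R := (Subgroup.normalizerMonoidHom R).comp (Subgroup.inclusion hA)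
  have hφ : ∀ (a : A) (r : R), ((φ a r : R) : G) = a * r * (a : G)⁻¹ := fun _ _ => rfl
  have hTexp : ∀ t ∈ om p R, t ^ p = 1 := by
    intro t ht
    exact Cfsg.Agent.S0128.result hp3 hR (fun E hE => hr E hE.1 hE.2) t ht
  have hrT : Cfsg.PRankLE p 2 ↥(om p R) := by
    intro B hB hBe
    have h1 := hr (B.map (om p R).subtype) (Subgroup.map_isMulCommutative B _) (by
      rintro _ ⟨b, hb, rfl⟩
      have := hBe b hb
      simpa using congrArg Subtype.val this)
    rwa [Subgroup.card_map_of_injective (Subgroup.subtype_injective _)] at h1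
  have hTcard : Nat.card (om p R) ≤ p ^ 3 :=
    Cfsg.Agent.S3771.result (hR.to_subgroup _) hrT (fun x => Subtype.ext (by simpa using hTexp x x.2))
  have hbig : ¬ Nat.card (om p R) ≤ p ^ 2 := by
    intro hsmall
    apply hnab
    have hom : Cfsg.omegaOne p (⊤ : Subgroup R) = om p R := by
      unfold Cfsg.omegaOne om
      congr 1
      ext x
      simp
    have hm : Cfsg.IsMetacyclic R := Cfsg.Agent.S0639.result hp3 hR (by rw [hom]; exact hsmall)
    have h1 := (Cfsg.Agent.S1447.result p hp R A hR hm hA hcop).1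
    rw [hRA] at h1
    exact h1
  push Not at hbig
  obtain ⟨k, hk⟩ := IsPGroup.iff_card.mp (hR.to_subgroup (om p R))
  have hk3 : k = 3 := by
    rw [hk] at hbig hTcard
    have h1 : 2 < k := (Nat.pow_lt_pow_iff_right hpp.one_lt).mp hbig
    have h2 : k ≤ 3 := (Nat.pow_le_pow_iff_right hpp.one_lt).mp hTcard
    omega
  rw [hk3] at hk
  have hnonab : ∃ x ∈ om p R, ∃ y ∈ om p R, x * y ≠ y * x := by
    by_contra hcon
    push Not at hcon
    have hc : IsMulCommutative ↥(om p R) :=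
      ⟨⟨fun a b => Subtype.ext (hcon a a.2 b b.2)⟩⟩
    have := hr (om p R) hc hTexp
    rw [hk] at this
    have : p ^ 2 < p ^ 3 := Nat.pow_lt_pow_right hpp.one_lt (by norm_num)
    omega
  have hbase : Base p R := ⟨hR, hp, hTexp, hk, hnonab⟩
  refine ⟨hbase, ?_⟩
  by_contra hgood
  have hbad : Bad p R := ⟨hbase, hgood⟩
  obtain ⟨hMtop, hM⟩ := hbad.main
  apply hMtop
  have hle : ⁅R, A⁆ ≤ (mm p R).map R.subtype := by
    rw [Subgroup.commutator_le]
    intro r hr' a ha
    have hodd : Odd (orderOf a) := by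
      have h1 : orderOf a ∣ Nat.card A := by
        have := orderOf_dvd_natCard (⟨a, ha⟩ : A)
        rwa [Subgroup.orderOf_mk] at this
      exact Odd.of_dvd_nat hAodd h1
    obtain ⟨n, hn⟩ := hodd
    set β : A := ⟨a, ha⟩ ^ (n + 1) with hβ
    have hββ : β * β = ⟨a, ha⟩ := by
      apply Subtype.ext
      rw [hβ]
      simp only [Subgroup.coe_mul, Subgroup.coe_pow]
      rw [← pow_add, show n + 1 + (n + 1) = orderOf a + 1 by omega, pow_succ, pow_orderOf_eq_one, one_mul]
    have h1 := hM (φ β) ⟨r⁻¹, R.inv_mem hr'⟩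
    refine ⟨_, h1, ?_⟩
    have h2 : φ β (φ β ⟨r⁻¹, R.inv_mem hr'⟩) = φ ⟨a, ha⟩ ⟨r⁻¹, R.inv_mem hr'⟩ := by
      rw [← hββ, map_mul]
      rfl
    rw [h2]
    simp only [Subgroup.subtype_apply, Subgroup.coe_mul, Subgroup.coe_inv, hφ, inv_inv]
    rw [commutatorElement_def]
    group
  rw [hRA] at hle
  rw [eq_top_iff]
  intro x _
  obtain ⟨m, hm, hmx⟩ := hle x.2
  have : m = x := Subtype.ext hmx
  rw [← this]
  exact hm

end Cfsg.Agent.Helper62.RankTwoKey
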