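import Mathlib
import Cfsg.Agent.Helper54.ShultB2Defs
import Cfsg.Agent.Helper60.WardW2
import Cfsg.Agent.Helper60.ShultO

/-!
# Piece (B2b) = Step 3 of (B2) `lemmaB_case2` of helper1's plan for Shult's theorem (S4305)

Written by helper62 for helper54 (board #4718).  Given the output `B2Str` of Steps 1-2 and the
general hyperplane lemma `HypFacts` as a hypothesis, the minimal configuration `BCfg` is
contradictory.
-/

set_option autoImplicit false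

namespace Cfsg.Agent.Helper62.ShultB2b

open Subgroup Cfsg.Agent.Helper1.Shult Cfsg.Agent.Helper54.ShultB2 Cfsg.Agent.Helper60.Shult

variable {H : Type*} [Group H]

/-- the conjugate subgroup `g X g⁻¹` -/
abbrev cj (g : H) (X : Subgroup H) : Subgroup H := X.map (MulAut.conj g).toMonoidHom

theorem mem_cj {g y : H} {X : Subgroup H} : y ∈ cj g X ↔ g⁻¹ * y * g ∈ X := by
  rw [mem_map]
  constructor
  · rintro ⟨x, hx, rfl⟩
    show g⁻¹ * (g * x * g⁻¹) * g ∈ X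
    have h1 : g⁻¹ * (g * x * g⁻¹) * g = x := by group
    rw [h1]
    exact hx
  · intro h
    refine ⟨g⁻¹ * y * g, h, ?_⟩
    show g * (g⁻¹ * y * g) * g⁻¹ = y
    group

theorem conj_mem_cj {g x : H} {X : Subgroup H} (hx : x ∈ X) : g * x * g⁻¹ ∈ cj g X :=
  mem_map.2 ⟨x, hx, rfl⟩

theorem cj_le_cj {g : H} {X Y : Subgroup H} (h : X ≤ Y) : cj g X ≤ cj g Y := map_mono h

theorem cj_cj (g h : H) (X : Subgroup H) : cj g (cj h X) = cj (g * h) X := by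
  ext y
  rw [mem_cj, mem_cj, mem_cj]
  have h1 : h⁻¹ * (g⁻¹ * y * g) * h = (g * h)⁻¹ * y * (g * h) := by group
  rw [h1]

theorem cj_one (X : Subgroup H) : cj 1 X = X := by
  ext y
  rw [mem_cj]
  simp

theorem cj_eq_of_mem_normalizer {g : H} {X : Subgroup H} (hg : g ∈ normalizer (X : Set H)) :
    cj g X = X := by
  ext y
  rw [mem_cj]
  have h1 := mem_normalizer_iff.1 (inv_mem hg) y
  rw [inv_inv] at h1
  exact h1.symm

theorem le_cj_iff_of_mem_normalizer {x : H} {X D : Subgroup H}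
    (hx : x ∈ normalizer (X : Set H)) : X ≤ cj x D ↔ X ≤ D := by
  constructor
  · intro h u hu
    have h1 : x * u * x⁻¹ ∈ X := (mem_normalizer_iff.1 hx u).1 hu
    have h2 := h h1
    rw [mem_cj] at h2
    have h3 : x⁻¹ * (x * u * x⁻¹) * x = u := by group
    rwa [h3] at h2
  · intro h u hu
    rw [mem_cj]
    have h1 := (mem_normalizer_iff.1 (inv_mem hx) u).1 hu
    rw [inv_inv] at h1
    exact h h1

theorem normalizer_cj (a : H) {g : H} {D : Subgroup H} (hg : g ∈ normalizer (D : Set H)) :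
    a * g * a⁻¹ ∈ normalizer ((cj a D : Subgroup H) : Set H) := by
  have h1 := map_equiv_normalizer_eq D (MulAut.conj a)
  rw [← h1]
  exact mem_map.2 ⟨g, hg, rfl⟩

theorem normalizer_cj_inv {a g : H} {D : Subgroup H}
    (hg : g ∈ normalizer ((cj a D : Subgroup H) : Set H)) :
    a⁻¹ * g * a ∈ normalizer (D : Set H) := by
  have h1 := normalizer_cj a⁻¹ hg
  rw [cj_cj, inv_mul_cancel, cj_one, inv_inv] at h1
  exact h1

/-- elements of `N(Q)` acting trivially on `Q` modulo `D` -/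
def SD (Q D : Subgroup H) : Subgroup H where
  carrier := {g | g ∈ normalizer (Q : Set H) ∧ ∀ v ∈ Q, v⁻¹ * (g * v * g⁻¹) ∈ D}
  one_mem' := ⟨one_mem _, fun v _ => by simp⟩
  mul_mem' := by
    rintro g h ⟨hgN, hg⟩ ⟨hhN, hh⟩
    refine ⟨mul_mem hgN hhN, fun v hv => ?_⟩
    have hw : h * v * h⁻¹ ∈ Q := (mem_normalizer_iff.1 hhN v).1 hv
    have h1 := hh v hv
    have h2 := hg _ hw
    have h3 : v⁻¹ * (g * h * v * (g * h)⁻¹) =
        (v⁻¹ * (h * v * h⁻¹)) * ((h * v * h⁻¹)⁻¹ * (g * (h * v * h⁻¹) * g⁻¹)) := by group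
    rw [h3]
    exact mul_mem h1 h2
  inv_mem' := by
    rintro g ⟨hgN, hg⟩
    refine ⟨inv_mem hgN, fun v hv => ?_⟩
    have hw : g⁻¹ * v * g⁻¹⁻¹ ∈ Q := (mem_normalizer_iff.1 (inv_mem hgN) v).1 hv
    have h2 := hg _ hw
    have h3 : v⁻¹ * (g⁻¹ * v * g⁻¹⁻¹) =
        ((g⁻¹ * v * g⁻¹⁻¹)⁻¹ * (g * (g⁻¹ * v * g⁻¹⁻¹) * g⁻¹))⁻¹ := by group
    rw [h3]
    exact inv_mem h2

theorem mem_SD {Q D : Subgroup H} {g : H} :
    g ∈ SD Q D ↔ g ∈ normalizer (Q : Set H) ∧ ∀ v ∈ Q, v⁻¹ * (g * v * g⁻¹) ∈ D := Iff.rfl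

theorem SD_conj {Q D : Subgroup H} {x g : H} (hx : x ∈ normalizer (Q : Set H))
    (hg : g ∈ SD Q (cj x D)) : x⁻¹ * g * x ∈ SD Q D := by
  obtain ⟨hgN, hg⟩ := mem_SD.1 hg
  refine mem_SD.2 ⟨mul_mem (mul_mem (inv_mem hx) hgN) hx, fun v hv => ?_⟩
  have hv' : x * v * x⁻¹ ∈ Q := (mem_normalizer_iff.1 hx v).1 hv
  have h1 := hg _ hv'
  rw [mem_cj] at h1
  have h2 : v⁻¹ * (x⁻¹ * g * x * v * (x⁻¹ * g * x)⁻¹) =
      x⁻¹ * ((x * v * x⁻¹)⁻¹ * (g * (x * v * x⁻¹) * g⁻¹)) * x := by group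
  rw [h2]
  exact h1

/-- the `S₃` identity `τ τ₂ τ⁻¹ = τ₁` -/
theorem s3_identity {σ τ : H} (h : S3Pair σ τ) :
    τ * (σ ^ 2 * τ * σ⁻¹ ^ 2) * τ⁻¹ = σ ^ 1 * τ * σ⁻¹ ^ 1 := by
  have hσ3 : σ ^ 3 = 1 := by rw [← h.oσ]; exact pow_orderOf_eq_one σ
  have k1 : σ ^ 2 * σ = 1 := by rw [← pow_succ]; exact hσ3
  have k2 : σ⁻¹ ^ 2 = σ := by rw [inv_pow]; exact inv_eq_of_mul_eq_one_right k1
  have k3 : σ ^ 2 = σ⁻¹ := eq_inv_of_mul_eq_one_left k1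
  rw [k2, k3, pow_one, pow_one]
  calc τ * (σ⁻¹ * τ * σ) * τ⁻¹ = (τ * σ * τ⁻¹)⁻¹ * τ * (τ * σ * τ⁻¹) := by group
    _ = σ * τ * σ⁻¹ := by rw [h.rel, inv_inv]

/-- an element of odd prime exponent lies in `D` as soon as its inverse square does -/
theorem mem_of_inv_sq_mem {q : ℕ} (hq : q.Prime) (hq2 : q ≠ 2) {w : H} (hw : w ^ q = 1)
    {D : Subgroup H} (h : w⁻¹ * w⁻¹ ∈ D) : w ∈ D := by
  have h1 : w * w ∈ D := by
    have h2 := inv_mem h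
    rwa [mul_inv_rev, inv_inv] at h2
  obtain ⟨k, hk⟩ : ∃ k, q = 2 * k + 1 := by
    rcases hq.eq_two_or_odd' with h2 | h2
    · exact absurd h2 hq2
    · exact h2
  have h3 : w = (w * w) ^ (k + 1) := by
    rw [← pow_two, ← pow_mul, show 2 * (k + 1) = q + 1 by omega, pow_succ, hw, one_mul]
  rw [h3]
  exact pow_mem h1 _

section main

variable [Finite H] {p q r : ℕ} [Fact p.Prime] [Fact q.Prime] [Fact r.Prime] {σ τ : H}
  {P Q W CP E0 E1 Q0 Q1 Q2 : Subgroup H}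

/-- the hyperplanes of `Q` with nontrivial fixed points on `W` -/
abbrev CalD (q : ℕ) (Q W D : Subgroup H) : Prop :=
  IsHyp q Q ⊥ D ∧ W ⊓ centralizer (D : Set H) ≠ ⊥

theorem calD_conj {D : Subgroup H} (hD : CalD q Q W D) (g : H)
    (hgQ : g ∈ normalizer (Q : Set H)) (hgW : g ∈ normalizer (W : Set H)) :
    CalD q Q W (cj g D) := by
  have hbot : g ∈ normalizer (((⊥ : Subgroup H) : Subgroup H) : Set H) := by
    rw [mem_normalizer_iff]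
    intro h
    rw [mem_bot, mem_bot]
    constructor
    · intro h1; rw [h1]; group
    · intro h1
      have h2 : h = g⁻¹ * (g * h * g⁻¹) * g := by group
      rw [h2, h1]; group
  refine ⟨isHyp_conj hD.1 g hgQ hbot, ?_⟩
  intro hb
  apply hD.2
  rw [eq_bot_iff]
  intro v hv
  have h1 := (fix_conj W D g hgW v).1 hv
  rw [hb, mem_bot] at h1
  rw [mem_bot]
  have h2 : v = g⁻¹ * (g * v * g⁻¹) * g := by group
  rw [h2, h1]; group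

theorem hQ1' (s : B2Str σ τ P Q CP E0 E1 Q0 Q1 Q2) : Q1 = cj (σ ^ 1) Q0 := by
  rw [pow_one]; exact s.hQ01

theorem hQ2' (s : B2Str σ τ P Q CP E0 E1 Q0 Q1 Q2) : Q2 = cj (σ ^ 2) Q0 := by
  rw [pow_two, ← cj_cj]
  have h1 := s.hQ12
  rw [s.hQ01] at h1
  exact h1

theorem Q0_le_Q (s : B2Str σ τ P Q CP E0 E1 Q0 Q1 Q2) : Q0 ≤ Q := by
  rw [s.hQ0]; exact inf_le_left

/-- (2)[a] -/
theorem lemA (c : BCfg p q r σ τ P Q W CP) (s : B2Str σ τ P Q CP E0 E1 Q0 Q1 Q2)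
    (hG : ∀ D : Subgroup H, IsHyp q Q ⊥ D → W ⊓ centralizer (D : Set H) ≠ ⊥ →
      HypFacts σ τ W Q D)
    {D : Subgroup H} (hD : CalD q Q W D) (i : ℕ) (hσ : σ ∉ normalizer (D : Set H))
    (hτ : σ ^ i * τ * σ⁻¹ ^ i ∈ normalizer (D : Set H)) : cj (σ ^ i) Q0 ≤ D := by
  intro u hu
  obtain ⟨u0, hu0, rfl⟩ := mem_map.1 hu
  show σ ^ i * u0 * (σ ^ i)⁻¹ ∈ D
  have hσiQ : σ ^ i ∈ normalizer (Q : Set H) := pow_mem c.hQinv.1 i
  have huQ : σ ^ i * u0 * (σ ^ i)⁻¹ ∈ Q := (mem_normalizer_iff.1 hσiQ u0).1 (Q0_le_Q s hu0)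
  have h1 := ((hG D hD.1 hD.2).2.2.2 i hσ hτ).2 _ huQ
  have hinv : (σ ^ i * τ * σ⁻¹ ^ i) * (σ ^ i * u0 * (σ ^ i)⁻¹) * (σ ^ i * τ * σ⁻¹ ^ i)⁻¹ =
      (σ ^ i * u0 * (σ ^ i)⁻¹)⁻¹ := by
    rw [inv_pow]
    generalize σ ^ i = a
    have h2 : a * τ * a⁻¹ * (a * u0 * a⁻¹) * (a * τ * a⁻¹)⁻¹ = a * (τ * u0 * τ⁻¹) * a⁻¹ := by
      group
    rw [h2, s.hinv u0 hu0]
    group
  rw [hinv] at h1
  exact mem_of_inv_sq_mem (Fact.out : q.Prime) c.hq2 (c.hQea.2 _ huQ) h1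

/-- (2) the three possibilities for a hyperplane not containing `Q0` -/
theorem tri (c : BCfg p q r σ τ P Q W CP) (s : B2Str σ τ P Q CP E0 E1 Q0 Q1 Q2)
    (hG : ∀ D : Subgroup H, IsHyp q Q ⊥ D → W ⊓ centralizer (D : Set H) ≠ ⊥ →
      HypFacts σ τ W Q D)
    {D : Subgroup H} (hD : CalD q Q W D) (hQ0 : ¬ Q0 ≤ D) :
    σ ∈ normalizer (D : Set H) ∨
    (σ ∉ normalizer (D : Set H) ∧ σ ^ 1 * τ * σ⁻¹ ^ 1 ∈ normalizer (D : Set H) ∧ Q1 ≤ D) ∨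
    (σ ∉ normalizer (D : Set H) ∧ σ ^ 2 * τ * σ⁻¹ ^ 2 ∈ normalizer (D : Set H) ∧ Q2 ≤ D) := by
  by_cases hσ : σ ∈ normalizer (D : Set H)
  · exact Or.inl hσ
  · right
    obtain ⟨i, hi, hτ⟩ := (hG D hD.1 hD.2).2.2.1 hσ
    have hA := lemA c s hG hD i hσ hτ
    interval_cases i
    · exfalso
      apply hQ0
      rw [pow_zero, cj_one] at hA
      exact hA
    · left
      refine ⟨hσ, hτ, ?_⟩
      rw [hQ1' s]; exact hA
    · right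
      refine ⟨hσ, hτ, ?_⟩
      rw [hQ2' s]; exact hA

/-- (1) a hyperplane in `CalD` not containing `Q0` -/
theorem exists_D (c : BCfg p q r σ τ P Q W CP) (s : B2Str σ τ P Q CP E0 E1 Q0 Q1 Q2) :
    ∃ D : Subgroup H, CalD q Q W D ∧ ¬ Q0 ≤ D := by
  by_contra hcon
  push Not at hcon
  obtain ⟨u0, hu0, hu01⟩ : ∃ u0 ∈ Q0, u0 ≠ 1 := by
    by_contra h
    push Not at h
    exact s.hQ0ne (eq_bot_iff.2 (fun u hu => mem_bot.2 (h u hu)))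
  have hu0Q : u0 ∈ Q := Q0_le_Q s hu0
  have hrp : r.Prime := Fact.out
  have hqp : q.Prime := Fact.out
  have hcop : (Nat.card W).Coprime q := by
    obtain ⟨n, hn⟩ := (IsPGroup.iff_card).1 c.hWr
    rw [hn]
    exact Nat.Coprime.pow_left n ((Nat.coprime_primes hrp hqp).2 (Ne.symm c.hqr))
  have hcomm : ∀ t ∈ Q, ∀ u ∈ Q, t * u * t⁻¹ * u⁻¹ ∈ (⊥ : Subgroup H) := by
    intro t ht u hu
    rw [mem_bot, c.hQea.1 t ht u hu]
    group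
  have hpow : ∀ t ∈ Q, t ^ q ∈ (⊥ : Subgroup H) := by
    intro t ht
    rw [mem_bot]
    exact c.hQea.2 t ht
  have hgen := Cfsg.Agent.Helper60.WardW2.gen_hyperplanes (s := q) W Q ⊥ c.hW.1 c.hQW hcop
    bot_le bot_le hcomm hpow c.hWQ
  have hle : (⨆ D : {D : Subgroup H // ⊥ ≤ D ∧ D ≤ Q ∧ D.relIndex Q = q},
      W ⊓ centralizer ((D : Subgroup H) : Set H)) ≤ centralizer ({u0} : Set H) := by
    apply iSup_le
    rintro ⟨D, hD⟩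
    by_cases hb : W ⊓ centralizer (D : Set H) = ⊥
    · show W ⊓ centralizer (D : Set H) ≤ _
      rw [hb]; exact bot_le
    · have hu0D : u0 ∈ D := hcon D ⟨hD, hb⟩ hu0
      intro v hv
      rw [mem_centralizer_iff]
      intro x hx
      rw [Set.mem_singleton_iff] at hx
      subst hx
      exact mem_centralizer_iff.1 hv.2 x hu0D
  have hu0C : u0 ∈ centralizer (W : Set H) := by
    rw [mem_centralizer_iff]
    intro w hw
    have h1 := mem_centralizer_iff.1 (hle (hgen hw)) u0 (Set.mem_singleton _)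
    exact h1.symm
  have h2 : u0 ∈ Q ⊓ centralizer (W : Set H) := ⟨hu0Q, hu0C⟩
  rw [c.hfaith, mem_bot] at h2
  exact hu01 h2

/-- (3) the case `σ ∈ N(D)` -/
theorem case3 (c : BCfg p q r σ τ P Q W CP) (s : B2Str σ τ P Q CP E0 E1 Q0 Q1 Q2)
    (hG : ∀ D : Subgroup H, IsHyp q Q ⊥ D → W ⊓ centralizer (D : Set H) ≠ ⊥ →
      HypFacts σ τ W Q D)
    {D : Subgroup H} (hD : CalD q Q W D) (hQ0 : ¬ Q0 ≤ D)
    (hσ : σ ∈ normalizer (D : Set H)) : False := by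
  have hQ1D_imp : Q1 ≤ D → Q0 ≤ D := by
    intro h u hu
    have h1 : σ * u * σ⁻¹ ∈ Q1 := by rw [s.hQ01]; exact conj_mem_cj hu
    exact (mem_normalizer_iff.1 hσ u).2 (h h1)
  have hQ2D_imp : Q2 ≤ D → Q0 ≤ D := by
    intro h u hu
    rw [s.hQ20] at hu
    obtain ⟨w, hw, rfl⟩ := mem_map.1 hu
    exact (mem_normalizer_iff.1 hσ w).1 (h hw)
  have key : ∀ u1 ∈ Q1, ∀ x ∈ E0, u1⁻¹ * x⁻¹ * u1 * x ∈ D := by
    intro u1 hu1 x hx
    have hxP : x ∈ P := s.hE0.2 hx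
    have hD' : CalD q Q W (cj x D) := calD_conj hD x (c.hPQ hxP) (c.hPW hxP)
    have hQ0' : ¬ Q0 ≤ cj x D := by
      rw [le_cj_iff_of_mem_normalizer (s.hPQ0 hxP)]; exact hQ0
    have hσ' : σ ∈ normalizer ((cj x D : Subgroup H) : Set H) := by
      rcases tri c s hG hD' hQ0' with h | ⟨_, _, h⟩ | ⟨_, _, h⟩
      · exact h
      · exfalso; apply hQ0; apply hQ1D_imp
        rwa [le_cj_iff_of_mem_normalizer (s.hPQ1 hxP)] at h
      · exfalso; apply hQ0; apply hQ2D_imp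
        rwa [le_cj_iff_of_mem_normalizer (s.hPQ2 hxP)] at h
    rw [s.hQ01] at hu1
    obtain ⟨u, hu, rfl⟩ := mem_map.1 hu1
    show (σ * u * σ⁻¹)⁻¹ * x⁻¹ * (σ * u * σ⁻¹) * x ∈ D
    have huQ : u ∈ Q := Q0_le_Q s hu
    have h1 := (hG D hD.1 hD.2).2.1 hσ u huQ
    have h2 := (hG _ hD'.1 hD'.2).2.1 hσ' u huQ
    rw [mem_cj] at h2
    have hxu : x * u = u * x := by
      have h3 := hu
      rw [s.hQ0] at h3
      exact mem_centralizer_iff.1 h3.2 x hx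
    have e : x⁻¹ * u⁻¹ = u⁻¹ * x⁻¹ := by
      rw [← mul_inv_rev, ← mul_inv_rev, hxu]
    generalize σ * u * σ⁻¹ = u1 at h1 h2 ⊢
    have h3 : u1⁻¹ * x⁻¹ * u1 * x = (u⁻¹ * u1)⁻¹ * (x⁻¹ * (u⁻¹ * u1) * x) := by
      calc u1⁻¹ * x⁻¹ * u1 * x = u1⁻¹ * u * ((u⁻¹ * x⁻¹) * u1 * x) := by group
        _ = u1⁻¹ * u * ((x⁻¹ * u⁻¹) * u1 * x) := by rw [e]
        _ = (u⁻¹ * u1)⁻¹ * (x⁻¹ * (u⁻¹ * u1) * x) := by group
    rw [h3]
    exact mul_mem (inv_mem h1) h2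
  apply hQ0
  apply hQ1D_imp
  refine s.hcomm10.trans ?_
  rw [commutator_le]
  intro g1 hg1 g2 hg2
  have h1 := key g1⁻¹ (inv_mem hg1) g2⁻¹ (inv_mem hg2)
  rw [inv_inv, inv_inv] at h1
  rw [commutatorElement_def]
  exact h1

/-- (4) the case `σ ∉ N(D)`, `τ₁ ∈ N(D)` -/
theorem case4 (c : BCfg p q r σ τ P Q W CP) (s : B2Str σ τ P Q CP E0 E1 Q0 Q1 Q2)
    (hG : ∀ D : Subgroup H, IsHyp q Q ⊥ D → W ⊓ centralizer (D : Set H) ≠ ⊥ →
      HypFacts σ τ W Q D)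
    {D : Subgroup H} (hD : CalD q Q W D) (hQ0 : ¬ Q0 ≤ D)
    (hσ : σ ∉ normalizer (D : Set H))
    (hτ1 : σ ^ 1 * τ * σ⁻¹ ^ 1 ∈ normalizer (D : Set H)) : False := by
  have hQ1D : Q1 ≤ D := by rw [hQ1' s]; exact lemA c s hG hD 1 hσ hτ1
  have hτ1eq : σ ^ 1 * τ * σ⁻¹ ^ 1 = σ * τ * σ⁻¹ := by rw [pow_one, pow_one]
  have hτ1D : σ * τ * σ⁻¹ ∈ normalizer (D : Set H) := by rw [← hτ1eq]; exact hτ1
  have hτ1Q : σ * τ * σ⁻¹ ∈ normalizer (Q : Set H) :=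
    mul_mem (mul_mem c.hQinv.1 c.hQinv.2) (inv_mem c.hQinv.1)
  have hτ1S : σ * τ * σ⁻¹ ∈ SD Q D := by
    refine mem_SD.2 ⟨hτ1Q, ?_⟩
    have h1 := ((hG D hD.1 hD.2).2.2.2 1 hσ hτ1).2
    rw [hτ1eq] at h1
    exact h1
  have key : ∀ x ∈ E0, (σ * τ * σ⁻¹) * x⁻¹ * (σ * τ * σ⁻¹)⁻¹ * x ∈ SD Q D := by
    intro x hx
    have hxP := s.hE0.2 hx
    have hD' : CalD q Q W (cj x D) := calD_conj hD x (c.hPQ hxP) (c.hPW hxP)
    have hQ0' : ¬ Q0 ≤ cj x D := by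
      rw [le_cj_iff_of_mem_normalizer (s.hPQ0 hxP)]; exact hQ0
    have hQ1x : Q1 ≤ cj x D := by
      rw [le_cj_iff_of_mem_normalizer (s.hPQ1 hxP)]; exact hQ1D
    have hσ' : σ ∉ normalizer ((cj x D : Subgroup H) : Set H) := by
      intro hσ'
      apply hQ0'
      have h2 : Q2 ≤ cj x D := by
        rw [s.hQ12]
        calc cj σ Q1 ≤ cj σ (cj x D) := cj_le_cj hQ1x
          _ = cj x D := cj_eq_of_mem_normalizer hσ'
      rw [s.hQ20]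
      calc cj σ Q2 ≤ cj σ (cj x D) := cj_le_cj h2
        _ = cj x D := cj_eq_of_mem_normalizer hσ'
    have hτ1' : σ ^ 1 * τ * σ⁻¹ ^ 1 ∈ normalizer ((cj x D : Subgroup H) : Set H) := by
      rcases tri c s hG hD' hQ0' with h | ⟨_, h, _⟩ | ⟨_, _, h⟩
      · exact absurd h hσ'
      · exact h
      · exfalso
        apply hQ0
        have h2 : Q2 ≤ D := by rwa [le_cj_iff_of_mem_normalizer (s.hPQ2 hxP)] at h
        rw [s.hswap]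
        calc cj (σ * τ * σ⁻¹) Q2 ≤ cj (σ * τ * σ⁻¹) D := cj_le_cj h2
          _ = D := cj_eq_of_mem_normalizer hτ1D
    have hτ1S' : σ * τ * σ⁻¹ ∈ SD Q (cj x D) := by
      refine mem_SD.2 ⟨hτ1Q, ?_⟩
      have h1 := ((hG _ hD'.1 hD'.2).2.2.2 1 hσ' hτ1').2
      rw [hτ1eq] at h1
      exact h1
    have h3 := SD_conj (c.hPQ hxP) hτ1S'
    have h4 := mul_mem hτ1S (inv_mem h3)
    have h5 : (σ * τ * σ⁻¹) * x⁻¹ * (σ * τ * σ⁻¹)⁻¹ * x =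
        (σ * τ * σ⁻¹) * (x⁻¹ * (σ * τ * σ⁻¹) * x)⁻¹ := by group
    rw [h5]
    exact h4
  have hCP : CP ≤ SD Q D := by
    intro c0 hc0
    rw [c.hCP] at hc0
    refine mem_SD.2 ⟨c.hPQ hc0.1, fun v hv => ?_⟩
    have h1 := mem_centralizer_iff.1 hc0.2 v hv
    have e : c0 * v * c0⁻¹ = v := by rw [← h1]; group
    rw [e, inv_mul_cancel]
    exact one_mem D
  have hE1 : E1 ≤ SD Q D := by
    intro y hy
    obtain ⟨x, hx, hc0⟩ := s.hcover y hy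
    have h5 := mul_mem (key x hx) (inv_mem (hCP hc0))
    have h6 : y = ((σ * τ * σ⁻¹) * x⁻¹ * (σ * τ * σ⁻¹)⁻¹ * x) *
        (y⁻¹ * ((σ * τ * σ⁻¹) * x⁻¹ * (σ * τ * σ⁻¹)⁻¹ * x))⁻¹ := by group
    rw [h6]
    exact h5
  apply hQ0
  refine s.hcomm01.trans ?_
  rw [commutator_le]
  intro g1 hg1 g2 hg2
  have hg1Q : g1⁻¹ ∈ Q := inv_mem (Q0_le_Q s hg1)
  have h1 := (mem_SD.1 (hE1 hg2)).2 g1⁻¹ hg1Q
  rw [inv_inv] at h1
  rw [commutatorElement_def]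
  have h2 : g1 * g2 * g1⁻¹ * g2⁻¹ = g1 * (g2 * g1⁻¹ * g2⁻¹) := by group
  rw [h2]
  exact h1

/-- (5) the case `σ ∉ N(D)`, `τ₂ ∈ N(D)` -/
theorem case5 (c : BCfg p q r σ τ P Q W CP) (s : B2Str σ τ P Q CP E0 E1 Q0 Q1 Q2)
    (hG : ∀ D : Subgroup H, IsHyp q Q ⊥ D → W ⊓ centralizer (D : Set H) ≠ ⊥ →
      HypFacts σ τ W Q D)
    {D : Subgroup H} (hD : CalD q Q W D) (hQ0 : ¬ Q0 ≤ D)
    (hσ : σ ∉ normalizer (D : Set H))
    (hτ2 : σ ^ 2 * τ * σ⁻¹ ^ 2 ∈ normalizer (D : Set H)) : False := by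
  have hD' : CalD q Q W (cj τ D) := calD_conj hD τ c.hQinv.2 c.hWinv.2
  have hQ0' : ¬ Q0 ≤ cj τ D := by
    intro h
    apply hQ0
    intro u hu
    have h1 := h (inv_mem hu)
    rw [mem_cj] at h1
    have h2 : τ⁻¹ * u⁻¹ * τ = u := by rw [← s.hinv u hu]; group
    rwa [h2] at h1
  have hσ' : σ ∉ normalizer ((cj τ D : Subgroup H) : Set H) := by
    intro h
    apply hσ
    have h1 := normalizer_cj_inv h
    have h2 : τ⁻¹ * σ * τ = σ⁻¹ := by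
      have h3 := c.hS.rel
      calc τ⁻¹ * σ * τ = (τ⁻¹ * σ⁻¹ * τ)⁻¹ := by group
        _ = (τ⁻¹ * (τ * σ * τ⁻¹) * τ)⁻¹ := by rw [h3]
        _ = σ⁻¹ := by group
    rw [h2] at h1
    have h4 := inv_mem h1
    rwa [inv_inv] at h4
  have hτ1' : σ ^ 1 * τ * σ⁻¹ ^ 1 ∈ normalizer ((cj τ D : Subgroup H) : Set H) := by
    have h1 := normalizer_cj τ hτ2
    rwa [s3_identity c.hS] at h1
  exact case4 c s hG hD' hQ0' hσ' hτ1'

end main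

/-- **(B2b)** Step 3 of (B2): the structure produced by Steps 1-2 is contradictory. -/
theorem step3 [Finite H] {p q r : ℕ} [Fact p.Prime] [Fact q.Prime] [Fact r.Prime] {σ τ : H}
    {P Q W CP E0 E1 Q0 Q1 Q2 : Subgroup H} (c : BCfg p q r σ τ P Q W CP)
    (s : B2Str σ τ P Q CP E0 E1 Q0 Q1 Q2)
    (hG : ∀ D : Subgroup H, IsHyp q Q ⊥ D → W ⊓ centralizer (D : Set H) ≠ ⊥ →
      HypFacts σ τ W Q D) : False := by
  obtain ⟨D, hD, hQ0⟩ := exists_D c s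
  rcases tri c s hG hD hQ0 with h | ⟨h1, h2, _⟩ | ⟨h1, h2, _⟩
  · exact case3 c s hG hD hQ0 h
  · exact case4 c s hG hD hQ0 h1 h2
  · exact case5 c s hG hD hQ0 h1 h2

end Cfsg.Agent.Helper62.ShultB2b
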