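import Mathlib
import Cfsg.Agent.Helper61.TwoPDefs
import Cfsg.Agent.Helper51.Card

/-!
# S4707, piece (T1) of helper61's WANTED #6295

A primitive group of degree `10` and order `60` with `|N_G(P)| = 10` for a Sylow `5`-subgroup `P`
is simple.
-/

set_option autoImplicit false

namespace Cfsg.Agent.Helper62.TwoP

open Cfsg MulAction Cfsg.Agent.Helper66.PD2 Cfsg.Agent.Helper61.TwoP

/-- A Sylow `q`-subgroup of a group of order `q * m`, `q ∤ m`, has order `q`. -/
theorem card_sylow_of_card_eq {H : Type*} [Group H] [Finite H] {q : ℕ} [Fact q.Prime]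
    (R : Sylow q H) (m : ℕ) (hm : Nat.card H = q * m) (hqm : ¬ q ∣ m) :
    Nat.card (R : Subgroup H) = q := by
  have hq : q.Prime := Fact.out
  have hm0 : m ≠ 0 := by
    rintro rfl
    exact hqm (dvd_zero q)
  rw [Sylow.card_eq_multiplicity, hm, Nat.factorization_mul hq.ne_zero hm0, Finsupp.add_apply,
    Nat.Prime.factorization_self hq, Nat.factorization_eq_zero_of_not_dvd hqm, pow_one]

/-- The nonidentity elements of the Sylow `q`-subgroups, when these have prime order `q`:
there are at least `n_q * (q - 1)` elements of order `q`. -/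
theorem card_sylow_mul_le {H : Type*} [Group H] [Fintype H] [DecidableEq H] {q : ℕ}
    [Fact q.Prime] (hcard : ∀ R : Sylow q H, Nat.card (R : Subgroup H) = q) :
    Nat.card (Sylow q H) * (q - 1) ≤ (Finset.univ.filter (fun x : H => orderOf x = q)).card := by
  classical
  have hq : q.Prime := Fact.out
  let _ : Fintype (Sylow q H) := Fintype.ofFinite _
  -- the nonidentity elements of `R`
  let A : Sylow q H → Finset H := fun R => (Finset.univ.filter (fun x : H => x ∈ R)).erase 1
  have hA : ∀ R : Sylow q H, (A R).card = q - 1 := by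
    intro R
    have h1 : (1 : H) ∈ Finset.univ.filter (fun x : H => x ∈ R) := by
      simp [Subgroup.one_mem]
    rw [Finset.card_erase_of_mem h1]
    have h2 : (Finset.univ.filter (fun x : H => x ∈ R)).card = q := by
      have h3 := hcard R
      rw [Nat.card_eq_fintype_card, Fintype.card_subtype] at h3
      exact h3
    rw [h2]
  have hord : ∀ R : Sylow q H, ∀ x ∈ A R, orderOf x = q := by
    intro R x hx
    rw [Finset.mem_erase, Finset.mem_filter] at hx
    obtain ⟨hx1, -, hxR⟩ := hx
    have h1 : orderOf x ∣ q := by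
      rw [← hcard R]
      have := Subgroup.orderOf_dvd_natCard (R : Subgroup H) hxR
      exact this
    rcases (Nat.dvd_prime hq).mp h1 with h | h
    · exact absurd (orderOf_eq_one_iff.mp h) hx1
    · exact h
  have hzp : ∀ R : Sylow q H, ∀ x ∈ A R, (R : Subgroup H) = Subgroup.zpowers x := by
    intro R x hx
    have ho := hord R x hx
    rw [Finset.mem_erase, Finset.mem_filter] at hx
    obtain ⟨-, -, hxR⟩ := hx
    symm
    apply Subgroup.eq_of_le_of_card_ge
    · rw [Subgroup.zpowers_le]; exact hxR
    · rw [Nat.card_zpowers, ho, hcard R]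
  have hdisj : ∀ R ∈ (Finset.univ : Finset (Sylow q H)), ∀ R' ∈ (Finset.univ : Finset (Sylow q H)),
      R ≠ R' → Disjoint (A R) (A R') := by
    intro R _ R' _ hne
    rw [Finset.disjoint_left]
    intro x hx hx'
    apply hne
    apply Sylow.ext
    rw [hzp R x hx, hzp R' x hx']
  have hsub : (Finset.univ : Finset (Sylow q H)).biUnion A ⊆
      Finset.univ.filter (fun x : H => orderOf x = q) := by
    intro x hx
    rw [Finset.mem_biUnion] at hx
    obtain ⟨R, -, hxR⟩ := hx
    rw [Finset.mem_filter]
    exact ⟨Finset.mem_univ _, hord R x hxR⟩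
  calc Nat.card (Sylow q H) * (q - 1)
      = ∑ _R : Sylow q H, (q - 1) := by
        rw [Finset.sum_const, Finset.card_univ, Nat.card_eq_fintype_card, smul_eq_mul]
    _ = ∑ R : Sylow q H, (A R).card := by
        apply Finset.sum_congr rfl
        intro R _
        rw [hA R]
    _ = ((Finset.univ : Finset (Sylow q H)).biUnion A).card :=
        (Finset.card_biUnion hdisj).symm
    _ ≤ _ := Finset.card_le_card hsub


variable {G : Type*} [Group G] [Fintype G] {α : Type*} [Fintype α] [DecidableEq α] [MulAction G α]
  {p : ℕ} [Fact p.Prime] {P : Sylow p G}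

/-- A nontrivial normal subgroup of a faithful primitive group is transitive, so the degree divides
its order. -/
theorem card_dvd_of_normal (S : Setup G α p P) (N : Subgroup G) [N.Normal] (hN : N ≠ ⊥) :
    Fintype.card α ∣ Nat.card N := by
  have hprim := S.prim
  have hfix : fixedPoints N α ≠ Set.univ := by
    intro h
    apply hN
    rw [eq_bot_iff]
    intro n hn
    rw [Subgroup.mem_bot]
    apply S.faithful
    intro a
    have ha : a ∈ fixedPoints N α := by rw [h]; trivial
    exact ha ⟨n, hn⟩
  have htr : IsPretransitive N α := IsQuasiPreprimitive.isPretransitive_of_normal hfix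
  have hpos : 0 < Fintype.card α := by
    rw [S.hα]
    have := S.hp5
    omega
  obtain ⟨a⟩ : Nonempty α := Fintype.card_pos_iff.mp hpos
  have h1 : (stabilizer N a).index = Nat.card α := MulAction.index_stabilizer_of_transitive N a
  rw [← Nat.card_eq_fintype_card, ← h1]
  exact Subgroup.index_dvd_card _

/-- (T1) simplicity in order `60`. -/
theorem isSimpleGroup_of_card_sixty (hp : p = 5) (S : Setup G α p P) (hG : Nat.card G = 60) :
    IsSimpleGroup G := by
  classical
  subst hp
  have hnt : Nontrivial G := by
    apply Finite.one_lt_card_iff_nontrivial.mp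
    rw [hG]; norm_num
  refine { exists_pair_ne := hnt.exists_pair_ne, eq_bot_or_eq_top_of_normal := fun N hNn => ?_ }
  by_contra hcon
  push Not at hcon
  obtain ⟨hbot, htop⟩ := hcon
  have h10 : 10 ∣ Nat.card N := by
    have := card_dvd_of_normal S N hbot
    rwa [S.hα] at this
  have hP5 : Nat.card (P : Subgroup G) = 5 := S.cardP
  have hN60 : Nat.card N ∣ 60 := by
    have := Subgroup.card_subgroup_dvd_card N
    rwa [hG] at this
  have hNpos : 0 < Nat.card N := Nat.card_pos
  -- `P ≤ N`
  have hPN : (P : Subgroup G) ≤ N := by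
    have h1 := Cfsg.Agent.Helper51.card_sup_mul_card_inf_of_normal (P : Subgroup G) N
    have h2 : Nat.card ↥((P : Subgroup G) ⊓ N) ∣ 5 := by
      have := Subgroup.card_dvd_of_le (inf_le_left : (P : Subgroup G) ⊓ N ≤ P)
      rwa [hP5] at this
    have h3 : Nat.card ↥((P : Subgroup G) ⊔ N) ∣ 60 := by
      have := Subgroup.card_subgroup_dvd_card ((P : Subgroup G) ⊔ N)
      rwa [hG] at this
    rcases (Nat.dvd_prime (by norm_num : Nat.Prime 5)).mp h2 with h | h
    · exfalso
      rw [h, mul_one, hP5] at h1
      obtain ⟨m, hm⟩ := h10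
      rw [hm] at h1
      have h50 : 50 ∣ Nat.card ↥((P : Subgroup G) ⊔ N) := ⟨m, by rw [h1]; ring⟩
      have := h50.trans h3
      norm_num at this
    · have hPe : (P : Subgroup G) ⊓ N = P :=
        Subgroup.eq_of_le_of_card_ge inf_le_left (by rw [h, hP5])
      rw [← hPe]
      exact inf_le_right
  -- Frattini
  have hFr : Subgroup.normalizer ((P : Subgroup G) : Set G) ⊔ N = ⊤ :=
    Sylow.normalizer_sup_eq_top' P hPN
  have h4 := Cfsg.Agent.Helper51.card_sup_mul_card_inf_of_normal
    (Subgroup.normalizer ((P : Subgroup G) : Set G)) N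
  rw [hFr, Subgroup.card_top, hG, S.cardN] at h4
  have hN30 : Nat.card N = 30 ∨ Nat.card N = 60 := by
    have hle : Nat.card N ≤ 60 := Nat.le_of_dvd (by norm_num) hN60
    obtain ⟨m, hm⟩ := h10
    rw [hm] at hN60 hle hNpos h4
    rw [hm]
    have hm6 : m ≤ 6 := by omega
    interval_cases m <;> first | omega | (norm_num at hN60)
  rcases hN30 with h30 | h60
  swap
  · exact htop ((Subgroup.card_eq_iff_eq_top N).mp (h60.trans hG.symm))
  -- `|N| = 30`
  have hc5 : ∀ R : Sylow 5 N, Nat.card (R : Subgroup N) = 5 := fun R =>
    card_sylow_of_card_eq R 6 (by rw [h30]) (by norm_num)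
  have : Fact (Nat.Prime 3) := ⟨Nat.prime_three⟩
  have hc3 : ∀ R : Sylow 3 N, Nat.card (R : Subgroup N) = 3 := fun R =>
    card_sylow_of_card_eq R 10 (by rw [h30]) (by norm_num)
  -- a unique Sylow subgroup of `N` would be normal in `G`
  have hn5 : Nat.card (Sylow 5 N) = 6 := by
    have hmod : Nat.card (Sylow 5 N) ≡ 1 [MOD 5] := card_sylow_modEq_one 5 N
    have hdvd : Nat.card (Sylow 5 N) ∣ 6 := by
      have h1 := Sylow.card_dvd_index (P.subtype hPN)
      have h2 := ((P.subtype hPN : Sylow 5 N) : Subgroup N).card_mul_index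
      rw [hc5, h30] at h2
      have h3 : ((P.subtype hPN : Sylow 5 N) : Subgroup N).index = 6 := by omega
      rwa [h3] at h1
    have hle : Nat.card (Sylow 5 N) ≤ 6 := Nat.le_of_dvd (by norm_num) hdvd
    have hne1 : Nat.card (Sylow 5 N) ≠ 1 := by
      intro h1
      have hsub : Subsingleton (Sylow 5 N) := (Nat.card_eq_one_iff_unique.mp h1).1
      have hchar : ((P.subtype hPN : Sylow 5 N) : Subgroup N).Characteristic :=
        Sylow.characteristic_of_subsingleton _
      have hnorm : (((P.subtype hPN : Sylow 5 N) : Subgroup N).map N.subtype).Normal :=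
        inferInstance
      have hmap : ((P.subtype hPN : Sylow 5 N) : Subgroup N).map N.subtype = P := by
        rw [Sylow.coe_subtype, Subgroup.subgroupOf_map_subtype, inf_of_le_left hPN]
      rw [hmap] at hnorm
      have htopN : Subgroup.normalizer ((P : Subgroup G) : Set G) = ⊤ :=
        Subgroup.normalizer_eq_top_iff.mpr hnorm
      have := S.cardN
      rw [htopN, Subgroup.card_top, hG] at this
      omega
    unfold Nat.ModEq at hmod
    generalize Nat.card (Sylow 5 N) = n at *
    interval_cases n <;> simp_all
  have hn3 : Nat.card (Sylow 3 N) = 10 := by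
    obtain ⟨R⟩ : Nonempty (Sylow 3 N) := inferInstance
    have hmod : Nat.card (Sylow 3 N) ≡ 1 [MOD 3] := card_sylow_modEq_one 3 N
    have hdvd : Nat.card (Sylow 3 N) ∣ 10 := by
      have h1 := Sylow.card_dvd_index R
      have h2 := (R : Subgroup N).card_mul_index
      rw [hc3, h30] at h2
      have h3 : (R : Subgroup N).index = 10 := by omega
      rwa [h3] at h1
    have hle : Nat.card (Sylow 3 N) ≤ 10 := Nat.le_of_dvd (by norm_num) hdvd
    have hne1 : Nat.card (Sylow 3 N) ≠ 1 := by
      intro h1
      have hsub : Subsingleton (Sylow 3 N) := (Nat.card_eq_one_iff_unique.mp h1).1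
      have hchar : (R : Subgroup N).Characteristic := Sylow.characteristic_of_subsingleton _
      have hnorm : ((R : Subgroup N).map N.subtype).Normal := inferInstance
      have hcardR : Nat.card ((R : Subgroup N).map N.subtype) = 3 := by
        rw [Subgroup.card_map_of_injective N.subtype_injective, hc3]
      have hRne : (R : Subgroup N).map N.subtype ≠ ⊥ := by
        intro hb
        rw [hb, Subgroup.card_bot] at hcardR
        omega
      have := card_dvd_of_normal S ((R : Subgroup N).map N.subtype) hRne
      rw [S.hα, hcardR] at this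
      norm_num at this
    unfold Nat.ModEq at hmod
    generalize Nat.card (Sylow 3 N) = n at *
    interval_cases n <;> simp_all
  -- count elements of orders `5` and `3` in `N`
  let _ : Fintype N := Fintype.ofFinite N
  have hcount5 := card_sylow_mul_le (H := N) (q := 5) hc5
  have hcount3 := card_sylow_mul_le (H := N) (q := 3) hc3
  rw [hn5] at hcount5
  rw [hn3] at hcount3
  have hdisj : Disjoint (Finset.univ.filter (fun x : N => orderOf x = 5))
      (Finset.univ.filter (fun x : N => orderOf x = 3)) := by
    rw [Finset.disjoint_filter]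
    intro x _ h5 h3
    omega
  have hle := Finset.card_le_univ ((Finset.univ.filter (fun x : N => orderOf x = 5)) ∪
    (Finset.univ.filter (fun x : N => orderOf x = 3)))
  rw [Finset.card_union_of_disjoint hdisj, ← Nat.card_eq_fintype_card, h30] at hle
  omega

end Cfsg.Agent.Helper62.TwoP
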