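import Mathlib

/-!
# Piece (G3) of helper95's plan for Blichfeldt / Jordan (S4465, S4469), by helper62

Splitting off the central `p`-part by transfer: if the centre is cyclic of order divisible by `p`,
the Sylow `p`-subgroups are abelian of exponent at most `|Z(G)|_p`, then `G = G₁ × Z_p` and a Hall
subgroup of `G₁` (induction hypothesis) times `Z_p` is a Hall subgroup of `G`.
-/

set_option autoImplicit false

namespace Cfsg.Agent.Helper62.Blich

open Subgroup

universe u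

/-- a cyclic subgroup whose order kills the finite abelian group `S` is a retract of `S` -/
theorem exists_retract {S : Type*} [CommGroup S] [Finite S] (Z : Subgroup S) [hc : IsCyclic Z]
    (hexp : ∀ s : S, s ^ Nat.card Z = 1) : ∃ r : S →* Z, ∀ z : Z, r (z : S) = z := by
  obtain ⟨g, hg⟩ := hc.exists_generator
  have hog : orderOf g = Nat.card Z := orderOf_eq_card_of_forall_mem_zpowers hg
  haveI : NeZero (Nat.card Z) := ⟨Nat.card_pos.ne'⟩
  haveI : IsCyclic (↥Z)ˣ :=
    isCyclic_of_surjective (toUnits : ↥Z ≃* (↥Z)ˣ) (toUnits : ↥Z ≃* (↥Z)ˣ).surjective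
  haveI h1 : HasEnoughRootsOfUnity ↥Z (Nat.card Z) :=
    ⟨⟨g, hog ▸ IsPrimitiveRoot.orderOf g⟩, inferInstance⟩
  have hdvd : Monoid.exponent S ∣ Nat.card Z := Monoid.exponent_dvd_of_forall_pow_eq_one hexp
  haveI h2 : HasEnoughRootsOfUnity ↥Z (Monoid.exponent S) :=
    HasEnoughRootsOfUnity.of_dvd ↥Z hdvd
  obtain ⟨r', hr'⟩ := MonoidHom.domRestrict_surjective ↥Z Z
    (toUnits : ↥Z ≃* (↥Z)ˣ).toMonoidHom
  refine ⟨(toUnits : ↥Z ≃* (↥Z)ˣ).symm.toMonoidHom.comp r', fun z => ?_⟩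
  have h3 := DFunLike.congr_fun hr' z
  have h4 : r' (z : S) = toUnits z := h3
  show (toUnits : ↥Z ≃* (↥Z)ˣ).symm (r' (z : S)) = z
  rw [h4]
  exact (toUnits : ↥Z ≃* (↥Z)ˣ).symm_apply_apply z

/-- a central cyclic subgroup `Z` of an abelian subgroup `S` of coprime index, whose order kills
`S`, has a normal complement in `G` -/
theorem exists_complement_central {G : Type*} [Group G] [Finite G] (S Z : Subgroup G)
    (hS : ∀ x ∈ S, ∀ y ∈ S, x * y = y * x) (hZS : Z ≤ S) (hZc : Z ≤ center G)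
    (hcyc : IsCyclic Z) (hexp : ∀ s ∈ S, s ^ Nat.card Z = 1)
    (hcop : (S.index).Coprime (Nat.card Z)) :
    ∃ G1 : Subgroup G, G1 ⊓ Z = ⊥ ∧ Nat.card G1 * Nat.card Z = Nat.card G := by
  letI : CommGroup ↥S :=
    { (inferInstance : Group ↥S) with
      mul_comm := fun a b => Subtype.ext (hS a a.2 b b.2) }
  set Z' : Subgroup ↥S := Z.subgroupOf S with hZ'
  have e : ↥Z' ≃* ↥Z := subgroupOfEquivOfLe hZS
  haveI : IsCyclic ↥Z' := isCyclic_of_surjective e.symm e.symm.surjective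
  have hcard : Nat.card Z' = Nat.card Z := Nat.card_congr e.toEquiv
  have hexp' : ∀ s : ↥S, s ^ Nat.card Z' = 1 := by
    intro s
    rw [hcard]
    exact Subtype.ext (by rw [SubgroupClass.coe_pow]; exact hexp s s.2)
  obtain ⟨r, hr⟩ := exists_retract Z' hexp'
  set φ : G →* ↥Z' := MonoidHom.transfer r with hφ
  -- the transfer on `Z`
  have hkey : ∀ z ∈ Z, ((φ z : ↥S) : G) = z ^ S.index := by
    intro z hz
    have hzc : z ∈ center G := hZc hz
    have key : ∀ (k : ℕ) (g₀ : G), g₀⁻¹ * z ^ k * g₀ ∈ S → g₀⁻¹ * z ^ k * g₀ = z ^ k := by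
      intro k g₀ _
      have h1 : z ^ k ∈ center G := pow_mem hzc k
      have h2 := mem_center_iff.1 h1 g₀
      rw [mul_assoc, ← h2, inv_mul_cancel_left]
    have h1 := MonoidHom.transfer_eq_pow r z key
    have hmemS : z ^ S.index ∈ S := hZS (pow_mem hz _)
    have hmemZ' : (⟨z ^ S.index, hmemS⟩ : ↥S) ∈ Z' := by
      rw [hZ', mem_subgroupOf]
      exact pow_mem hz _
    have h2 := hr ⟨⟨z ^ S.index, hmemS⟩, hmemZ'⟩
    rw [hφ, h1]
    have h3 : r (⟨z ^ S.index, MonoidHom.transfer_eq_pow_aux z key⟩ : ↥S) =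
        ⟨⟨z ^ S.index, hmemS⟩, hmemZ'⟩ := h2
    rw [h3]
  -- the kernel meets `Z` trivially
  have hinf : φ.ker ⊓ Z = ⊥ := by
    rw [eq_bot_iff]
    rintro x ⟨hxk, hxZ⟩
    rw [mem_bot]
    have h1 : φ x = 1 := hxk
    have h2 := hkey x hxZ
    rw [h1] at h2
    have h3 : x ^ S.index = 1 := h2.symm
    have h4 : x ^ Nat.card Z = 1 := by
      have h5 : (⟨x, hxZ⟩ : ↥Z) ^ Nat.card Z = 1 := pow_card_eq_one'
      exact congrArg Subtype.val h5
    have h6 : orderOf x = 1 :=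
      Nat.eq_one_of_dvd_coprimes hcop (orderOf_dvd_of_pow_eq_one h3)
        (orderOf_dvd_of_pow_eq_one h4)
    exact orderOf_eq_one_iff.1 h6
  -- surjectivity
  have hinj : Function.Injective (fun z : ↥Z => φ (z : G)) := by
    intro z1 z2 h
    have h1 : φ ((z1 : G) * (z2 : G)⁻¹) = 1 := by
      rw [map_mul, map_inv]
      show φ (z1 : G) * (φ (z2 : G))⁻¹ = 1
      have h' : φ (z1 : G) = φ (z2 : G) := h
      rw [h', mul_inv_cancel]
    have h2 : (z1 : G) * (z2 : G)⁻¹ ∈ φ.ker ⊓ Z :=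
      Subgroup.mem_inf.2 ⟨h1, Z.mul_mem z1.2 (Z.inv_mem z2.2)⟩
    rw [hinf, mem_bot] at h2
    apply Subtype.ext
    exact mul_inv_eq_one.1 h2
  have hbij : Function.Bijective (fun z : ↥Z => φ (z : G)) :=
    hinj.bijective_of_nat_card_le (le_of_eq hcard)
  have hsurj : Function.Surjective φ := by
    intro w
    obtain ⟨z, hz⟩ := hbij.2 w
    exact ⟨(z : G), hz⟩
  refine ⟨φ.ker, hinf, ?_⟩
  have h1 := Subgroup.card_eq_card_quotient_mul_card_subgroup φ.ker
  have h2 : Nat.card (G ⧸ φ.ker) = Nat.card Z := by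
    rw [← hcard]
    exact Nat.card_congr (QuotientGroup.quotientKerEquivOfSurjective φ hsurj).toEquiv
  rw [h1, h2, mul_comm]

/-- (G3) splitting off the central `p`-part by transfer. -/
theorem hall_step_split {G : Type u} [Group G] [Finite G] (P : ℕ → Prop) (p : ℕ)
    [Fact p.Prime] (hPp : P p) (hZ : IsCyclic (Subgroup.center G))
    (hab : ∀ S : Sylow p G, ∀ x ∈ S, ∀ y ∈ S, x * y = y * x)
    (hZp : p ∣ Nat.card (Subgroup.center G))
    (hexp : ∀ g : G, (∃ k : ℕ, orderOf g = p ^ k) →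
      orderOf g ≤ ordProj[p] (Nat.card (Subgroup.center G)))
    (hIH : ∀ K : Subgroup G, K ≠ ⊤ → ∃ A : Subgroup G, A ≤ K ∧
      (∀ q : ℕ, q.Prime → q ∣ Nat.card A → P q) ∧
      (∀ q : ℕ, q.Prime → q ∣ A.relIndex K → ¬ P q)) :
    ∃ A : Subgroup G, (∀ q : ℕ, q.Prime → q ∣ Nat.card A → P q) ∧
      (∀ q : ℕ, q.Prime → q ∣ A.index → ¬ P q) := by
  have hp : p.Prime := Fact.out
  -- the Sylow `p`-subgroup of the centre
  obtain Q : Sylow p (center G) := default
  set c : ℕ := (Nat.card (center G)).factorization p with hc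
  have hQcard : Nat.card (Q : Subgroup (center G)) = p ^ c := Sylow.card_eq_multiplicity Q
  set Zp : Subgroup G := (Q : Subgroup (center G)).map (center G).subtype with hZpdef
  have eQ : ↥(Q : Subgroup (center G)) ≃* ↥Zp :=
    (Q : Subgroup (center G)).equivMapOfInjective _ (center G).subtype_injective
  have hZpcard : Nat.card Zp = p ^ c := by
    rw [← hQcard]
    exact (Nat.card_congr eQ.toEquiv).symm
  have hZpcyc : IsCyclic ↥Zp := by
    haveI := hZ
    exact isCyclic_of_surjective eQ eQ.surjective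
  have hZpc : Zp ≤ center G := by
    rintro _ ⟨z, _, rfl⟩
    exact z.2
  have hZpp : IsPGroup p Zp := IsPGroup.of_card hZpcard
  obtain ⟨S0, hZS0⟩ := hZpp.exists_le_sylow
  have hc1 : 1 ≤ c := by
    rw [hc]
    exact (hp.factorization_pos_of_dvd Nat.card_pos.ne' hZp)
  -- exponent of `S0`
  have hexpS : ∀ s ∈ (S0 : Subgroup G), s ^ Nat.card Zp = 1 := by
    intro s hs
    obtain ⟨k, hk⟩ := (S0.2 ⟨s, hs⟩)
    have hk' : s ^ p ^ k = 1 := by
      have := congrArg Subtype.val hk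
      simpa using this
    obtain ⟨j, hj⟩ := (Nat.dvd_prime_pow hp).1 (orderOf_dvd_of_pow_eq_one hk') |>.imp
      (fun j hj => hj.2)
    have h1 := hexp s ⟨j, hj⟩
    rw [hj] at h1
    have h2 : p ^ j ≤ p ^ c := h1
    have h3 : j ≤ c := (Nat.pow_le_pow_iff_right hp.one_lt).1 h2
    rw [hZpcard]
    apply orderOf_dvd_iff_pow_eq_one.1
    rw [hj]
    exact pow_dvd_pow p h3
  have hcop : ((S0 : Subgroup G).index).Coprime (Nat.card Zp) := by
    rw [hZpcard]
    apply Nat.Coprime.pow_right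
    exact (Nat.Coprime.symm ((Nat.Prime.coprime_iff_not_dvd hp).2 S0.not_dvd_index))
  obtain ⟨G1, hG1Z, hG1card⟩ := exists_complement_central (S0 : Subgroup G) Zp
    (hab S0) hZS0 hZpc hZpcyc hexpS hcop
  -- `G1` is proper
  have hG1top : G1 ≠ ⊤ := by
    intro h
    rw [h, card_top, hZpcard] at hG1card
    have h1 : 0 < Nat.card G := Nat.card_pos
    have h2 : 1 < p ^ c := Nat.one_lt_pow (by omega) hp.one_lt
    nlinarith
  obtain ⟨A1, hA1, hA1P, hA1idx⟩ := hIH G1 hG1top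
  haveI hZpn : Zp.Normal := by
    constructor
    intro n hn g
    have h1 := mem_center_iff.1 (hZpc hn) g
    have h2 : g * n * g⁻¹ = n := by rw [h1, mul_inv_cancel_right]
    rw [h2]; exact hn
  -- cardinality of `A1 ⊔ Zp`
  have hA1Z : A1 ⊓ Zp = ⊥ := by
    rw [eq_bot_iff, ← hG1Z]
    exact inf_le_inf_right _ hA1
  have hcardA : Nat.card ↥(A1 ⊔ Zp) = Nat.card A1 * Nat.card Zp := by
    have h1 : Zp.relIndex (A1 ⊔ Zp) = Nat.card A1 := by
      rw [relIndex_sup_right, ← inf_relIndex_right, inf_comm, hA1Z, relIndex_bot_left]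
    have h2 := relIndex_mul_relIndex ⊥ Zp (A1 ⊔ Zp) bot_le le_sup_right
    rw [relIndex_bot_left, relIndex_bot_left, h1] at h2
    rw [← h2, mul_comm]
  refine ⟨A1 ⊔ Zp, ?_, ?_⟩
  · intro q hq hdvd
    rw [hcardA, hZpcard] at hdvd
    rcases (Nat.Prime.dvd_mul hq).1 hdvd with h | h
    · exact hA1P q hq h
    · have h1 : q = p := (Nat.prime_dvd_prime_iff_eq hq hp).1 (hq.dvd_of_dvd_pow h)
      rw [h1]; exact hPp
  · intro q hq hdvd
    apply hA1idx q hq
    have h1 : (A1 ⊔ Zp).index * Nat.card ↥(A1 ⊔ Zp) = Nat.card G := by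
      rw [mul_comm]; exact card_mul_index _
    have h2 : A1.relIndex G1 * Nat.card A1 = Nat.card G1 := by
      have h3 := relIndex_mul_relIndex ⊥ A1 G1 bot_le hA1
      rw [relIndex_bot_left, relIndex_bot_left] at h3
      rw [mul_comm]; exact h3
    have h4 : (A1 ⊔ Zp).index = A1.relIndex G1 := by
      have h5 : (A1 ⊔ Zp).index * (Nat.card A1 * Nat.card Zp) =
          A1.relIndex G1 * (Nat.card A1 * Nat.card Zp) := by
        rw [← hcardA, h1, hcardA, ← mul_assoc, h2, hG1card]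
      have h6 : 0 < Nat.card A1 * Nat.card Zp := Nat.mul_pos Nat.card_pos Nat.card_pos
      exact Nat.eq_of_mul_eq_mul_right h6 h5
    rw [← h4]; exact hdvd

end Cfsg.Agent.Helper62.Blich
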