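import Mathlib
import Cfsg.Agent.Helper77.Blk.Defs

/-!
# S3888 (Blackburn) farm, piece (C2) `class_fam2` — helper62 for helper77
-/

set_option autoImplicit false

universe u

namespace Cfsg.Agent.Helper62.Blk

open Subgroup Cfsg.Agent.Helper77.Blk

section beta
variable {G : Type u} [Group G] [Finite G] {p : ℕ} [hp : Fact p.Prime]

omit [Finite G] in
theorem c2_conj_mul (x a b : G) : x⁻¹ * (a * b) * x = (x⁻¹ * a * x) * (x⁻¹ * b * x) := by group

omit [Finite G] in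
theorem c2_conj_pow (x a : G) (k : ℕ) : x⁻¹ * a ^ k * x = (x⁻¹ * a * x) ^ k := by
  induction k with
  | zero => simp
  | succ k ih => rw [pow_succ, c2_conj_mul, ih, pow_succ]

/-- chain of three subgroups in a group of order `p^(m+2)` -/
theorem c2_top_of_chain (m : ℕ) (hG : Nat.card G = p ^ (m + 2)) (A K H : Subgroup G)
    (hA : Nat.card A = p ^ m) (hAK : A ≤ K) (hKH : K ≤ H) (hAK' : A ≠ K) (hKH' : K ≠ H) : H = ⊤ := by
  have hpp := hp.out
  have h1 : Nat.card A ∣ Nat.card K := Subgroup.card_dvd_of_le hAK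
  have h2 : Nat.card K ∣ Nat.card H := Subgroup.card_dvd_of_le hKH
  have h3 : Nat.card H ∣ Nat.card G := Subgroup.card_subgroup_dvd_card H
  rw [hG] at h3
  obtain ⟨b, hb, hHb⟩ := (Nat.dvd_prime_pow hpp).1 h3
  have h4 : Nat.card K ∣ p ^ (m + 2) := h2.trans h3
  obtain ⟨a, ha, hKa⟩ := (Nat.dvd_prime_pow hpp).1 h4
  rw [hA, hKa] at h1
  rw [hKa, hHb] at h2
  have hma : m ≤ a := (Nat.pow_dvd_pow_iff_le_right hpp.one_lt).1 h1
  have hab : a ≤ b := (Nat.pow_dvd_pow_iff_le_right hpp.one_lt).1 h2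
  have hma' : m ≠ a := by
    intro h
    apply hAK'
    exact Subgroup.eq_of_le_of_card_ge hAK (by rw [hA, hKa, h])
  have hab' : a ≠ b := by
    intro h
    apply hKH'
    exact Subgroup.eq_of_le_of_card_ge hKH (by rw [hKa, hHb, h])
  have hb' : b = m + 2 := by omega
  rw [← Subgroup.card_eq_iff_eq_top, hHb, hG, hb']

theorem class_fam2 (hp2 : p ≠ 2) (n : ℕ) (hG : Nat.card G = p ^ n) (x z y : G) (m : ℕ) (hm : 2 ≤ m)
    (hn : n = m + 2) (hzy : z * y = y * z) (hz : orderOf z = p ^ m) (hy : y ^ p = 1)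
    (hyz : y ∉ zpowers z) (hx : x ^ p = 1) (hxC : x ∉ closure ({z, y} : Set G))
    (hNT : ∀ (m α : ℕ), 1 ≤ m → α ^ p ≡ 1 [MOD p ^ m] → α ≡ 1 [MOD p ^ (m - 1)])
    (α β γ : ℕ) (hzx : x⁻¹ * z * x = z ^ α * y ^ β) (hyx : x⁻¹ * y * x = y * (z ^ p ^ (m - 1)) ^ γ)
    (hα : α % p = 1) (hγ : ¬ p ∣ γ) (hz0 : x⁻¹ * z ^ p ^ (m - 1) * x = z ^ p ^ (m - 1))
    (hβ : p ∣ β) : Fam2 p n G := by
  have hpp := hp.out
  -- step 1
  have hyβ : y ^ β = 1 := by
    obtain ⟨c, rfl⟩ := hβ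
    rw [pow_mul, hy, one_pow]
  have hzx' : x⁻¹ * z * x = z ^ α := by rw [hzx, hyβ, mul_one]
  -- step 2
  have hiter : ∀ k : ℕ, (x ^ k)⁻¹ * z * x ^ k = z ^ (α ^ k) := by
    intro k
    induction k with
    | zero => simp
    | succ k ih =>
      have h1 : (x ^ (k+1))⁻¹ * z * x ^ (k+1) = x⁻¹ * ((x ^ k)⁻¹ * z * x ^ k) * x := by
        rw [pow_succ]; group
      rw [h1, ih, c2_conj_pow, hzx', ← pow_mul, pow_succ, mul_comm]
  have hαp : z ^ (α ^ p) = z ^ 1 := by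
    have h1 := hiter p
    rw [hx] at h1
    simpa using h1.symm
  have hmod : α ^ p ≡ 1 [MOD p ^ m] := by
    rw [← hz]; exact pow_eq_pow_iff_modEq.mp hαp
  have hmod' : α ≡ 1 [MOD p ^ (m - 1)] := hNT m α (by omega) hmod
  have hα1 : 1 ≤ α := by
    rcases Nat.eq_zero_or_pos α with h | h
    · rw [h, Nat.zero_mod] at hα; omega
    · exact h
  obtain ⟨δ, hδ⟩ : ∃ δ, α = 1 + p ^ (m - 1) * δ := by
    obtain ⟨δ, hδ⟩ := (Nat.modEq_iff_dvd' hα1).mp hmod'.symm
    exact ⟨δ, by omega⟩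
  -- z0
  obtain ⟨z0, hz0def⟩ : ∃ z0 : G, z0 = z ^ p ^ (m - 1) := ⟨_, rfl⟩
  rw [← hz0def] at hyx hz0
  have hzα : z ^ α = z * z0 ^ δ := by
    rw [hδ, pow_add, pow_one, pow_mul, hz0def]
  have hz0p : z0 ^ p = 1 := by
    rw [hz0def, ← pow_mul, ← pow_succ, show m - 1 + 1 = m by omega, ← hz, pow_orderOf_eq_one]
  have hzpm : z ^ p ^ m = 1 := by rw [← hz, pow_orderOf_eq_one]
  -- choose j
  obtain ⟨γ', -, hγ'⟩ : ∃ γ' < p, γ * γ' % p = 1 :=
    Nat.exists_mul_mod_eq_one_of_coprime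
      ((Nat.Prime.coprime_iff_not_dvd hpp).2 hγ).symm hpp.one_lt
  obtain ⟨t, ht⟩ : ∃ t, γ * γ' = 1 + p * t := ⟨γ * γ' / p, by
    have := Nat.div_add_mod (γ * γ') p
    omega⟩
  obtain ⟨q, hq⟩ : ∃ q, p = q + 1 := ⟨p - 1, by have := hpp.one_lt; omega⟩
  obtain ⟨j, hj⟩ : ∃ j, p ∣ δ + γ * j := by
    refine ⟨q * δ * γ', δ + q * δ * t, ?_⟩
    have : γ * (q * δ * γ') = q * δ * (γ * γ') := by ring
    rw [this, ht, hq]; ring
  -- commutation facts
  have cyz : Commute z y := hzy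
  have cz0y : Commute z0 y := by rw [hz0def]; exact cyz.pow_left _
  have cz0z : Commute z0 z := by rw [hz0def]; exact (Commute.refl z).pow_left _
  -- z'
  obtain ⟨z', hz'def⟩ : ∃ z' : G, z' = z * y ^ j := ⟨_, rfl⟩
  have hz'x : x⁻¹ * z' * x = z' := by
    rw [hz'def, c2_conj_mul, c2_conj_pow, hzx', hyx, hzα,
      (cz0y.symm.pow_right γ).mul_pow j, ← pow_mul]
    have e1 : z * z0 ^ δ * (y ^ j * z0 ^ (γ * j)) = z * y ^ j * (z0 ^ δ * z0 ^ (γ * j)) := by
      have c1 : Commute (z0 ^ δ) (y ^ j) := (cz0y.pow_left δ).pow_right j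
      calc z * z0 ^ δ * (y ^ j * z0 ^ (γ * j)) = z * (z0 ^ δ * y ^ j) * z0 ^ (γ * j) := by group
        _ = z * (y ^ j * z0 ^ δ) * z0 ^ (γ * j) := by rw [c1.eq]
        _ = z * y ^ j * (z0 ^ δ * z0 ^ (γ * j)) := by group
    rw [e1, ← pow_add]
    obtain ⟨c, hc⟩ := hj
    rw [hc, pow_mul, hz0p, one_pow, mul_one]
  have cxz' : x * z' = z' * x := by
    have : x * (x⁻¹ * z' * x) = x * z' := by rw [hz'x]
    rw [← this]; group
  have cyz' : y * z' = z' * y := by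
    rw [hz'def]
    have c1 : Commute y (z * y ^ j) := (cyz.symm).mul_right ((Commute.refl y).pow_right j)
    exact c1.eq
  have hyjp : ∀ k : ℕ, 1 ≤ k → (y ^ j) ^ p ^ k = 1 := by
    intro k hk
    obtain ⟨k', rfl⟩ : ∃ k', k = k' + 1 := ⟨k - 1, by omega⟩
    rw [← pow_mul, mul_comm, pow_succ, mul_comm (p ^ k') p, mul_assoc, pow_mul, hy, one_pow]
  have hz'pm : z' ^ p ^ m = 1 := by
    rw [hz'def, (cyz.pow_right j).mul_pow, hzpm, hyjp m (by omega), mul_one]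
  have hz'pm1 : z' ^ p ^ (m - 1) = z0 := by
    rw [hz'def, (cyz.pow_right j).mul_pow, hyjp (m - 1) (by omega), mul_one, hz0def]
  -- the answer
  refine ⟨by omega, x, y, z' ^ γ, ?_, hx, hy, ?_, ?_, ?_, ?_⟩
  · -- generation
    have hcop : Nat.Coprime γ (p ^ m) :=
      Nat.Coprime.pow_right m ((Nat.Prime.coprime_iff_not_dvd hpp).2 hγ).symm
    have hpm1 : 1 < p ^ m := Nat.one_lt_pow (by omega) hpp.one_lt
    obtain ⟨k, -, hk⟩ : ∃ k < p ^ m, γ * k % p ^ m = 1 :=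
      Nat.exists_mul_mod_eq_one_of_coprime hcop hpm1
    obtain ⟨t2, ht2⟩ : ∃ t2, γ * k = 1 + p ^ m * t2 := ⟨γ * k / p ^ m, by
      have := Nat.div_add_mod (γ * k) (p ^ m)
      omega⟩
    have hz'Z : (z' ^ γ) ^ k = z' := by
      rw [← pow_mul, ht2, pow_add, pow_one, pow_mul, hz'pm, one_pow, mul_one]
    set H : Subgroup G := closure ({x, y, z' ^ γ} : Set G) with hH
    have hxH : x ∈ H := subset_closure (by simp)
    have hyH : y ∈ H := subset_closure (by simp)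
    have hZH : z' ^ γ ∈ H := subset_closure (by simp)
    have hz'H : z' ∈ H := by rw [← hz'Z]; exact H.pow_mem hZH k
    have hzH : z ∈ H := by
      have : z = z' * (y ^ j)⁻¹ := by rw [hz'def]; group
      rw [this]
      exact H.mul_mem hz'H (H.inv_mem (H.pow_mem hyH j))
    have hKH : closure ({z, y} : Set G) ≤ H := by
      rw [closure_le]
      intro g hg
      rcases hg with rfl | rfl
      · exact hzH
      · exact hyH
    have hAK : zpowers z ≤ closure ({z, y} : Set G) := by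
      rw [zpowers_le]
      exact subset_closure (by simp)
    have hyK : y ∈ closure ({z, y} : Set G) := subset_closure (by simp)
    have hG' : Nat.card G = p ^ (m + 2) := by rw [hG, hn]
    refine c2_top_of_chain m hG' (zpowers z) _ H ?_ hAK hKH ?_ ?_
    · rw [Nat.card_zpowers, hz]
    · intro h
      apply hyz
      rw [h]; exact hyK
    · intro h
      apply hxC
      rw [h]; exact hxH
  · -- Z^(p^(n-2)) = 1
    rw [show n - 2 = m by omega, ← pow_mul, mul_comm, pow_mul, hz'pm, one_pow]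
  · -- x Z = Z x
    exact ((show Commute x z' from cxz').pow_right γ).eq
  · exact ((show Commute y z' from cyz').pow_right γ).eq
  · rw [show n - 3 = m - 1 by omega, ← pow_mul, mul_comm, pow_mul, hz'pm1, hyx]

end beta

end Cfsg.Agent.Helper62.Blk
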