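import Cfsg.Agent.Helper87.FrakLDefs

/-!
# Piece (SL2a) of helper87's plan for S2863 / S2861, by helper62

An element `g` of `SL₂(F)`, `char F = p`, with `det (g - 1) = 0` satisfies `g ^ p = 1`.
-/

set_option autoImplicit false

namespace Cfsg.Agent.Helper62.FrakL

open Matrix Cfsg.Agent.Helper87.FrakL

/-- `(g - 1)² = 0` when `det (g - 1) = 0` in `SL₂`. -/
theorem sub_one_sq_eq_zero {F : Type*} [Field F] (g : SpecialLinearGroup (Fin 2) F)
    (hg : detSubOne g = 0) :
    ((g : Matrix (Fin 2) (Fin 2) F) - 1) * ((g : Matrix (Fin 2) (Fin 2) F) - 1) = 0 := by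
  have hdet : (g : Matrix (Fin 2) (Fin 2) F) 0 0 * (g : Matrix (Fin 2) (Fin 2) F) 1 1 -
      (g : Matrix (Fin 2) (Fin 2) F) 0 1 * (g : Matrix (Fin 2) (Fin 2) F) 1 0 = 1 := by
    have h := g.2
    rw [Matrix.det_fin_two] at h
    exact h
  unfold detSubOne at hg
  generalize (g : Matrix (Fin 2) (Fin 2) F) = M at hg hdet ⊢
  generalize ha : M 0 0 = a at hg hdet
  generalize hb : M 0 1 = b at hg hdet
  generalize hc : M 1 0 = c at hg hdet
  generalize hd : M 1 1 = d at hg hdet
  have htr : a + d = 2 := by linear_combination hdet - hg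
  have hbc : b * c = (a - 1) * (d - 1) := by linear_combination -hg
  ext i j
  fin_cases i <;> fin_cases j
  · simp [Matrix.mul_apply, Fin.sum_univ_two, ha, hb, hc, hd]
    linear_combination (a - 1) * htr - hg
  · simp [Matrix.mul_apply, Fin.sum_univ_two, ha, hb, hc, hd]
    linear_combination b * htr
  · simp [Matrix.mul_apply, Fin.sum_univ_two, ha, hb, hc, hd]
    linear_combination c * htr
  · simp [Matrix.mul_apply, Fin.sum_univ_two, ha, hb, hc, hd]
    linear_combination (d - 1) * htr - hg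

/-- (SL2a) -/
theorem pow_eq_one_of_detSubOne_eq_zero {F : Type*} [Field F] {p : ℕ} [Fact p.Prime]
    [CharP F p] (g : SpecialLinearGroup (Fin 2) F) (hg : detSubOne g = 0) : g ^ p = 1 := by
  have hp : p.Prime := Fact.out
  have hN := sub_one_sq_eq_zero g hg
  have hNp : ((g : Matrix (Fin 2) (Fin 2) F) - 1) ^ p = 0 := by
    obtain ⟨k, hk⟩ : ∃ k, p = 2 + k := ⟨p - 2, by have := hp.two_le; omega⟩
    rw [hk, pow_add, pow_two, hN, zero_mul]
  have hMp : (g : Matrix (Fin 2) (Fin 2) F) ^ p = 1 := by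
    have h1 : (g : Matrix (Fin 2) (Fin 2) F) = ((g : Matrix (Fin 2) (Fin 2) F) - 1) + 1 := by
      abel
    have h2 : Commute ((g : Matrix (Fin 2) (Fin 2) F) - 1) (1 : Matrix (Fin 2) (Fin 2) F) :=
      Commute.one_right _
    have h3 := add_pow_char_of_commute p h2
    rw [← h1, hNp, one_pow, zero_add] at h3
    exact h3
  apply Matrix.SpecialLinearGroup.ext
  intro i j
  have h4 : ((g ^ p : Matrix.SpecialLinearGroup (Fin 2) F) : Matrix (Fin 2) (Fin 2) F) =
      (g : Matrix (Fin 2) (Fin 2) F) ^ p := Matrix.SpecialLinearGroup.coe_pow g p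
  rw [h4, hMp, Matrix.SpecialLinearGroup.coe_one]

end Cfsg.Agent.Helper62.FrakL
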