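import Mathlib
import Cfsg.Prelude.Def_Transfer
import Cfsg.Agent.Helper74.HSDefs

/-!
# S3032, piece (U2) of helper74's WANTED #5823/#5824

If the `q'`-elements of `resid q G` centralize the normal `q`-subgroup `Q`, then `Q` carries a
`G`-chief chain with cyclic factors (`Helper9.SSChain Q`).  Piece (U1) (existence of a normal
subgroup of order `q` inside `Q`) is taken as an explicit hypothesis, for all groups in the
universe, because the induction passes to quotients.
-/

set_option autoImplicit false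

namespace Cfsg.Agent.Helper62.HSU2

open Cfsg.Agent.Helper74.HS

universe u

/-- Every homomorphism to `(ZMod q)ˣ` kills an element of order dividing `q`. -/
theorem char_eq_one_of_pow_q {q : ℕ} [Fact q.Prime] {G : Type*} [Group G] (χ : G →* (ZMod q)ˣ)
    (n : G) (hn : n ^ q = 1) : χ n = 1 := by
  have h1 : (χ n) ^ q = 1 := by rw [← map_pow, hn, map_one]
  have h2 : (χ n) ^ (q - 1) = 1 := by
    have h := pow_pred_mem_resid (q := q) n
    rw [mem_resid] at h
    have h' := h χ
    rwa [map_pow] at h'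
  have hq : q - 1 + 1 = q := Nat.sub_add_cancel (Fact.out : q.Prime).pos
  calc χ n = (χ n) ^ (q - 1) * χ n := by rw [h2, one_mul]
    _ = (χ n) ^ (q - 1 + 1) := by rw [pow_succ]
    _ = (χ n) ^ q := by rw [hq]
    _ = 1 := h1

/-- Lifts of elements of `resid q (G ⧸ N)` lie in `resid q G` when `N` has exponent `q`. -/
theorem mem_resid_of_mk_mem {q : ℕ} [Fact q.Prime] {G : Type*} [Group G] (N : Subgroup G)
    [N.Normal] (hN : ∀ n ∈ N, n ^ q = 1) (b₀ : G)
    (hb : (QuotientGroup.mk' N b₀) ∈ resid q (G ⧸ N)) : b₀ ∈ resid q G := by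
  rw [mem_resid] at hb ⊢
  intro χ
  have hker : N ≤ χ.ker := fun n hn => by
    rw [MonoidHom.mem_ker]; exact char_eq_one_of_pow_q χ n (hN n hn)
  have h := hb (QuotientGroup.lift N χ hker)
  simpa using h

/-- The induction behind (U2), over all groups of a universe, with (U1) as a hypothesis. -/
theorem ssChain_aux {q : ℕ} [Fact q.Prime]
    (U1 : ∀ (G : Type u) [Group G] [Finite G] (Q : Subgroup G) [Q.Normal], IsPGroup q Q → Q ≠ ⊥ →
      (∀ b ∈ resid q G, (orderOf b).Coprime q → ∀ x ∈ Q, b * x = x * b) →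
      ∃ N : Subgroup G, N ≤ Q ∧ N.Normal ∧ Nat.card N = q) :
    ∀ (n : ℕ) (G : Type u) [Group G] [Finite G] (Q : Subgroup G) [Q.Normal], Nat.card G = n →
      IsPGroup q Q →
      (∀ b ∈ resid q G, (orderOf b).Coprime q → ∀ x ∈ Q, b * x = x * b) →
      Cfsg.Agent.Helper9.SSChain Q := by
  intro n
  induction n using Nat.strong_induction_on with
  | _ n ih =>
    intro G _ _ Q hQn hn hQ hB
    by_cases hne : Q = ⊥
    · rw [hne]; exact Cfsg.Agent.Helper9.SSChain.bot
    obtain ⟨N, hNQ, hNn, hNq⟩ := U1 G Q hQ hne hB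
    have := hNn
    have hqp : q.Prime := Fact.out
    -- `N` has exponent `q`
    have hNpow : ∀ n ∈ N, n ^ q = 1 := by
      intro n hn
      have h : (⟨n, hn⟩ : N) ^ Nat.card N = 1 := pow_card_eq_one'
      rw [hNq] at h
      simpa using congrArg Subtype.val h
    -- the quotient is smaller
    have hlt : Nat.card (G ⧸ N) < n := by
      have h1 := Subgroup.card_eq_card_quotient_mul_card_subgroup N
      rw [hNq, hn] at h1
      have h2 : 0 < Nat.card (G ⧸ N) := Nat.card_pos
      have h3 : 2 ≤ q := hqp.two_le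
      nlinarith
    have hsurj : Function.Surjective (QuotientGroup.mk' N) := QuotientGroup.mk'_surjective N
    have hQbar : (Q.map (QuotientGroup.mk' N)).Normal := hQn.map _ hsurj
    have hQbarp : IsPGroup q (Q.map (QuotientGroup.mk' N)) := hQ.map _
    -- the centralizing hypothesis passes to the quotient
    have hB' : ∀ b ∈ resid q (G ⧸ N), (orderOf b).Coprime q →
        ∀ x ∈ Q.map (QuotientGroup.mk' N), b * x = x * b := by
      intro bbar hbbar hcop xbar hxbar
      obtain ⟨x, hxQ, rfl⟩ := Subgroup.mem_map.mp hxbar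
      obtain ⟨b₀, rfl⟩ := hsurj bbar
      have hb₀ : b₀ ∈ resid q G := mem_resid_of_mk_mem N hNpow b₀ hbbar
      by_cases hm1 : orderOf (QuotientGroup.mk' N b₀) = 1
      · rw [orderOf_eq_one_iff] at hm1
        rw [hm1, one_mul, mul_one]
      have hmpos : 0 < orderOf (QuotientGroup.mk' N b₀) := orderOf_pos _
      have hm2 : 1 < orderOf (QuotientGroup.mk' N b₀) := by omega
      obtain ⟨s, -, hs⟩ := Nat.exists_mul_mod_eq_one_of_coprime hcop.symm hm2
      have hmk : QuotientGroup.mk' N (b₀ ^ (q * s)) = QuotientGroup.mk' N b₀ := by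
        rw [map_pow, ← pow_mod_orderOf, hs, pow_one]
      have hbm : b₀ ^ orderOf (QuotientGroup.mk' N b₀) ∈ N := by
        rw [← QuotientGroup.eq_one_iff, ← QuotientGroup.mk'_apply, map_pow, pow_orderOf_eq_one]
      have hbpow : (b₀ ^ (q * s)) ^ orderOf (QuotientGroup.mk' N b₀) = 1 := by
        have h := hNpow _ hbm
        calc (b₀ ^ (q * s)) ^ orderOf (QuotientGroup.mk' N b₀)
            = ((b₀ ^ orderOf (QuotientGroup.mk' N b₀)) ^ q) ^ s := by
              rw [← pow_mul, ← pow_mul, ← pow_mul]; congr 1; ring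
          _ = 1 := by rw [h, one_pow]
      have hbcop : (orderOf (b₀ ^ (q * s))).Coprime q :=
        Nat.Coprime.coprime_dvd_left (orderOf_dvd_of_pow_eq_one hbpow) hcop
      have hcomm := hB (b₀ ^ (q * s)) (Subgroup.pow_mem _ hb₀ _) hbcop x hxQ
      rw [← hmk, ← map_mul, ← map_mul, hcomm]
    have hss := ih (Nat.card (G ⧸ N)) hlt (G ⧸ N) (Q.map (QuotientGroup.mk' N)) rfl hQbarp hB'
    -- pull back
    have : IsCyclic N := isCyclic_of_prime_card hNq
    have hker : Cfsg.Agent.Helper9.SSChain (QuotientGroup.mk' N).ker := by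
      rw [QuotientGroup.ker_mk']
      exact Cfsg.Agent.Helper9.ssChain_of_isCyclic N
    have hcomap := Cfsg.Agent.Helper9.SSChain.comap (QuotientGroup.mk' N) hsurj hker hss
    have heq : (Q.map (QuotientGroup.mk' N)).comap (QuotientGroup.mk' N) = Q := by
      rw [Subgroup.comap_map_eq, QuotientGroup.ker_mk']
      exact sup_eq_left.mpr hNQ
    rwa [heq] at hcomap

/-- (U2), with (U1) as an explicit hypothesis. -/
theorem ssChain_of_resid_centralizes' {q : ℕ} [Fact q.Prime]
    (U1 : ∀ (G : Type u) [Group G] [Finite G] (Q : Subgroup G) [Q.Normal], IsPGroup q Q → Q ≠ ⊥ →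
      (∀ b ∈ resid q G, (orderOf b).Coprime q → ∀ x ∈ Q, b * x = x * b) →
      ∃ N : Subgroup G, N ≤ Q ∧ N.Normal ∧ Nat.card N = q)
    {G : Type u} [Group G] [Finite G] (Q : Subgroup G) [Q.Normal]
    (hQ : IsPGroup q Q)
    (hB : ∀ b ∈ resid q G, (orderOf b).Coprime q → ∀ x ∈ Q, b * x = x * b) :
    Cfsg.Agent.Helper9.SSChain Q :=
  ssChain_aux U1 (Nat.card G) G Q rfl hQ hB

end Cfsg.Agent.Helper62.HSU2
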