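import Mathlib
import Cfsg.Prelude.Def_Characters
import Cfsg.Prelude.Def_Blocks
import Cfsg.Agent.Helper17.O459Defs
import Cfsg.Agent.Helper17.ExcApply
import Cfsg.Agent.Helper41.O459DEG
import Cfsg.Agent.Helper79.O459A13

set_option autoImplicit false

/-! # (AR-A) of #6513 for helper17 (S1022): the counting equations of the principal 19-block

`exists_counts'` takes (DEG), (A1), (A3) of #6513 as hypotheses; `exists_counts` is the exact
signature of the post, glued to helper41's (DEG) and helper79's (A1), (A3). -/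

namespace Cfsg.Agent.Helper62.O459

open Cfsg Subgroup Cfsg.Agent.Helper17.O459

universe u

variable {G : Type u} [Group G] [Finite G]

omit [Finite G] in
/-- pure finset counting: a sum over a finset split along the value of a function `f`. -/
theorem sum_split_five {α : Type*} [DecidableEq α] (s : Finset α) (f : α → ℕ) (w : α → ℤ)
    (n₀ n₁ n₂ n₃ n₄ : ℕ) (w₀ w₁ w₂ w₃ w₄ : ℤ)
    (hne : n₀ ≠ n₁ ∧ n₀ ≠ n₂ ∧ n₀ ≠ n₃ ∧ n₀ ≠ n₄ ∧ n₁ ≠ n₂ ∧ n₁ ≠ n₃ ∧ n₁ ≠ n₄ ∧ n₂ ≠ n₃ ∧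
      n₂ ≠ n₄ ∧ n₃ ≠ n₄)
    (h : ∀ x ∈ s, (f x = n₀ ∧ w x = w₀) ∨ (f x = n₁ ∧ w x = w₁) ∨ (f x = n₂ ∧ w x = w₂) ∨
      (f x = n₃ ∧ w x = w₃) ∨ (f x = n₄ ∧ w x = w₄)) :
    ∑ x ∈ s, w x =
      ((s.filter fun x => f x = n₀).card : ℤ) * w₀ + ((s.filter fun x => f x = n₁).card : ℤ) * w₁ +
      ((s.filter fun x => f x = n₂).card : ℤ) * w₂ + ((s.filter fun x => f x = n₃).card : ℤ) * w₃ +
      ((s.filter fun x => f x = n₄).card : ℤ) * w₄ := by
  classical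
  have hc : ∀ n : ℕ, ((s.filter fun x => f x = n).card : ℤ) = ∑ x ∈ s, if f x = n then (1 : ℤ) else 0 := by
    intro n
    rw [Finset.card_filter]
    push_cast
    rfl
  rw [hc, hc, hc, hc, hc, Finset.sum_mul, Finset.sum_mul, Finset.sum_mul, Finset.sum_mul,
    Finset.sum_mul, ← Finset.sum_add_distrib, ← Finset.sum_add_distrib, ← Finset.sum_add_distrib,
    ← Finset.sum_add_distrib]
  refine Finset.sum_congr rfl fun x hx => ?_
  obtain ⟨h01, h02, h03, h04, h12, h13, h14, h23, h24, h34⟩ := hne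
  rcases h x hx with ⟨h1, h2⟩ | ⟨h1, h2⟩ | ⟨h1, h2⟩ | ⟨h1, h2⟩ | ⟨h1, h2⟩ <;> rw [h1, h2] <;>
    simp [*, Ne.symm, eq_comm]

/-- (AR-A) with (DEG), (A1), (A3) as hypotheses. -/
theorem exists_counts' [IsSimpleGroup G] (hG : Nat.card G = 459648) (M : Ideal AlgInt)
    (P : Sylow 19 G) (e : ℕ) (he : e = 2 ∨ e = 3 ∨ e = 6)
    (X Y : Set (IrrCharacter G)) (εX : IrrCharacter G → ℤ) (ε : ℤ)
    (hB : BrauerData G M P e X Y εX ε)
    (hDEG : ∀ (χ : IrrCharacter G) (s : ℤ), (s = 1 ∨ s = -1) →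
      (charDegree (χ : G → ℂ) : ℤ) ≡ s [ZMOD 19] →
      (charDegree (χ : G → ℂ) = 1 ∧ s = 1) ∨ (charDegree (χ : G → ℂ) = 18 ∧ s = -1) ∨
      (charDegree (χ : G → ℂ) = 56 ∧ s = -1) ∨ (charDegree (χ : G → ℂ) = 96 ∧ s = 1) ∨
      (charDegree (χ : G → ℂ) = 189 ∧ s = -1))
    (hA1 : Cfsg.Agent.Helper79.principalIrr G ∈ X ∧
      εX (Cfsg.Agent.Helper79.principalIrr G) = 1)
    (hA3 : ∃ y : ℕ, (∀ θ ∈ Y, charDegree (θ : G → ℂ) = y) ∧ y ∣ 24192 ∧
      (y : ℤ) ≡ ε * e [ZMOD 19] ∧ (18 / e) * y ^ 2 ≤ 459648) :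
    ∃ a b c d y : ℕ, a + b + c + d + 1 = e ∧
      (1 : ℤ) - 18 * a - 56 * b + 96 * c - 189 * d = ε * y ∧
      y ∣ 24192 ∧ (y : ℤ) ≡ ε * e [ZMOD 19] ∧ (18 / e) * y ^ 2 ≤ 459648 ∧
      (1 ≤ a → ∃ χ ∈ X, charDegree (χ : G → ℂ) = 18 ∧ εX χ = -1) ∧
      (2 ≤ c → ∃ χ ∈ X, ∃ χ' ∈ X, χ ≠ χ' ∧ charDegree (χ : G → ℂ) = 96 ∧ εX χ = 1 ∧
        charDegree (χ' : G → ℂ) = 96 ∧ εX χ' = 1) := by
  classical
  obtain ⟨hBun, hBdis, hXc, hYc, hXprop, hε, hYmod, hYeq, hYsum⟩ := hB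
  obtain ⟨y, hy1, hy2, hy3, hy4⟩ := hA3
  have hperf : commutator G = ⊤ :=
    Cfsg.Agent.Helper17.Exc.commutator_eq_top_of_simple (by rw [hG]; norm_num)
  have he0 : e ≠ 0 := by rcases he with h | h | h <;> omega
  have hXfin : X.Finite := by
    apply Set.finite_coe_iff.mp
    exact Nat.finite_of_card_ne_zero (by rw [hXc]; exact he0)
  have hYne : Y.Nonempty := by
    have h18 : (19 - 1) / e ≠ 0 := by rcases he with h | h | h <;> subst h <;> norm_num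
    have hYfin : Finite Y := Nat.finite_of_card_ne_zero (by rw [hYc]; exact h18)
    have : Nonempty Y := by
      by_contra hcon
      rw [not_nonempty_iff] at hcon
      apply h18
      rw [← hYc]
      exact Nat.card_of_isEmpty
    obtain ⟨⟨θ, hθ⟩⟩ := this
    exact ⟨θ, hθ⟩
  obtain ⟨θ, hθ⟩ := hYne
  set Xf := hXfin.toFinset with hXf
  have hmem : ∀ χ, χ ∈ Xf ↔ χ ∈ X := fun χ => Set.Finite.mem_toFinset hXfin
  have hcard : Xf.card = e := by
    rw [← hXc, Nat.card_coe_set_eq, Set.ncard_eq_toFinset_card X hXfin]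
  -- the classification of members of X
  have hcls : ∀ χ ∈ Xf,
      (charDegree (χ : G → ℂ) = 1 ∧ εX χ = 1) ∨ (charDegree (χ : G → ℂ) = 18 ∧ εX χ = -1) ∨
      (charDegree (χ : G → ℂ) = 56 ∧ εX χ = -1) ∨ (charDegree (χ : G → ℂ) = 96 ∧ εX χ = 1) ∨
      (charDegree (χ : G → ℂ) = 189 ∧ εX χ = -1) := by
    intro χ hχ
    obtain ⟨h1, h2, -⟩ := hXprop χ ((hmem χ).mp hχ)
    exact hDEG χ (εX χ) h1 h2
  -- degree one means principal
  have hone : (Xf.filter fun χ : IrrCharacter G => charDegree (χ : G → ℂ) = 1) =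
      {Cfsg.Agent.Helper79.principalIrr G} := by
    ext χ
    simp only [Finset.mem_filter, Finset.mem_singleton]
    constructor
    · rintro ⟨-, h1⟩
      by_contra hne
      have := Cfsg.Agent.Helper17.Exc.one_lt_charDegree_of_perfect hperf χ hne
      omega
    · rintro rfl
      exact ⟨(hmem _).mpr hA1.1, Cfsg.Agent.Helper17.Exc.charDegree_principal⟩
  set a := (Xf.filter fun χ : IrrCharacter G => charDegree (χ : G → ℂ) = 18).card with ha
  set b := (Xf.filter fun χ : IrrCharacter G => charDegree (χ : G → ℂ) = 56).card with hb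
  set c := (Xf.filter fun χ : IrrCharacter G => charDegree (χ : G → ℂ) = 96).card with hc
  set d := (Xf.filter fun χ : IrrCharacter G => charDegree (χ : G → ℂ) = 189).card with hd
  -- counting members
  have hcount := sum_split_five Xf (fun χ : IrrCharacter G => charDegree (χ : G → ℂ)) (fun _ => (1 : ℤ))
    1 18 56 96 189 1 1 1 1 1 (by norm_num) (by
      intro χ hχ
      rcases hcls χ hχ with h | h | h | h | h
      · exact Or.inl ⟨h.1, rfl⟩
      · exact Or.inr (Or.inl ⟨h.1, rfl⟩)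
      · exact Or.inr (Or.inr (Or.inl ⟨h.1, rfl⟩))
      · exact Or.inr (Or.inr (Or.inr (Or.inl ⟨h.1, rfl⟩)))
      · exact Or.inr (Or.inr (Or.inr (Or.inr ⟨h.1, rfl⟩))))
  -- the weighted sum
  have hwsum := sum_split_five Xf (fun χ : IrrCharacter G => charDegree (χ : G → ℂ))
    (fun χ => εX χ * (charDegree (χ : G → ℂ) : ℤ))
    1 18 56 96 189 1 (-18) (-56) 96 (-189) (by norm_num) (by
      intro χ hχ
      rcases hcls χ hχ with h | h | h | h | h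
      · exact Or.inl ⟨h.1, by rw [h.1, h.2]; norm_num⟩
      · exact Or.inr (Or.inl ⟨h.1, by rw [h.1, h.2]; norm_num⟩)
      · exact Or.inr (Or.inr (Or.inl ⟨h.1, by rw [h.1, h.2]; norm_num⟩))
      · exact Or.inr (Or.inr (Or.inr (Or.inl ⟨h.1, by rw [h.1, h.2]; norm_num⟩)))
      · exact Or.inr (Or.inr (Or.inr (Or.inr ⟨h.1, by rw [h.1, h.2]; norm_num⟩))))
  simp only [hone, Finset.card_singleton] at hcount hwsum
  rw [← ha, ← hb, ← hc, ← hd] at hcount hwsum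
  -- the value at 1
  have hval := hYsum θ hθ 1 (by rw [orderOf_one]; norm_num)
  rw [finsum_mem_eq_finite_toFinset_sum _ hXfin] at hval
  have hθ1 : (θ : G → ℂ) 1 = (y : ℂ) := by
    rw [← Cfsg.Agent.Helper74.charDegree_cast (Cfsg.Agent.Helper74.irr_isCharacter θ), hy1 θ hθ]
  have hχ1 : ∀ χ : IrrCharacter G, (χ : G → ℂ) 1 = ((charDegree (χ : G → ℂ) : ℤ) : ℂ) := by
    intro χ
    rw [← Cfsg.Agent.Helper74.charDegree_cast (Cfsg.Agent.Helper74.irr_isCharacter χ)]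
    simp
  have hval2 : ((ε * (y : ℤ) : ℤ) : ℂ) =
      ((∑ χ ∈ Xf, εX χ * (charDegree (χ : G → ℂ) : ℤ) : ℤ) : ℂ) := by
    push_cast
    rw [← hθ1, hval]
    refine Finset.sum_congr rfl fun χ _ => ?_
    rw [hχ1 χ]
    push_cast
    rfl
  have hval3 : ε * (y : ℤ) = ∑ χ ∈ Xf, εX χ * (charDegree (χ : G → ℂ) : ℤ) := by
    exact_mod_cast hval2
  refine ⟨a, b, c, d, y, ?_, ?_, hy2, hy3, hy4, ?_, ?_⟩
  · have h1 : ((Xf.card : ℕ) : ℤ) = ∑ _χ ∈ Xf, (1 : ℤ) := by simp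
    rw [hcard] at h1
    rw [hcount] at h1
    omega
  · rw [hval3, hwsum]
    ring
  · intro h1
    have : 0 < (Xf.filter fun χ : IrrCharacter G => charDegree (χ : G → ℂ) = 18).card := by omega
    obtain ⟨χ, hχ⟩ := Finset.card_pos.mp this
    rw [Finset.mem_filter] at hχ
    refine ⟨χ, (hmem χ).mp hχ.1, hχ.2, ?_⟩
    rcases hcls χ hχ.1 with h | h | h | h | h <;> first | exact h.2 | (have := h.1; omega)
  · intro h2
    have : 1 < (Xf.filter fun χ : IrrCharacter G => charDegree (χ : G → ℂ) = 96).card := by omega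
    obtain ⟨χ, hχ, χ', hχ', hne⟩ := Finset.one_lt_card.mp this
    rw [Finset.mem_filter] at hχ hχ'
    have hs : ∀ ψ ∈ Xf, charDegree (ψ : G → ℂ) = 96 → εX ψ = 1 := by
      intro ψ hψ h96
      rcases hcls ψ hψ with h | h | h | h | h <;> first | exact h.2 | (have := h.1; omega)
    exact ⟨χ, (hmem χ).mp hχ.1, χ', (hmem χ').mp hχ'.1, hne, hχ.2, hs χ hχ.1 hχ.2, hχ'.2,
      hs χ' hχ'.1 hχ'.2⟩

/-- (AR-A) of #6513, exact signature. -/
theorem exists_counts [IsSimpleGroup G] (hG : Nat.card G = 459648) (M : Ideal AlgInt)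
    (hM : IsPModular 19 M) (P : Sylow 19 G) (e : ℕ) (he : e = 2 ∨ e = 3 ∨ e = 6)
    (X Y : Set (IrrCharacter G)) (εX : IrrCharacter G → ℤ) (ε : ℤ)
    (hB : BrauerData G M P e X Y εX ε) :
    ∃ a b c d y : ℕ, a + b + c + d + 1 = e ∧
      (1 : ℤ) - 18 * a - 56 * b + 96 * c - 189 * d = ε * y ∧
      y ∣ 24192 ∧ (y : ℤ) ≡ ε * e [ZMOD 19] ∧ (18 / e) * y ^ 2 ≤ 459648 ∧
      (1 ≤ a → ∃ χ ∈ X, charDegree (χ : G → ℂ) = 18 ∧ εX χ = -1) ∧
      (2 ≤ c → ∃ χ ∈ X, ∃ χ' ∈ X, χ ≠ χ' ∧ charDegree (χ : G → ℂ) = 96 ∧ εX χ = 1 ∧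
        charDegree (χ' : G → ℂ) = 96 ∧ εX χ' = 1) :=
  exists_counts' hG M P e he X Y εX ε hB
    (fun χ s hs hmod => Cfsg.Agent.Helper41.O459.degree_cases hG χ s hs hmod)
    (Cfsg.Agent.Helper79.O459.principal_mem_X hG M hM P e he X Y εX ε hB)
    (Cfsg.Agent.Helper79.O459.exists_degree_Y hG M P e he X Y εX ε hB)

end Cfsg.Agent.Helper62.O459
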