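/-
helper62: π-closed groups: if `N_G(H)/C_G(H)` is a π'-group for all nontrivial π'-subgroups `H`
(π'-homogeneous), `K ⊴ G`, `K` and `G/K` π-closed, then `G` is π-closed.
-/
import Mathlib
import Cfsg.Agent.Helper11.PSolvable
import Cfsg.Agent.Helper62.Radical

set_option autoImplicit false
set_option linter.unusedSectionVars false

namespace Cfsg.Agent.Helper62

open scoped Pointwise

section basics

variable {G : Type*} [Group G] (π : Set ℕ)

/-- `x` is a π-element -/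
def IsPiElt (x : G) : Prop := ∀ p : ℕ, p.Prime → p ∣ orderOf x → p ∈ π

theorem isPiElt_one : IsPiElt π (1 : G) := by
  intro p hp hdvd
  rw [orderOf_one] at hdvd
  exact absurd (Nat.dvd_one.mp hdvd) hp.one_lt.ne'

variable {π}

theorem IsPiElt.of_orderOf_dvd {H : Type*} [Group H] {x : G} {y : H} (hx : IsPiElt π x)
    (h : orderOf y ∣ orderOf x) : IsPiElt π y :=
  fun p hp hdvd => hx p hp (hdvd.trans h)

theorem IsPiElt.pow {x : G} (hx : IsPiElt π x) (n : ℕ) : IsPiElt π (x ^ n) :=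
  hx.of_orderOf_dvd (orderOf_pow_dvd n)

theorem IsPiElt.map {H : Type*} [Group H] (f : G →* H) {x : G} (hx : IsPiElt π x) :
    IsPiElt π (f x) :=
  hx.of_orderOf_dvd (orderOf_map_dvd f x)

theorem IsPiElt.conj {x : G} (hx : IsPiElt π x) (g : G) : IsPiElt π (g * x * g⁻¹) := by
  have : orderOf (g * x * g⁻¹) = orderOf x := by
    have := orderOf_injective (MulAut.conj g).toMonoidHom (MulAut.conj g).injective x
    simpa using this
  exact hx.of_orderOf_dvd this.dvd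

theorem isPiElt_of_pow_prime_pow_eq_one {p : ℕ} (hp : p.Prime) (hpπ : p ∈ π) {x : G} {a : ℕ}
    (hx : x ^ p ^ a = 1) : IsPiElt π x := by
  intro r hr hdvd
  have h1 : r ∣ p ^ a := hdvd.trans (orderOf_dvd_of_pow_eq_one hx)
  have h2 : r ∣ p := hr.dvd_of_dvd_pow h1
  rw [(Nat.prime_dvd_prime_iff_eq hr hp).mp h2]
  exact hpπ

theorem isPiElt_coe {H : Subgroup G} (x : H) : IsPiElt π (x : G) ↔ IsPiElt π x := by
  unfold IsPiElt
  rw [Subgroup.orderOf_coe]

/-- if all elements of a finite group are π-elements, all prime divisors of the order are in π -/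
theorem mem_of_dvd_card_of_forall_isPiElt [Finite G] (h : ∀ x : G, IsPiElt π x) {r : ℕ}
    (hr : r.Prime) (hdvd : r ∣ Nat.card G) : r ∈ π := by
  haveI : Fact r.Prime := ⟨hr⟩
  obtain ⟨x, hx⟩ := exists_prime_orderOf_dvd_card' r hdvd
  exact h x r hr (by rw [hx])

end basics

section key

variable {G : Type*} [Group G] [Finite G] {π : Set ℕ}

/-- the normalizer of `Q` normalizes the centralizer of `Q` -/
theorem normalizer_le_normalizer_centralizer (Q : Subgroup G) :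
    Subgroup.normalizer (Q : Set G) ≤
      Subgroup.normalizer ((Subgroup.centralizer (Q : Set G) : Subgroup G) : Set G) := by
  have key : ∀ n ∈ Subgroup.normalizer (Q : Set G), ∀ z ∈ Subgroup.centralizer (Q : Set G),
      n * z * n⁻¹ ∈ Subgroup.centralizer (Q : Set G) := by
    intro n hn z hz
    rw [Subgroup.mem_centralizer_iff]
    intro y hy
    have hy' : n⁻¹ * y * n ∈ Q := by
      have := (Subgroup.mem_normalizer_iff.mp (Subgroup.inv_mem _ hn) y).mp hy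
      simpa using this
    have hc := Subgroup.mem_centralizer_iff.mp hz _ hy'
    calc y * (n * z * n⁻¹) = n * ((n⁻¹ * y * n) * z) * n⁻¹ := by group
      _ = n * (z * (n⁻¹ * y * n)) * n⁻¹ := by rw [hc]
      _ = n * z * n⁻¹ * y := by group
  intro n hn
  rw [Subgroup.mem_normalizer_iff]
  intro z
  constructor
  · exact key n hn z
  · intro h
    have := key n⁻¹ (Subgroup.inv_mem _ hn) _ h
    have e : n⁻¹ * (n * z * n⁻¹) * n⁻¹⁻¹ = z := by group
    rwa [e] at this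

/-- `p`-elements (`p ∈ π`) of the normalizer of a `π'`-subgroup `Q` centralize it, when
`N(Q)/C(Q)` is a `π'`-group -/
theorem mem_centralizer_of_relIndex {p : ℕ} (hp : p.Prime) (Q : Subgroup G)
    (hrel : ¬ p ∣ (Subgroup.centralizer (Q : Set G)).relIndex (Subgroup.normalizer (Q : Set G)))
    {c : G} (hcN : c ∈ Subgroup.normalizer (Q : Set G)) {a : ℕ} (hc : c ^ p ^ a = 1) :
    c ∈ Subgroup.centralizer (Q : Set G) := by
  obtain ⟨C, hC⟩ : ∃ C, C = Subgroup.centralizer (Q : Set G) := ⟨_, rfl⟩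
  obtain ⟨N, hN⟩ : ∃ N, N = Subgroup.normalizer (Q : Set G) := ⟨_, rfl⟩
  rw [← hC, ← hN] at hrel
  rw [← hN] at hcN
  rw [← hC]
  have hCN : C ≤ N := by rw [hC, hN]; exact Subgroup.centralizer_le_normalizer _
  have hNC : N ≤ Subgroup.normalizer (C : Set G) := by
    rw [hC, hN]; exact normalizer_le_normalizer_centralizer Q
  obtain ⟨T, hT⟩ : ∃ T, T = Subgroup.zpowers c := ⟨_, rfl⟩
  have hTN : T ≤ N := by rw [hT, Subgroup.zpowers_le]; exact hcN
  have h1 : Nat.card (T ⊔ C : Subgroup G) ∣ Nat.card T * Nat.card C :=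
    card_sup_dvd_of_le_normalizer (hTN.trans hNC)
  have h2 : Nat.card C * C.relIndex (T ⊔ C) = Nat.card (T ⊔ C : Subgroup G) :=
    Cfsg.Agent.Helper11.card_mul_relIndex le_sup_right
  have h3 : C.relIndex (T ⊔ C) ∣ Nat.card T := by
    rw [← h2, mul_comm (Nat.card T)] at h1
    exact Nat.dvd_of_mul_dvd_mul_left Nat.card_pos h1
  have h4 : Nat.card T ∣ p ^ a := by
    rw [hT, Nat.card_zpowers]; exact orderOf_dvd_of_pow_eq_one hc
  have h5 : C.relIndex (T ⊔ C) ∣ C.relIndex N := by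
    have := Subgroup.relIndex_mul_relIndex C (T ⊔ C) N le_sup_right (sup_le hTN hCN)
    exact Dvd.intro _ this
  obtain ⟨j, -, hj⟩ := (Nat.dvd_prime_pow hp).mp (h3.trans h4)
  have hj0 : j = 0 := by
    by_contra hne
    apply hrel
    refine dvd_trans ?_ h5
    rw [hj]
    exact dvd_pow_self p hne
  rw [hj0, pow_zero, Subgroup.relIndex_eq_one] at hj
  exact hj (Subgroup.mem_sup_left (hT ▸ Subgroup.mem_zpowers c))

theorem isPGroup_zpowers_of_pow_eq_one {H : Type*} [Group H] {p : ℕ} (hp : p.Prime) {c : H} {a : ℕ}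
    (hc : c ^ p ^ a = 1) : IsPGroup p (Subgroup.zpowers c) := by
  have h1 : Nat.card (Subgroup.zpowers c) ∣ p ^ a := by
    rw [Nat.card_zpowers]; exact orderOf_dvd_of_pow_eq_one hc
  obtain ⟨j, -, hj⟩ := (Nat.dvd_prime_pow hp).mp h1
  have : Fact p.Prime := ⟨hp⟩
  exact IsPGroup.of_card hj

/-- Sylow conjugacy in `K⟨c⟩`: a `p`-element `x₁ ≡ c mod K` is `K`-conjugate to `w c` with `w` a
`p`-element of `K`. -/
theorem exists_conj_eq_mul {p : ℕ} [hp : Fact p.Prime] (K : Subgroup G) [hKn : K.Normal]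
    (P : Subgroup G) (hP : ∀ k ∈ K, (∃ a : ℕ, k ^ p ^ a = 1) → k ∈ P) {c x₁ : G} {a b : ℕ}
    (hc : c ^ p ^ a = 1) (hx₁ : x₁ ^ p ^ b = 1) (h : x₁ * c⁻¹ ∈ K) :
    ∃ k₂ ∈ K, ∃ w ∈ P, x₁ = k₂ * (w * c) * k₂⁻¹ := by
  obtain ⟨Γ, hΓ⟩ : ∃ Γ, Γ = K ⊔ Subgroup.zpowers c := ⟨_, rfl⟩
  have hKΓ : K ≤ Γ := hΓ ▸ le_sup_left
  have hcΓ : c ∈ Γ := hΓ ▸ Subgroup.mem_sup_right (Subgroup.mem_zpowers c)
  have hxΓ : x₁ ∈ Γ := by
    have : x₁ = (x₁ * c⁻¹) * c := by group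
    rw [this]; exact Γ.mul_mem (hKΓ h) hcΓ
  obtain ⟨c', hc'⟩ : ∃ c' : ↥Γ, (c' : G) = c := ⟨⟨c, hcΓ⟩, rfl⟩
  obtain ⟨x', hx'⟩ : ∃ x' : ↥Γ, (x' : G) = x₁ := ⟨⟨x₁, hxΓ⟩, rfl⟩
  have hc'p : c' ^ p ^ a = 1 := by
    apply Subtype.ext; rw [Subgroup.coe_pow, hc', hc]; rfl
  have hx'p : x' ^ p ^ b = 1 := by
    apply Subtype.ext; rw [Subgroup.coe_pow, hx', hx₁]; rfl
  obtain ⟨S, hS⟩ := (isPGroup_zpowers_of_pow_eq_one hp.out hc'p).exists_le_sylow
  obtain ⟨S₂, hS₂⟩ := (isPGroup_zpowers_of_pow_eq_one hp.out hx'p).exists_le_sylow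
  obtain ⟨γ, hγ⟩ := MulAction.exists_smul_eq ↥Γ S S₂
  have hγmem : (γ : G) ∈ (K : Set G) * ((Subgroup.zpowers c : Subgroup G) : Set G) := by
    rw [← Subgroup.normal_mul, ← hΓ]; exact γ.2
  obtain ⟨k₂, hk₂, t, ht, hkt⟩ := Set.mem_mul.mp hγmem
  obtain ⟨i, hi⟩ := Subgroup.mem_zpowers_iff.mp ht
  obtain ⟨k₂', hk₂'⟩ : ∃ k₂' : ↥Γ, (k₂' : G) = k₂ := ⟨⟨k₂, hKΓ hk₂⟩, rfl⟩
  have hγeq : γ = k₂' * c' ^ i := by
    apply Subtype.ext
    rw [Subgroup.coe_mul, Subgroup.coe_zpow, hk₂', hc', hi, hkt]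
  have hciS : c' ^ i ∈ (S : Subgroup ↥Γ) :=
    hS (Subgroup.zpow_mem _ (Subgroup.mem_zpowers c') i)
  have hsS : (c' ^ i) • S = S :=
    Sylow.smul_eq_iff_mem_normalizer.mpr (Subgroup.le_normalizer hciS)
  have hS₂eq : S₂ = k₂' • S := by rw [← hγ, hγeq, mul_smul, hsS]
  have hx'S₂ : x' ∈ (S₂ : Subgroup ↥Γ) := hS₂ (Subgroup.mem_zpowers x')
  rw [hS₂eq, Sylow.coe_subgroup_smul, Subgroup.mem_smul_pointwise_iff_exists] at hx'S₂
  obtain ⟨s, hsS', hseq⟩ := hx'S₂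
  rw [MulAut.smul_def, MulAut.conj_apply] at hseq
  have hseq' : k₂ * (s : G) * k₂⁻¹ = x₁ := by
    have := congrArg Subtype.val hseq
    simpa [hk₂', hx'] using this
  have hc'S : c' ∈ (S : Subgroup ↥Γ) := hS (Subgroup.mem_zpowers c')
  have hwS : s * c'⁻¹ ∈ (S : Subgroup ↥Γ) := Subgroup.mul_mem _ hsS' (Subgroup.inv_mem _ hc'S)
  obtain ⟨e, he⟩ := S.isPGroup' ⟨s * c'⁻¹, hwS⟩
  have hwpow : ((s : G) * c⁻¹) ^ p ^ e = 1 := by
    have h1 := congrArg Subtype.val he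
    have h2 := congrArg Subtype.val h1
    simpa [hc'] using h2
  have hwK : (s : G) * c⁻¹ ∈ K := by
    have hs : (s : G) = k₂⁻¹ * x₁ * k₂ := by rw [← hseq']; group
    have : (s : G) * c⁻¹ = k₂⁻¹ * (x₁ * c⁻¹) * (c * k₂ * c⁻¹) := by rw [hs]; group
    rw [this]
    exact K.mul_mem (K.mul_mem (K.inv_mem hk₂) h) (hKn.conj_mem _ hk₂ c)
  refine ⟨k₂, hk₂, (s : G) * c⁻¹, hP _ hwK ⟨e, hwpow⟩, ?_⟩
  rw [← hseq']
  group

/-- the subgroup of `K` of elements centralized modulo `P` by the subgroup `T` -/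
def centMod (K P T : Subgroup G) [hPn : P.Normal] : Subgroup G where
  carrier := {k | k ∈ K ∧ ∀ t ∈ T, t * k * t⁻¹ * k⁻¹ ∈ P}
  one_mem' := ⟨K.one_mem, fun t _ => by simp [P.one_mem]⟩
  mul_mem' := by
    rintro k₁ k₂ ⟨h1K, h1⟩ ⟨h2K, h2⟩
    refine ⟨K.mul_mem h1K h2K, fun t ht => ?_⟩
    have : t * (k₁ * k₂) * t⁻¹ * (k₁ * k₂)⁻¹ =
        (t * k₁ * t⁻¹ * k₁⁻¹) * (k₁ * (t * k₂ * t⁻¹ * k₂⁻¹) * k₁⁻¹) := by group
    rw [this]
    exact P.mul_mem (h1 t ht) (hPn.conj_mem _ (h2 t ht) k₁)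
  inv_mem' := by
    rintro k ⟨hK, h⟩
    refine ⟨K.inv_mem hK, fun t ht => ?_⟩
    have : t * k⁻¹ * t⁻¹ * k⁻¹⁻¹ = k⁻¹ * (t * k * t⁻¹ * k⁻¹)⁻¹ * k⁻¹⁻¹ := by group
    rw [this]
    exact hPn.conj_mem _ (P.inv_mem (h t ht)) k⁻¹

theorem mem_centMod {K P T : Subgroup G} [hPn : P.Normal] {k : G} :
    k ∈ centMod K P T ↔ k ∈ K ∧ ∀ t ∈ T, t * k * t⁻¹ * k⁻¹ ∈ P := Iff.rfl

theorem centMod_le (K P T : Subgroup G) [hPn : P.Normal] : centMod K P T ≤ K := fun _ h => h.1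

theorem le_centMod {K P T : Subgroup G} [hPn : P.Normal] (hPK : P ≤ K) : P ≤ centMod K P T := by
  intro u hu
  refine ⟨hPK hu, fun t _ => ?_⟩
  have : t * u * t⁻¹ * u⁻¹ = (t * u * t⁻¹) * u⁻¹ := by group
  rw [this]
  exact P.mul_mem (hPn.conj_mem _ hu t) (P.inv_mem hu)

theorem mem_zpowers_pow_of_coprime {x : G} {n m : ℕ} (hx : x ^ n = 1) (hmn : m.Coprime n) :
    x ∈ Subgroup.zpowers (x ^ m) := by
  rcases Nat.lt_or_ge 1 n with h1 | h1
  · obtain ⟨m', -, hm'⟩ := Nat.exists_mul_mod_eq_one_of_coprime hmn h1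
    have : x = (x ^ m) ^ m' := by
      rw [← pow_mul, pow_eq_pow_mod (m * m') hx, hm', pow_one]
    have h2 : (x ^ m) ^ m' ∈ Subgroup.zpowers (x ^ m) :=
      Subgroup.pow_mem _ (Subgroup.mem_zpowers _) _
    rwa [← this] at h2
  · interval_cases n
    · rw [Nat.coprime_zero_right] at hmn
      rw [hmn, pow_one]; exact Subgroup.mem_zpowers x
    · rw [pow_one] at hx
      rw [hx]; exact Subgroup.one_mem _

/-- `G` is `π'`-homogeneous, elementwise form: `p`-elements (`p ∈ π`) normalizing a `π'`-subgroup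
centralize it. -/
def PiHom (π : Set ℕ) (G : Type*) [Group G] : Prop :=
  ∀ H : Subgroup G, (∀ p : ℕ, p.Prime → p ∣ Nat.card ↥H → p ∉ π) →
    ∀ p : ℕ, p.Prime → p ∈ π → ∀ c ∈ Subgroup.normalizer (H : Set G), ∀ a : ℕ, c ^ p ^ a = 1 →
      c ∈ Subgroup.centralizer (H : Set G)

theorem piHom_of_relIndex
    (hhom : ∀ H : Subgroup G, H ≠ ⊥ → (∀ p : ℕ, p.Prime → p ∣ Nat.card ↥H → p ∉ π) →
      ∀ p : ℕ, p.Prime →
        p ∣ (Subgroup.centralizer (H : Set G)).relIndex (Subgroup.normalizer (H : Set G)) → p ∉ π) :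
    PiHom π G := by
  intro H hH p hp hpπ c hcN a hc
  by_cases hH1 : H = ⊥
  · rw [hH1, Subgroup.mem_centralizer_iff]
    intro h hh
    have : h = 1 := hh
    rw [this, one_mul, mul_one]
  · exact mem_centralizer_of_relIndex hp H (fun h => hhom H hH1 hH p hp h hpπ) hcN hc

theorem PiHom.subgroup (h : PiHom π G) (B : Subgroup G) : PiHom π ↥B := by
  intro H hH p hp hpπ c hcN a hc
  have hcard : Nat.card (H.map B.subtype) = Nat.card H :=
    Subgroup.card_map_of_injective B.subtype_injective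
  have h1 : (c : G) ∈ Subgroup.normalizer ((H.map B.subtype : Subgroup G) : Set G) :=
    Subgroup.le_normalizer_map B.subtype ⟨c, hcN, rfl⟩
  have h2 := h (H.map B.subtype) (by rw [hcard]; exact hH) p hp hpπ (c : G) h1 a
    (by rw [← Subgroup.coe_pow, hc]; rfl)
  rw [Subgroup.mem_centralizer_iff]
  intro y hy
  apply Subtype.ext
  exact Subgroup.mem_centralizer_iff.mp h2 (y : G) ⟨y, hy, rfl⟩

variable (hhom : PiHom π G)
  (K : Subgroup G) [hKn : K.Normal] (P : Subgroup G) [hPn : P.Normal] (hPK : P ≤ K)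
  (hP : ∀ k ∈ K, IsPiElt π k → k ∈ P)

include hhom hPK hP in
/-- for `q ∉ π`, some Sylow `q`-subgroup of `K` is centralized modulo `P` by the `p`-element `x` -/
theorem exists_cj_le_centMod {p : ℕ} (hp : p.Prime) (hpπ : p ∈ π) {x : G} {b : ℕ}
    (hx : x ^ p ^ b = 1) {q : ℕ} [hq : Fact q.Prime] (hqπ : q ∉ π) (Q₀ : Sylow q ↥K) :
    ∃ g ∈ K, cj g ((Q₀ : Subgroup ↥K).map K.subtype) ≤ centMod K P (Subgroup.zpowers x) := by
  have : Fact p.Prime := ⟨hp⟩
  obtain ⟨Q, hQ⟩ : ∃ Q, Q = (Q₀ : Subgroup ↥K).map K.subtype := ⟨_, rfl⟩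
  rw [← hQ]
  have hQK : Q ≤ K := hQ ▸ Subgroup.map_subtype_le _
  by_cases hQ1 : Q = ⊥
  · refine ⟨1, K.one_mem, ?_⟩
    rw [cj_one, hQ1]; exact bot_le
  have hQq : IsPGroup q Q := hQ ▸ Q₀.isPGroup'.map _
  have hQπ' : ∀ r : ℕ, r.Prime → r ∣ Nat.card Q → r ∉ π := by
    intro r hr hdvd
    obtain ⟨e, he⟩ := IsPGroup.iff_card.mp hQq
    rw [he] at hdvd
    have := (Nat.prime_dvd_prime_iff_eq hr hq.out).mp (hr.dvd_of_dvd_pow hdvd)
    rw [this]; exact hqπ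
  -- Frattini
  have hfr : Subgroup.normalizer (Q : Set G) ⊔ K = ⊤ := by
    rw [hQ]; exact Sylow.normalizer_sup_eq_top Q₀
  have hxmem : x ∈ ((Subgroup.normalizer (Q : Set G) : Subgroup G) : Set G) * (K : Set G) := by
    rw [← Subgroup.mul_normal, hfr]; trivial
  obtain ⟨n, hn, k, hk, hnk⟩ := Set.mem_mul.mp hxmem
  obtain ⟨a, m, hm, hnm⟩ := Nat.exists_eq_pow_mul_and_not_dvd (orderOf_pos n).ne' p hp.ne_one
  have hc : (n ^ m) ^ p ^ a = 1 := by
    rw [← pow_mul, mul_comm, ← hnm, pow_orderOf_eq_one]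
  have hcN : n ^ m ∈ Subgroup.normalizer (Q : Set G) := Subgroup.pow_mem _ hn m
  have hcC : n ^ m ∈ Subgroup.centralizer (Q : Set G) := hhom Q hQπ' p hp hpπ _ hcN a hc
  have hx₁ : (x ^ m) ^ p ^ b = 1 := by
    rw [← pow_mul, mul_comm, pow_mul, hx, one_pow]
  have hmod : x ^ m * (n ^ m)⁻¹ ∈ K := by
    rw [← QuotientGroup.eq_one_iff]
    have h1 : (QuotientGroup.mk' K) x = (QuotientGroup.mk' K) n := by
      rw [← hnk, map_mul]
      have : (QuotientGroup.mk' K) k = 1 := by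
        rw [QuotientGroup.mk'_apply, QuotientGroup.eq_one_iff]; exact hk
      rw [this, mul_one]
    have h2 : (QuotientGroup.mk' K) (x ^ m * (n ^ m)⁻¹) = 1 := by
      rw [map_mul, map_inv, map_pow, map_pow, h1, mul_inv_cancel]
    exact h2
  have hP' : ∀ k ∈ K, (∃ a : ℕ, k ^ p ^ a = 1) → k ∈ P := fun k hk ⟨a, ha⟩ =>
    hP k hk (isPiElt_of_pow_prime_pow_eq_one hp hpπ ha)
  obtain ⟨k₂, hk₂, w, hw, hx₁eq⟩ := exists_conj_eq_mul K P hP' hc hx₁ hmod
  refine ⟨k₂, hk₂, ?_⟩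
  -- every element of `zpowers x` is of the form `k₂ (u c'') k₂⁻¹`
  have hmp : m.Coprime (p ^ b) :=
    Nat.Coprime.pow_right b (Nat.coprime_comm.mp ((Nat.Prime.coprime_iff_not_dvd hp).mpr hm))
  have hxin : x ∈ Subgroup.zpowers (x ^ m) := mem_zpowers_pow_of_coprime hx hmp
  have hzle : Subgroup.zpowers x ≤ cj k₂ (P ⊔ Subgroup.centralizer (Q : Set G)) := by
    rw [Subgroup.zpowers_le]
    have h1 : Subgroup.zpowers (x ^ m) ≤ cj k₂ (P ⊔ Subgroup.centralizer (Q : Set G)) := by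
      rw [Subgroup.zpowers_le, hx₁eq, mem_cj]
      exact ⟨w * n ^ m, Subgroup.mul_mem _ (Subgroup.mem_sup_left hw)
        (Subgroup.mem_sup_right hcC), rfl⟩
    exact h1 hxin
  intro y' hy'
  obtain ⟨y, hy, rfl⟩ := mem_cj.mp hy'
  refine ⟨hKn.conj_mem _ (hQK hy) k₂, fun t ht => ?_⟩
  obtain ⟨v, hv, rfl⟩ := mem_cj.mp (hzle ht)
  have hvmem : v ∈ (P : Set G) * ((Subgroup.centralizer (Q : Set G) : Subgroup G) : Set G) := by
    rw [← Subgroup.normal_mul]; exact hv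
  obtain ⟨u, hu, c'', hc'', rfl⟩ := Set.mem_mul.mp hvmem
  have hcy : c'' * y * c''⁻¹ = y := by
    have := Subgroup.mem_centralizer_iff.mp hc'' y hy
    rw [← this]; group
  have : k₂ * (u * c'') * k₂⁻¹ * (k₂ * y * k₂⁻¹) * (k₂ * (u * c'') * k₂⁻¹)⁻¹ * (k₂ * y * k₂⁻¹)⁻¹ =
      k₂ * (u * (c'' * y * c''⁻¹) * u⁻¹ * y⁻¹) * k₂⁻¹ := by group
  rw [this, hcy]
  apply hPn.conj_mem
  have : u * y * u⁻¹ * y⁻¹ = u * (y * u⁻¹ * y⁻¹) := by group
  rw [this]
  exact P.mul_mem hu (hPn.conj_mem _ (P.inv_mem hu) y)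

include hhom hPK hP in
theorem centMod_zpowers_eq {p : ℕ} (hp : p.Prime) (hpπ : p ∈ π) {x : G} {b : ℕ}
    (hx : x ^ p ^ b = 1) : centMod K P (Subgroup.zpowers x) = K := by
  apply le_antisymm (centMod_le K P _)
  rw [← Subgroup.relIndex_eq_one]
  by_contra hne
  obtain ⟨q, hq, hqdvd⟩ := Nat.exists_prime_and_dvd hne
  have : Fact q.Prime := ⟨hq⟩
  obtain ⟨Q₀⟩ : Nonempty (Sylow q ↥K) := inferInstance
  obtain ⟨Q, hQ⟩ : ∃ Q, Q = (Q₀ : Subgroup ↥K).map K.subtype := ⟨_, rfl⟩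
  have hQK : Q ≤ K := hQ ▸ Subgroup.map_subtype_le _
  have hex : ∃ g ∈ K, cj g Q ≤ centMod K P (Subgroup.zpowers x) := by
    by_cases hqπ : q ∈ π
    · refine ⟨1, K.one_mem, ?_⟩
      rw [cj_one]
      refine le_trans ?_ (le_centMod hPK)
      intro y hy
      rw [hQ] at hy
      obtain ⟨y₀, hy₀, rfl⟩ := hy
      obtain ⟨e, he⟩ := Q₀.isPGroup' ⟨y₀, hy₀⟩
      have he' : ((y₀ : ↥K) : G) ^ q ^ e = 1 := by
        have h1 := congrArg Subtype.val he
        have h2 := congrArg Subtype.val h1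
        simpa using h2
      exact hP _ y₀.2 (isPiElt_of_pow_prime_pow_eq_one hq hqπ he')
    · rw [hQ]
      exact exists_cj_le_centMod hhom K P hPK hP hp hpπ hx hqπ Q₀
  obtain ⟨g, hg, hle⟩ := hex
  have hcjK : cj g Q ≤ K := by
    intro y hy
    obtain ⟨z, hz, rfl⟩ := mem_cj.mp hy
    exact hKn.conj_mem _ (hQK hz) g
  have h1 : (centMod K P (Subgroup.zpowers x)).relIndex K ∣ (cj g Q).relIndex K :=
    Subgroup.relIndex_dvd_of_le_left K hle
  have h2 : (cj g Q).relIndex K = Q.relIndex K := by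
    have e1 := Cfsg.Agent.Helper11.card_mul_relIndex hcjK
    have e2 := Cfsg.Agent.Helper11.card_mul_relIndex hQK
    have e3 : Nat.card (cj g Q) = Nat.card Q :=
      (Nat.card_congr (Q.equivMapOfInjective _ (MulAut.conj g).injective).toEquiv).symm
    rw [e3, ← e2] at e1
    exact Nat.eq_of_mul_eq_mul_left Nat.card_pos e1
  have h3 : Q.relIndex K = (Q₀ : Subgroup ↥K).index := by
    unfold Subgroup.relIndex Subgroup.subgroupOf
    rw [hQ, Subgroup.comap_map_eq_self_of_injective K.subtype_injective]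
  rw [h2, h3] at h1
  exact Q₀.not_dvd_index (hqdvd.trans h1)

/-- the subgroup of `G` of elements centralizing `K` modulo `P` -/
def centModG (K P : Subgroup G) [hKn : K.Normal] [hPn : P.Normal] : Subgroup G where
  carrier := {g | ∀ k ∈ K, g * k * g⁻¹ * k⁻¹ ∈ P}
  one_mem' := fun k _ => by simp [P.one_mem]
  mul_mem' := by
    intro g₁ g₂ h1 h2 k hk
    have : g₁ * g₂ * k * (g₁ * g₂)⁻¹ * k⁻¹ =
        (g₁ * (g₂ * k * g₂⁻¹ * k⁻¹) * g₁⁻¹) * (g₁ * k * g₁⁻¹ * k⁻¹) := by group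
    rw [this]
    exact P.mul_mem (hPn.conj_mem _ (h2 k hk) g₁) (h1 k hk)
  inv_mem' := by
    intro g h k hk
    have hk' : g⁻¹ * k * g⁻¹⁻¹ ∈ K := hKn.conj_mem _ hk g⁻¹
    have h1 := P.inv_mem (h _ hk')
    have : (g * (g⁻¹ * k * g⁻¹⁻¹) * g⁻¹ * (g⁻¹ * k * g⁻¹⁻¹)⁻¹)⁻¹ = g⁻¹ * k * g⁻¹⁻¹ * k⁻¹ := by group
    rwa [this] at h1

theorem mem_centModG {K P : Subgroup G} [hKn : K.Normal] [hPn : P.Normal] {g : G} :
    g ∈ centModG K P ↔ ∀ k ∈ K, g * k * g⁻¹ * k⁻¹ ∈ P := Iff.rfl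

include hhom hPK hP in
theorem isPiElt_mem_centModG : ∀ (n : ℕ) (x : G), orderOf x = n → IsPiElt π x →
    x ∈ centModG K P := by
  intro n
  induction n using Nat.strong_induction_on with
  | _ n ih =>
  intro x hn hx
  by_cases h1 : n = 1
  · rw [h1] at hn
    rw [orderOf_eq_one_iff.mp hn]; exact Subgroup.one_mem _
  have hnpos : n ≠ 0 := by rw [← hn]; exact (orderOf_pos x).ne'
  obtain ⟨p, hp, hpn⟩ := Nat.exists_prime_and_dvd h1
  have hpπ : p ∈ π := hx p hp (hn ▸ hpn)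
  obtain ⟨a, m, hm, hnm⟩ := Nat.exists_eq_pow_mul_and_not_dvd hnpos p hp.ne_one
  have ha : a ≠ 0 := by
    intro h0
    rw [h0, pow_zero, one_mul] at hnm
    exact hm (hnm ▸ hpn)
  -- `x ^ m` is a `p`-element
  have hxm : (x ^ m) ^ p ^ a = 1 := by
    rw [← pow_mul, mul_comm, ← hnm, ← hn, pow_orderOf_eq_one]
  have h2 : x ^ m ∈ centModG K P := by
    intro k hk
    have := centMod_zpowers_eq hhom K P hPK hP hp hpπ hxm
    have hk' : k ∈ centMod K P (Subgroup.zpowers (x ^ m)) := by rw [this]; exact hk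
    exact hk'.2 _ (Subgroup.mem_zpowers _)
  -- `x ^ (p ^ a)` has smaller order
  have hmpos : 0 < m := Nat.pos_of_ne_zero (by
    intro h0; rw [h0, mul_zero] at hnm; exact hnpos hnm)
  have hord : orderOf (x ^ p ^ a) = m := by
    rw [orderOf_pow_of_dvd (pow_ne_zero a hp.ne_zero) (by rw [hn, hnm]; exact Dvd.intro _ rfl),
      hn, hnm, Nat.mul_div_cancel_left _ (pow_pos hp.pos a)]
  have hmlt : m < n := by
    rw [hnm]
    have : 1 < p ^ a := Nat.one_lt_pow ha hp.one_lt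
    nlinarith
  have h3 : x ^ p ^ a ∈ centModG K P := ih m hmlt _ hord (hx.pow _)
  -- combine
  have hcop : (p ^ a).Coprime m :=
    Nat.Coprime.pow_left a ((Nat.Prime.coprime_iff_not_dvd hp).mpr hm)
  have hxn : x ^ (p ^ a * m) = 1 := by rw [← hnm, ← hn, pow_orderOf_eq_one]
  -- x ∈ closure of the two
  have hgcd := Nat.gcd_eq_gcd_ab (p ^ a) m
  rw [hcop.gcd_eq_one] at hgcd
  have : x = (x ^ p ^ a) ^ (Nat.gcdA (p ^ a) m) * (x ^ m) ^ (Nat.gcdB (p ^ a) m) := by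
    rw [← zpow_natCast x (p ^ a), ← zpow_natCast x m, ← zpow_mul, ← zpow_mul, ← zpow_add,
      ← hgcd]
    simp
  rw [this]
  exact Subgroup.mul_mem _ (Subgroup.zpow_mem _ h3 _) (Subgroup.zpow_mem _ h2 _)

end key

section final

variable {G : Type*} [Group G] [Finite G] {π : Set ℕ}

/-- if `x ^ r` is a π-element and `r ∈ π` then `x` is a π-element -/
theorem isPiElt_of_pow_prime {x : G} {r : ℕ} (hr : r.Prime) (hrπ : r ∈ π) (h : IsPiElt π (x ^ r)) :
    IsPiElt π x := by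
  intro s hs hdvd
  by_cases hsr : s = r
  · rw [hsr]; exact hrπ
  apply h s hs
  have h1 : orderOf x ∣ r * orderOf (x ^ r) := by
    apply orderOf_dvd_of_pow_eq_one
    rw [pow_mul, pow_orderOf_eq_one]
  have h2 : s ∣ r * orderOf (x ^ r) := hdvd.trans h1
  rcases (Nat.Prime.dvd_mul hs).mp h2 with h3 | h3
  · exact absurd ((Nat.prime_dvd_prime_iff_eq hs hr).mp h3) hsr
  · exact h3

/-- a π-element `y` with `y ^ r = 1`, `r ∉ π` prime, is trivial -/
theorem eq_one_of_isPiElt_of_pow_prime {H : Type*} [Group H] {y : H} {r : ℕ} (hr : r.Prime)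
    (hrπ : r ∉ π) (hy : IsPiElt π y) (h : y ^ r = 1) : y = 1 := by
  have h1 : orderOf y ∣ r := orderOf_dvd_of_pow_eq_one h
  rcases (Nat.dvd_prime hr).mp h1 with h2 | h2
  · exact orderOf_eq_one_iff.mp h2
  · exact absurd (hy r hr (by rw [h2])) hrπ

/-- the π-generated subgroup `X` centralizing `K` modulo `P` and with `X K / K` a π-group meets `K`
in `P`. -/
theorem inf_le_of_centModG (K : Subgroup G) [hKn : K.Normal] (P : Subgroup G) [hPn : P.Normal]
    (hPK : P ≤ K) (hP : ∀ k ∈ K, IsPiElt π k → k ∈ P) (hPπ : ∀ u ∈ P, IsPiElt π u)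
    (hXC : Subgroup.closure {x : G | IsPiElt π x} ≤ centModG K P)
    (hXQ : ∀ x ∈ Subgroup.closure {x : G | IsPiElt π x}, IsPiElt π (QuotientGroup.mk' K x)) :
    Subgroup.closure {x : G | IsPiElt π x} ⊓ K ≤ P := by
  classical
  obtain ⟨X, hX⟩ : ∃ X, X = Subgroup.closure {x : G | IsPiElt π x} := ⟨_, rfl⟩
  rw [← hX] at hXC hXQ ⊢
  -- the quotient `X / (X ∩ P)`
  obtain ⟨q, hq⟩ : ∃ q : ↥X →* ↥X ⧸ P.subgroupOf X, q = QuotientGroup.mk' (P.subgroupOf X) :=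
    ⟨_, rfl⟩
  have hqsurj : Function.Surjective q := hq ▸ QuotientGroup.mk'_surjective _
  have hqker : ∀ y : ↥X, q y = 1 ↔ (y : G) ∈ P := by
    intro y
    rw [hq, QuotientGroup.mk'_apply, QuotientGroup.eq_one_iff, Subgroup.mem_subgroupOf]
  obtain ⟨Z, hZ⟩ : ∃ Z : Subgroup (↥X ⧸ P.subgroupOf X), Z = (K.subgroupOf X).map q := ⟨_, rfl⟩
  have hZn : Z.Normal := by
    rw [hZ]; exact Subgroup.Normal.map inferInstance q hqsurj
  have hZmem : ∀ z ∈ Z, ∃ y : ↥X, (y : G) ∈ K ∧ q y = z := by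
    intro z hz
    rw [hZ] at hz
    obtain ⟨y, hy, rfl⟩ := hz
    exact ⟨y, Subgroup.mem_subgroupOf.mp hy, rfl⟩
  -- `Z` is central
  have hZc : ∀ z ∈ Z, ∀ w : ↥X ⧸ P.subgroupOf X, z * w = w * z := by
    intro z hz w
    obtain ⟨y, hyK, rfl⟩ := hZmem z hz
    obtain ⟨v, rfl⟩ := hqsurj w
    have h1 : (v : G) * (y : G) * (v : G)⁻¹ * (y : G)⁻¹ ∈ P := hXC v.2 _ hyK
    have h2 : q (v * y * v⁻¹ * y⁻¹) = 1 := by
      rw [hqker]; simpa using h1
    rw [map_mul, map_mul, map_mul, map_inv, map_inv] at h2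
    have h3 : q v * q y = q y * q v := by
      have := congrArg (fun t => t * (q y * q v)) h2
      simpa [mul_assoc] using this
    exact h3.symm
  -- orders
  have hZπ' : ∀ r : ℕ, r.Prime → r ∣ Nat.card Z → r ∉ π := by
    intro r hr hdvd hrπ
    have : Fact r.Prime := ⟨hr⟩
    obtain ⟨z, hz⟩ := exists_prime_orderOf_dvd_card' r hdvd
    obtain ⟨y, hyK, hyz⟩ := hZmem (z : ↥X ⧸ P.subgroupOf X) z.2
    have h1 : (q y) ^ r = 1 := by
      rw [hyz, ← Subgroup.coe_pow, ← hz, pow_orderOf_eq_one]; rfl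
    rw [← map_pow, hqker] at h1
    have h2 : IsPiElt π ((y : G) ^ r) := by
      have := hPπ _ h1
      simpa using this
    have h3 : (y : G) ∈ P := hP _ hyK (isPiElt_of_pow_prime hr hrπ h2)
    have h4 : q y = 1 := (hqker y).mpr h3
    rw [hyz] at h4
    have h5 : z = 1 := Subtype.ext h4
    rw [h5, orderOf_one] at hz
    exact hr.one_lt.ne hz
  have hZidx : ∀ r : ℕ, r.Prime → r ∣ Z.index → r ∈ π := by
    intro r hr hdvd
    by_contra hrπ
    have : Fact r.Prime := ⟨hr⟩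
    rw [Subgroup.index_eq_card] at hdvd
    obtain ⟨w, hw⟩ := exists_prime_orderOf_dvd_card' r hdvd
    obtain ⟨w', rfl⟩ := QuotientGroup.mk_surjective w
    obtain ⟨y, rfl⟩ := hqsurj w'
    have h1 : ((q y : ↥X ⧸ P.subgroupOf X) : (↥X ⧸ P.subgroupOf X) ⧸ Z) ^ r = 1 := by
      rw [← hw, pow_orderOf_eq_one]
    rw [← QuotientGroup.mk_pow, QuotientGroup.eq_one_iff, ← map_pow] at h1
    obtain ⟨y', hy'K, hy'⟩ := hZmem _ h1
    -- `y ^ r ∈ K`
    have h2 : (y : G) ^ r ∈ K := by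
      have h3 : q (y'⁻¹ * y ^ r) = 1 := by rw [map_mul, map_inv, hy', inv_mul_cancel]
      rw [hqker] at h3
      have h4 : (y' : G)⁻¹ * (y : G) ^ r ∈ K := hPK (by simpa using h3)
      have : (y : G) ^ r = (y' : G) * ((y' : G)⁻¹ * (y : G) ^ r) := by group
      rw [this]; exact K.mul_mem hy'K h4
    have h5 : (QuotientGroup.mk' K (y : G)) ^ r = 1 := by
      rw [← map_pow, QuotientGroup.mk'_apply, QuotientGroup.eq_one_iff]; exact h2
    have h6 := eq_one_of_isPiElt_of_pow_prime hr hrπ (hXQ _ y.2) h5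
    rw [QuotientGroup.mk'_apply, QuotientGroup.eq_one_iff] at h6
    have h7 : q y ∈ Z := by
      rw [hZ]; exact Subgroup.mem_map_of_mem q (Subgroup.mem_subgroupOf.mpr h6)
    have h8 : ((q y : ↥X ⧸ P.subgroupOf X) : (↥X ⧸ P.subgroupOf X) ⧸ Z) = 1 :=
      (QuotientGroup.eq_one_iff _).mpr h7
    rw [h8, orderOf_one] at hw
    exact hr.one_lt.ne hw
  have hcop : (Nat.card Z).Coprime Z.index := by
    by_contra hnc
    obtain ⟨r, hr, h1, h2⟩ := Nat.Prime.not_coprime_iff_dvd.mp hnc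
    exact hZπ' r hr h1 (hZidx r hr h2)
  obtain ⟨H, hH⟩ := Subgroup.exists_right_complement'_of_coprime hcop
  have hdisj := hH.disjoint
  -- π-elements lie in `H`
  have hπH : ∀ w : ↥X ⧸ P.subgroupOf X, IsPiElt π w → w ∈ H := by
    intro w hw
    obtain ⟨⟨z, h⟩, hzh, -⟩ := hH.existsUnique w
    have hzh' : (z : ↥X ⧸ P.subgroupOf X) * (h : ↥X ⧸ P.subgroupOf X) = w := hzh
    have hcomm : Commute (z : ↥X ⧸ P.subgroupOf X) (h : ↥X ⧸ P.subgroupOf X) :=
      hZc _ z.2 _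
    have h1 : (z : ↥X ⧸ P.subgroupOf X) ^ orderOf w * (h : ↥X ⧸ P.subgroupOf X) ^ orderOf w = 1 := by
      rw [← hcomm.mul_pow, hzh', pow_orderOf_eq_one]
    have h2 : (z : ↥X ⧸ P.subgroupOf X) ^ orderOf w ∈ H := by
      rw [eq_inv_of_mul_eq_one_left h1]
      exact H.inv_mem (H.pow_mem h.2 _)
    have h3 : (z : ↥X ⧸ P.subgroupOf X) ^ orderOf w = 1 :=
      Subgroup.disjoint_def.mp hdisj (Z.pow_mem z.2 _) h2
    have h4 : orderOf (z : ↥X ⧸ P.subgroupOf X) = 1 := by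
      by_contra hne
      obtain ⟨r, hr, hrdvd⟩ := Nat.exists_prime_and_dvd hne
      have h5 : r ∣ orderOf w := hrdvd.trans (orderOf_dvd_of_pow_eq_one h3)
      have h6 : r ∣ Nat.card Z := by
        have hz' : orderOf (⟨z.1, z.2⟩ : ↥Z) ∣ Nat.card Z := orderOf_dvd_natCard _
        rw [← Subgroup.orderOf_coe] at hz'
        exact hrdvd.trans hz'
      exact hZπ' r hr h6 (hw r hr h5)
    rw [orderOf_eq_one_iff] at h4
    rw [← hzh', h4, one_mul]; exact h.2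
  -- `H = ⊤`
  have hHtop : H = ⊤ := by
    rw [eq_top_iff]
    intro w _
    obtain ⟨y, rfl⟩ := hqsurj w
    have h1 : (⊤ : Subgroup ↥X) ≤ H.comap q := by
      have h2 : Subgroup.closure (((↑) : ↥(Subgroup.closure {x : G | IsPiElt π x}) → G) ⁻¹'
          {x : G | IsPiElt π x}) = ⊤ := Subgroup.closure_closure_coe_preimage
      subst hX
      rw [← h2, Subgroup.closure_le]
      intro y hy
      have hy' : IsPiElt π (y : G) := hy
      exact hπH _ (((isPiElt_coe y).mp hy').map q)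
    exact h1 (Subgroup.mem_top y)
  have hZbot : Z = ⊥ := by
    rw [eq_bot_iff]
    intro z hz
    rw [Subgroup.mem_bot]
    exact Subgroup.disjoint_def.mp hdisj hz (hHtop ▸ Subgroup.mem_top z)
  intro z hz
  obtain ⟨hzX, hzK⟩ := Subgroup.mem_inf.mp hz
  have h1 : q ⟨z, hzX⟩ ∈ Z := by
    rw [hZ]; exact Subgroup.mem_map_of_mem q (Subgroup.mem_subgroupOf.mpr hzK)
  rw [hZbot, Subgroup.mem_bot, hqker] at h1
  exact h1

/-- **π-closure from a normal subgroup**, elementwise homogeneity hypothesis. -/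
theorem piClosed_of_normal' (hhom : PiHom π G)
    (K : Subgroup G) [hKn : K.Normal]
    (hK : ∃ L : Subgroup ↥K, ∀ x : ↥K, x ∈ L ↔ IsPiElt π x)
    (hQ : ∃ L : Subgroup (G ⧸ K), ∀ x : G ⧸ K, x ∈ L ↔ IsPiElt π x) :
    ∃ X : Subgroup G, ∀ x : G, x ∈ X ↔ IsPiElt π x := by
  obtain ⟨LK, hLK⟩ := hK
  obtain ⟨LQ, hLQ⟩ := hQ
  obtain ⟨P, hPdef⟩ : ∃ P, P = LK.map K.subtype := ⟨_, rfl⟩
  have hPK : P ≤ K := hPdef ▸ Subgroup.map_subtype_le _
  have hPmem : ∀ g : G, g ∈ P ↔ g ∈ K ∧ IsPiElt π g := by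
    intro g
    rw [hPdef]
    constructor
    · rintro ⟨y, hy, rfl⟩
      exact ⟨y.2, (isPiElt_coe y).mpr ((hLK y).mp hy)⟩
    · rintro ⟨hgK, hg⟩
      exact ⟨⟨g, hgK⟩, (hLK _).mpr ((isPiElt_coe (⟨g, hgK⟩ : ↥K)).mp hg), rfl⟩
  have hPn : P.Normal := ⟨fun n hn g => by
    rw [hPmem] at hn ⊢
    exact ⟨hKn.conj_mem _ hn.1 g, hn.2.conj g⟩⟩
  have hP : ∀ k ∈ K, IsPiElt π k → k ∈ P := fun k hk hkπ => (hPmem k).mpr ⟨hk, hkπ⟩
  have hPπ : ∀ u ∈ P, IsPiElt π u := fun u hu => ((hPmem u).mp hu).2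
  have hXC : Subgroup.closure {x : G | IsPiElt π x} ≤ centModG K P := by
    rw [Subgroup.closure_le]
    intro x hx
    exact isPiElt_mem_centModG hhom K P hPK hP _ x rfl hx
  have hXQ : ∀ x ∈ Subgroup.closure {x : G | IsPiElt π x}, IsPiElt π (QuotientGroup.mk' K x) := by
    have hle : Subgroup.closure {x : G | IsPiElt π x} ≤ LQ.comap (QuotientGroup.mk' K) := by
      rw [Subgroup.closure_le]
      intro x hx
      exact (hLQ _).mpr (IsPiElt.map (QuotientGroup.mk' K) hx)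
    intro x hx
    exact (hLQ _).mp (hle hx)
  have hinf := inf_le_of_centModG K P hPK hP hPπ hXC hXQ
  refine ⟨Subgroup.closure {x : G | IsPiElt π x}, fun x => ⟨fun hx => ?_, fun hx =>
    Subgroup.subset_closure hx⟩⟩
  intro r hr hdvd
  by_contra hrπ
  -- an element of order `r`
  obtain ⟨y, hyd⟩ : ∃ y, y = x ^ (orderOf x / r) := ⟨_, rfl⟩
  have hy : orderOf y = r := by
    rw [hyd]; exact orderOf_pow_orderOf_div (orderOf_pos x).ne' hdvd
  have hyX : y ∈ Subgroup.closure {x : G | IsPiElt π x} := by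
    rw [hyd]; exact Subgroup.pow_mem _ hx _
  have hyr : y ^ r = 1 := by
    have := pow_orderOf_eq_one y
    rwa [hy] at this
  have h1 : (QuotientGroup.mk' K y) ^ r = 1 := by
    rw [← map_pow, hyr, map_one]
  have h2 := eq_one_of_isPiElt_of_pow_prime hr hrπ (hXQ _ hyX) h1
  rw [QuotientGroup.mk'_apply, QuotientGroup.eq_one_iff] at h2
  have h3 : y ∈ P := hinf (Subgroup.mem_inf.mpr ⟨hyX, h2⟩)
  exact hrπ (hPπ _ h3 r hr (by rw [hy]))

/-- **π-closure from a normal subgroup** (generic form of S4051). -/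
theorem piClosed_of_normal
    (hhom : ∀ H : Subgroup G, H ≠ ⊥ → (∀ p : ℕ, p.Prime → p ∣ Nat.card ↥H → p ∉ π) →
      ∀ p : ℕ, p.Prime →
        p ∣ (Subgroup.centralizer (H : Set G)).relIndex (Subgroup.normalizer (H : Set G)) → p ∉ π)
    (K : Subgroup G) [hKn : K.Normal]
    (hK : ∃ L : Subgroup ↥K, ∀ x : ↥K, x ∈ L ↔ IsPiElt π x)
    (hQ : ∃ L : Subgroup (G ⧸ K), ∀ x : G ⧸ K, x ∈ L ↔ IsPiElt π x) :
    ∃ X : Subgroup G, ∀ x : G, x ∈ X ↔ IsPiElt π x :=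
  piClosed_of_normal' (piHom_of_relIndex hhom) K hK hQ


end final

section series

variable {G : Type*} [Group G] [Finite G] {π : Set ℕ}

/-- a π-separable, π'-homogeneous group is π-closed -/
theorem piClosed_of_series (hhom : PiHom π G) (n : ℕ) (H : Fin (n + 1) → Subgroup G)
    (h0 : H 0 = ⊥) (hlast : H (Fin.last n) = ⊤) (hmono : Monotone H) (hnorm : ∀ i, (H i).Normal)
    (hstep : ∀ i : Fin n,
      (∀ q : ℕ, q.Prime → q ∣ (H i.castSucc).relIndex (H i.succ) → q ∈ π) ∨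
      (∀ q : ℕ, q.Prime → q ∣ (H i.castSucc).relIndex (H i.succ) → q ∉ π)) :
    ∃ X : Subgroup G, ∀ x : G, x ∈ X ↔ IsPiElt π x := by
  have key : ∀ i : Fin (n + 1), ∃ L : Subgroup ↥(H i), ∀ x : ↥(H i), x ∈ L ↔ IsPiElt π x := by
    intro i
    induction i using Fin.induction with
    | zero =>
      refine ⟨⊤, fun x => ⟨fun _ => ?_, fun _ => Subgroup.mem_top x⟩⟩
      have hx : (x : G) ∈ (⊥ : Subgroup G) := h0 ▸ x.2
      rw [Subgroup.mem_bot] at hx
      have : x = 1 := Subtype.ext hx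
      rw [this]; exact isPiElt_one π
    | succ i ih =>
      obtain ⟨LA, hLA⟩ := ih
      have hAB : H i.castSucc ≤ H i.succ := hmono (Fin.castSucc_le_succ i)
      have := hnorm i.castSucc
      apply piClosed_of_normal' (hhom.subgroup (H i.succ)) ((H i.castSucc).subgroupOf (H i.succ))
      · -- the normal subgroup
        let e : ↥((H i.castSucc).subgroupOf (H i.succ)) ≃* ↥(H i.castSucc) :=
          Subgroup.subgroupOfEquivOfLe hAB
        refine ⟨LA.comap e.toMonoidHom, fun x => ?_⟩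
        rw [Subgroup.mem_comap, hLA]
        unfold IsPiElt
        rw [MulEquiv.coe_toMonoidHom, MulEquiv.orderOf_eq]
      · -- the quotient
        have hcard : Nat.card (↥(H i.succ) ⧸ (H i.castSucc).subgroupOf (H i.succ)) =
            (H i.castSucc).relIndex (H i.succ) := (Subgroup.index_eq_card _).symm
        rcases hstep i with hπ | hπ'
        · refine ⟨⊤, fun x => ⟨fun _ => ?_, fun _ => Subgroup.mem_top x⟩⟩
          intro p hp hdvd
          exact hπ p hp (hcard ▸ hdvd.trans (orderOf_dvd_natCard x))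
        · refine ⟨⊥, fun x => ⟨fun hx => ?_, fun hx => ?_⟩⟩
          · rw [Subgroup.mem_bot] at hx
            rw [hx]; exact isPiElt_one π
          · rw [Subgroup.mem_bot, ← orderOf_eq_one_iff]
            by_contra hne
            obtain ⟨r, hr, hrdvd⟩ := Nat.exists_prime_and_dvd hne
            exact hπ' r hr (hcard ▸ hrdvd.trans (orderOf_dvd_natCard x)) (hx r hr hrdvd)
  obtain ⟨L, hL⟩ := key (Fin.last n)
  refine ⟨L.map (H (Fin.last n)).subtype, fun x => ⟨?_, fun hx => ?_⟩⟩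
  · rintro ⟨y, hy, rfl⟩
    exact (isPiElt_coe y).mpr ((hL y).mp hy)
  · have hxH : x ∈ H (Fin.last n) := by rw [hlast]; exact Subgroup.mem_top x
    exact ⟨⟨x, hxH⟩, (hL _).mpr ((isPiElt_coe (⟨x, hxH⟩ : ↥(H (Fin.last n)))).mp hx), rfl⟩

/-- a π-closed group is π'-homogeneous -/
theorem relIndex_hom_of_piClosed (X : Subgroup G) (hX : ∀ x : G, x ∈ X ↔ IsPiElt π x)
    (H : Subgroup G) (hH : ∀ p : ℕ, p.Prime → p ∣ Nat.card ↥H → p ∉ π) (p : ℕ) (hp : p.Prime)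
    (hdvd : p ∣ (Subgroup.centralizer (H : Set G)).relIndex (Subgroup.normalizer (H : Set G))) :
    p ∉ π := by
  intro hpπ
  have : Fact p.Prime := ⟨hp⟩
  have hXn : ∀ x ∈ X, ∀ g : G, g * x * g⁻¹ ∈ X := fun x hx g =>
    (hX _).mpr (((hX x).mp hx).conj g)
  obtain ⟨N, hN⟩ : ∃ N, N = Subgroup.normalizer (H : Set G) := ⟨_, rfl⟩
  rw [← hN] at hdvd
  obtain ⟨S⟩ : Nonempty (Sylow p ↥N) := inferInstance
  have hSC : (S : Subgroup ↥N).map N.subtype ≤ Subgroup.centralizer (H : Set G) := by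
    rintro s ⟨s₀, hs₀, rfl⟩
    obtain ⟨e, he⟩ := S.isPGroup' ⟨s₀, hs₀⟩
    have he' : ((s₀ : ↥N) : G) ^ p ^ e = 1 := by
      have h1 := congrArg Subtype.val he
      have h2 := congrArg Subtype.val h1
      simpa using h2
    have hsX : ((s₀ : ↥N) : G) ∈ X := (hX _).mpr (isPiElt_of_pow_prime_pow_eq_one hp hpπ he')
    have hsN : ((s₀ : ↥N) : G) ∈ Subgroup.normalizer (H : Set G) := hN ▸ s₀.2
    rw [Subgroup.mem_centralizer_iff]
    intro h hh
    obtain ⟨s, hs⟩ : ∃ s : G, s = ((s₀ : ↥N) : G) := ⟨_, rfl⟩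
    show h * ((s₀ : ↥N) : G) = ((s₀ : ↥N) : G) * h
    rw [← hs] at hsX hsN ⊢
    have h1 : s * h * s⁻¹ * h⁻¹ ∈ H :=
      H.mul_mem ((Subgroup.mem_normalizer_iff.mp hsN h).mp hh) (H.inv_mem hh)
    have h2 : s * h * s⁻¹ * h⁻¹ ∈ X := by
      have : s * h * s⁻¹ * h⁻¹ = s * (h * s⁻¹ * h⁻¹) := by group
      rw [this]
      exact X.mul_mem hsX (hXn _ (X.inv_mem hsX) h)
    have h3 : orderOf (s * h * s⁻¹ * h⁻¹) = 1 := by
      by_contra hne
      obtain ⟨r, hr, hrdvd⟩ := Nat.exists_prime_and_dvd hne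
      have h4 : r ∣ Nat.card H := by
        have := orderOf_dvd_natCard (⟨_, h1⟩ : ↥H)
        rw [Subgroup.orderOf_mk] at this
        exact hrdvd.trans this
      exact hH r hr h4 ((hX _).mp h2 r hr hrdvd)
    rw [orderOf_eq_one_iff] at h3
    have : s * h = (s * h * s⁻¹ * h⁻¹) * (h * s) := by group
    rw [this, h3, one_mul]
  have hSN : (S : Subgroup ↥N).map N.subtype ≤ N := Subgroup.map_subtype_le _
  have h1 : (Subgroup.centralizer (H : Set G)).relIndex N ∣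
      ((S : Subgroup ↥N).map N.subtype).relIndex N := Subgroup.relIndex_dvd_of_le_left N hSC
  have h2 : ((S : Subgroup ↥N).map N.subtype).relIndex N = (S : Subgroup ↥N).index := by
    unfold Subgroup.relIndex Subgroup.subgroupOf
    rw [Subgroup.comap_map_eq_self_of_injective N.subtype_injective]
  rw [h2] at h1
  exact S.not_dvd_index (hdvd.trans h1)

/-- a π-closed group is π-separable, with the series `1 ≤ O_π(G) ≤ G` -/
theorem series_of_piClosed (X : Subgroup G) (hX : ∀ x : G, x ∈ X ↔ IsPiElt π x) :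
    ∃ (n : ℕ) (H : Fin (n + 1) → Subgroup G), H 0 = ⊥ ∧ H (Fin.last n) = ⊤ ∧ Monotone H ∧
      (∀ i, (H i).Normal) ∧
      ∀ i : Fin n, (∀ q : ℕ, q.Prime → q ∣ (H i.castSucc).relIndex (H i.succ) → q ∈ π) ∨
        (∀ q : ℕ, q.Prime → q ∣ (H i.castSucc).relIndex (H i.succ) → q ∉ π) := by
  have hXn : X.Normal := ⟨fun x hx g => (hX _).mpr (((hX x).mp hx).conj g)⟩
  refine ⟨2, ![⊥, X, ⊤], rfl, rfl, ?_, ?_, ?_⟩
  · rw [Fin.monotone_iff_le_succ]
    intro i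
    fin_cases i
    · exact bot_le
    · exact le_top
  · intro i
    fin_cases i
    · exact Subgroup.normal_bot
    · exact hXn
    · exact Subgroup.normal_top
  · intro i
    fin_cases i
    · left
      intro q hq hdvd
      have h1 : (⊥ : Subgroup G).relIndex X = Nat.card X := Subgroup.relIndex_bot_left X
      have hdvd' : q ∣ Nat.card X := h1 ▸ hdvd
      apply mem_of_dvd_card_of_forall_isPiElt (G := ↥X) _ hq hdvd'
      intro x
      exact (isPiElt_coe x).mp ((hX _).mp x.2)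
    · right
      intro q hq hdvd hqπ
      have h1 : X.relIndex ⊤ = X.index := Subgroup.relIndex_top_right X
      have hdvd' : q ∣ X.index := h1 ▸ hdvd
      have : Fact q.Prime := ⟨hq⟩
      obtain ⟨S⟩ : Nonempty (Sylow q G) := inferInstance
      have hSX : (S : Subgroup G) ≤ X := by
        intro s hs
        obtain ⟨e, he⟩ := S.isPGroup' ⟨s, hs⟩
        have he' : s ^ q ^ e = 1 := by
          have h2 := congrArg Subtype.val he
          simpa using h2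
        exact (hX _).mpr (isPiElt_of_pow_prime_pow_eq_one hq hqπ he')
      exact S.not_dvd_index (hdvd'.trans (Subgroup.index_dvd_of_le hSX))

end series

end Cfsg.Agent.Helper62
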