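import Mathlib
import Cfsg.Agent.Helper47.SGDefs
import Cfsg.Agent.S3736

/-!
# Piece (W8) of helper47's plan for the Shult–Gross theorem (S3793), by helper62

The reduced configuration of the key lemma follows from its abelian and its special case via the
Hall–Higman reduction S3736.
-/

set_option autoImplicit false

namespace Cfsg.Agent.Helper62.SG

open Cfsg.Agent.Helper47.SG
open scoped commutatorElement

universe uΓ uW

/-- W8 -/
theorem kl_reduced_of (h1 : KLAbelianStmt.{uΓ, uW}) (h2 : KLSpecialStmt.{uΓ, uW}) :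
    KLReducedStmt.{uΓ, uW} := by
  intro Γ _ _ W _ _ p q r n φ Q _ x hp hq hr hp2 hpq hpr hqr hWexp hQ hx hfaith hQfix hWfix hmin
  by_contra hcon
  haveI : Fact q.Prime := ⟨hq⟩
  set x1 : Γ := x ^ (p ^ n) with hx1
  set A : Subgroup Γ := Subgroup.zpowers x1 with hA
  set B : Subgroup Γ := Subgroup.zpowers x with hB
  have hx1B : x1 ∈ B := Subgroup.pow_mem _ (Subgroup.mem_zpowers x) _
  have hAB : A ≤ B := (Subgroup.zpowers_le).2 hx1B
  have hBP : B ≤ Subgroup.normalizer (Q : Set Γ) := by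
    rw [Subgroup.normalizer_eq_top]
    exact le_top
  have hAn : B ≤ Subgroup.normalizer (A : Set Γ) := by
    rw [hB, Subgroup.zpowers_le, Subgroup.mem_normalizer_iff]
    intro y
    have hcomm : ∀ y ∈ A, x * y * x⁻¹ = y := by
      intro y hy
      obtain ⟨k, rfl⟩ := Subgroup.mem_zpowers_iff.1 hy
      have h3 : Commute x (x1 ^ k) := ((Commute.refl x).pow_right _).zpow_right k
      rw [h3.eq, mul_inv_cancel_right]
    constructor
    · intro hy
      rw [hcomm y hy]; exact hy
    · intro hy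
      have h3 := hcomm _ hy
      have h4 : x * y * x⁻¹ = y := by
        have h5 : x * (x * y * x⁻¹) * x⁻¹ = x * y * x⁻¹ := h3
        exact mul_left_cancel (mul_right_cancel h5)
      rw [← h4]; exact hy
  have hx1p : x1 ^ p = 1 := by
    rw [hx1, ← pow_mul, ← pow_succ]; exact hx
  have hAp : (Nat.card A).Coprime q := by
    rw [hA, Nat.card_zpowers]
    have h3 : orderOf x1 ∣ p := orderOf_dvd_of_pow_eq_one hx1p
    rcases (Nat.dvd_prime hp).1 h3 with h4 | h4
    · rw [h4]; exact Nat.coprime_one_left q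
    · rw [h4]; exact (Nat.coprime_primes hp hq).2 hpq
  have hnt : ⁅Q, A⁆ ≠ ⊥ := by
    intro hb
    apply hcon
    intro a ha
    have h3 := (Subgroup.commutator_eq_bot_iff_le_centralizer).1 hb ha
    exact Subgroup.mem_centralizer_iff.1 h3 x1 (Subgroup.mem_zpowers x1)
  have hmin' : ∀ U : Subgroup Γ, U < Q → B ≤ Subgroup.normalizer (U : Set Γ) → ⁅U, A⁆ = ⊥ := by
    intro U hU hBU
    rw [Subgroup.commutator_eq_bot_iff_le_centralizer]
    intro a ha
    rw [Subgroup.mem_centralizer_iff]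
    intro y hy
    obtain ⟨k, rfl⟩ := Subgroup.mem_zpowers_iff.1 hy
    have h3 : Commute x1 a := hmin U hU hBU a ha
    exact (h3.zpow_left k).eq
  obtain ⟨hQA, hstruct, hirr, -⟩ :=
    Cfsg.Agent.S3736.result B A Q hQ hBP hAB hAn hAp hnt hmin'
  rcases hstruct with hab | hsp
  · have hcomm : ∀ a ∈ Q, ∀ b ∈ Q, a * b = b * a := by
      intro a ha b hb
      have h3 := hab.1.is_comm.comm (⟨a, ha⟩ : ↥Q) ⟨b, hb⟩
      exact congrArg Subtype.val h3
    have hQbot := h1 Γ W p q r n φ Q x hp hq hr hpq hpr hqr hWexp hQ hcomm hx hfaith hWfix hQA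
    apply hnt
    rw [hQbot]
    exact Subgroup.commutator_bot_left A
  · exact h2 Γ W p q r n φ Q x hp hq hr hp2 hpq hpr hqr hWexp hQ hsp hx hfaith hQfix hWfix hQA
      hirr

end Cfsg.Agent.Helper62.SG
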