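import Cfsg.Agent.Helper62.SL2Comm
import Cfsg.Agent.Helper1.CoprimeSylow

set_option autoImplicit false
open Matrix

namespace Cfsg.Agent.Helper62.SL2C

theorem eq_one_of_sq_of_pow {G : Type*} [Group G] (g : G) (r k : ℕ) (hr : r.Prime) (hr2 : r ≠ 2)
    (h2 : g ^ 2 = 1) (hk : g ^ (r ^ k) = 1) : g = 1 := by
  have h1 := orderOf_dvd_of_pow_eq_one h2
  have h3 := orderOf_dvd_of_pow_eq_one hk
  have hc : Nat.Coprime 2 (r ^ k) :=
    Nat.Coprime.pow_right k ((Nat.coprime_primes Nat.prime_two hr).2 hr2.symm)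
  exact orderOf_eq_one_iff.mp (Nat.eq_one_of_dvd_coprimes hc h1 h3)

variable {F : Type*} [Field F] [Fintype F]

local notation "SL2" => Matrix.SpecialLinearGroup (Fin 2) F

/-- subgroups of `SL₂(q)` of odd prime power order are abelian -/
theorem commute_of_odd_pgroup (r : ℕ) [Fact r.Prime] (hr : r ≠ 2) (S : Subgroup SL2)
    (hS : IsPGroup r S) : ∀ x ∈ S, ∀ y ∈ S, Commute x y := by
  have hrp : r.Prime := Fact.out
  by_cases hS1 : S = ⊥
  · intro x hx y hy
    rw [hS1, Subgroup.mem_bot] at hx
    rw [hx]; exact Commute.one_left y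
  have : Nontrivial S := (Subgroup.nontrivial_iff_ne_bot S).mpr hS1
  have hcn := hS.center_nontrivial
  obtain ⟨⟨z, hz⟩, hne⟩ := exists_ne (1 : Subgroup.center S)
  have hz1 : (z : SL2) ≠ 1 := by
    intro h
    apply hne
    apply Subtype.ext
    apply Subtype.ext
    exact h
  have hznc : (z : SL2) ∉ Subgroup.center SL2 := by
    intro hc
    have h2 := Cfsg.Agent.Helper37.SL2Q.sq_eq_one_of_mem_center _ hc
    obtain ⟨k, hk⟩ := hS z
    have hk' : (z : SL2) ^ (r ^ k) = 1 := by
      have := congrArg (fun g : S => (g : SL2)) hk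
      simpa using this
    exact hz1 (eq_one_of_sq_of_pow _ r k hrp hr h2 hk')
  intro x hx y hy
  have hcx : Commute (z : SL2) x := by
    have := Subgroup.mem_center_iff.mp hz ⟨x, hx⟩
    have := congrArg (fun g : S => (g : SL2)) this
    exact this.symm
  have hcy : Commute (z : SL2) y := by
    have := Subgroup.mem_center_iff.mp hz ⟨y, hy⟩
    have := congrArg (fun g : S => (g : SL2)) this
    exact this.symm
  exact commute_of_commute_noncentral _ x y hznc hcx hcy

section charp
variable (p : ℕ) [Fact p.Prime] [CharP F p]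

/-- an odd-order `r`-subgroup normalized by a nontrivial `p`-element is trivial -/
theorem eq_bot_of_odd_pgroup_normalized (hp : p ≠ 2) (a : SL2) (ha : orderOf a = p) (r : ℕ)
    [Fact r.Prime] (hr2 : r ≠ 2) (hrp : r ≠ p) (S : Subgroup SL2) (hS : IsPGroup r S)
    (hn : ∀ s ∈ S, a * s * a⁻¹ ∈ S) : S = ⊥ := by
  have hpp : p.Prime := Fact.out
  have hrr : r.Prime := Fact.out
  rw [Subgroup.eq_bot_iff_forall]
  intro s hs
  obtain ⟨k, hk⟩ := hS ⟨s, hs⟩
  have hk' : s ^ (r ^ k) = 1 := by
    have := congrArg (fun g : S => (g : SL2)) hk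
    simpa using this
  have hcop : (orderOf s).Coprime p := by
    apply Nat.Coprime.coprime_dvd_left (orderOf_dvd_of_pow_eq_one hk')
    apply Nat.Coprime.pow_left
    exact (Nat.coprime_primes hrr hpp).2 hrp
  have hab := commute_of_odd_pgroup r hr2 S hS
  have h1 : Commute a s := by
    apply commute_of_commute_conj p hp a s _ hcop (hab s hs _ (hn s hs))
    rw [ha]
    exact (Nat.coprime_primes Nat.prime_two hpp).2 hp.symm
  have h2 := sq_eq_one_of_commute_pelement p a ha s hcop h1.symm
  exact eq_one_of_sq_of_pow s r k hrr hr2 h2 hk'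

/-- a `p'`-subgroup normalized by a nontrivial `p`-element is a `2`-group -/
theorem isPGroup_two_of_normalized (hp : p ≠ 2) (a : SL2) (ha : orderOf a = p)
    (R : Subgroup SL2) (hR : (Nat.card R).Coprime p)
    (haR : a ∈ Subgroup.normalizer (R : Set SL2)) : IsPGroup 2 R := by
  have hpp : p.Prime := Fact.out
  have hcard : Nat.card R = 2 ^ (Nat.card R).primeFactorsList.length := by
    apply Nat.eq_prime_pow_of_unique_prime_dvd Nat.card_pos.ne'
    intro r hr hrd
    by_contra hr2
    have : Fact r.Prime := ⟨hr⟩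
    have hrp : r ≠ p := by
      rintro rfl
      have := Nat.Coprime.eq_one_of_dvd hR.symm hrd
      exact hr.one_lt.ne' this
    have hsolv : Group.IsSolvable (Subgroup.zpowers a) := by
      apply Group.isSolvable_of_comm
      rintro ⟨x, hx⟩ ⟨y, hy⟩
      obtain ⟨i, rfl⟩ := Subgroup.mem_zpowers_iff.mp hx
      obtain ⟨j, rfl⟩ := Subgroup.mem_zpowers_iff.mp hy
      apply Subtype.ext
      exact zpow_mul_comm a i j
    obtain ⟨P, hP⟩ := Cfsg.Agent.Helper1.exists_invariant_sylow (Subgroup.zpowers a) R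
      (Subgroup.zpowers_le.mpr haR) (by rw [Nat.card_zpowers, ha]; exact hR.symm)
      (Or.inl hsolv) r
    have hS : IsPGroup r ((P : Subgroup R).map R.subtype) := P.isPGroup'.map R.subtype
    have haS := hP (Subgroup.mem_zpowers a)
    have hbot := eq_bot_of_odd_pgroup_normalized p hp a ha r hr2 hrp _ hS
      (fun s hs => (Subgroup.mem_normalizer_iff.mp haS s).mp hs)
    have hPbot : (P : Subgroup R) = ⊥ :=
      (Subgroup.map_eq_bot_iff_of_injective _ R.subtype_injective).mp hbot
    exact P.ne_bot_of_dvd_card hrd hPbot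
  exact IsPGroup.of_card hcard

end charp

end Cfsg.Agent.Helper62.SL2C
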