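import Cfsg.Agent.Helper62.SL2PNorm

set_option autoImplicit false
open Matrix

namespace Cfsg.Agent.Helper62.SL2C

theorem pow_mul_eq_of_mul_eq {G : Type*} [Group G] (a g c : G) (h : a * g = g * c * a)
    (hc : Commute a c) (k : ℕ) : a ^ k * g = g * c ^ k * a ^ k := by
  induction k with
  | zero => simp
  | succ k ih =>
    have h1 : Commute a (c ^ k) := hc.pow_right k
    calc a ^ (k + 1) * g = a * (a ^ k * g) := by rw [pow_succ', mul_assoc]
      _ = a * (g * c ^ k * a ^ k) := by rw [ih]
      _ = (a * g) * c ^ k * a ^ k := by simp only [mul_assoc]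
      _ = g * c * (a * c ^ k) * a ^ k := by rw [h]; simp only [mul_assoc]
      _ = g * c * (c ^ k * a) * a ^ k := by rw [h1.eq]
      _ = g * c ^ (k + 1) * a ^ (k + 1) := by
        rw [pow_succ' c k, pow_succ' a k]; simp only [mul_assoc]

variable {F : Type*} [Field F]

local notation "SL2" => Matrix.SpecialLinearGroup (Fin 2) F

/-- `x ∈ R` is normalized up to sign by `R`, and is not central in `R` -/
def IsQ (R : Subgroup SL2) (x : SL2) : Prop :=
  x ∈ R ∧ (∀ g ∈ R, g * x * g⁻¹ = x ∨ g * x * g⁻¹ = -x) ∧ ∃ g ∈ R, g * x * g⁻¹ = -x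

theorem conj_neg (g x : SL2) : g * (-x) * g⁻¹ = -(g * x * g⁻¹) := by
  simp only [mul_neg, neg_mul]

theorem IsQ.conj {R : Subgroup SL2} {x : SL2} (h : IsQ R x) (a : SL2)
    (hn : ∀ g, g ∈ R ↔ a * g * a⁻¹ ∈ R) : IsQ R (a * x * a⁻¹) := by
  refine ⟨(hn x).mp h.1, ?_, ?_⟩
  · intro g hg
    have hg' : a⁻¹ * g * a ∈ R := by
      rw [hn]
      have : a * (a⁻¹ * g * a) * a⁻¹ = g := by group
      rwa [this]
    have e : g * (a * x * a⁻¹) * g⁻¹ = a * ((a⁻¹ * g * a) * x * (a⁻¹ * g * a)⁻¹) * a⁻¹ := by group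
    rcases h.2.1 _ hg' with h1 | h1
    · left; rw [e, h1]
    · right; rw [e, h1, conj_neg]
  · obtain ⟨g, hg, h0⟩ := h.2.2
    refine ⟨a * g * a⁻¹, (hn g).mp hg, ?_⟩
    have e : a * g * a⁻¹ * (a * x * a⁻¹) * (a * g * a⁻¹)⁻¹ = a * (g * x * g⁻¹) * a⁻¹ := by group
    rw [e, h0, conj_neg]

theorem IsQ.trace {R : Subgroup SL2} {x : SL2} (h : IsQ R x) (h2 : (2 : F) ≠ 0) :
    Matrix.trace (x : Matrix (Fin 2) (Fin 2) F) = 0 := by
  obtain ⟨g, -, h0⟩ := h.2.2
  have h1 := trace_conj g x
  rw [h0, trace_neg'] at h1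
  have : 2 * Matrix.trace (x : Matrix (Fin 2) (Fin 2) F) = 0 := by linear_combination -h1
  rcases mul_eq_zero.mp this with h3 | h3
  · exact absurd h3 h2
  · exact h3

theorem IsQ.sq {R : Subgroup SL2} {x : SL2} (h : IsQ R x) (h2 : (2 : F) ≠ 0) : x ^ 2 = -1 :=
  sq_eq_neg_one_of_trace_eq_zero x (h.trace h2)

theorem inv_eq_neg_of_sq {x : SL2} (h : x ^ 2 = -1) : x⁻¹ = -x := by
  apply inv_eq_of_mul_eq_one_right
  rw [mul_neg, ← pow_two, h, neg_neg]

theorem IsQ.not_center {R : Subgroup SL2} {x : SL2} (h : IsQ R x) (h2 : (2 : F) ≠ 0) :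
    x ∉ Subgroup.center SL2 := by
  intro hc
  obtain ⟨g, -, h0⟩ := h.2.2
  have : g * x * g⁻¹ = x := by
    rw [Subgroup.mem_center_iff.mp hc g, mul_inv_cancel_right]
  rw [this] at h0
  exact neg_ne_self h2 x h0.symm

theorem eq_one_or_neg_one_of_commute (x y h : SL2) (hxy : ¬ Commute x y) (hx : Commute h x)
    (hy : Commute h y) : h = 1 ∨ h = -1 := by
  apply (mem_center_iff_eq h).1
  by_contra hc
  exact hxy (commute_of_commute_noncentral h x y hc hx hy)

theorem commute_of_conj_eq {g x : SL2} (h : g * x * g⁻¹ = x) : Commute g x :=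
  mul_inv_eq_iff_eq_mul.mp h

/-- two non-commuting `IsQ` elements generate `R`, of order at most eight -/
theorem mem_eight (h2 : (2 : F) ≠ 0) {R : Subgroup SL2} {x y : SL2} (hx : IsQ R x) (hy : IsQ R y)
    (hxy : ¬ Commute x y) : y * x = -(x * y) ∧ ∀ g ∈ R, g = 1 ∨ g = -1 ∨ g = x ∨ g = -x ∨ g = y ∨
      g = -y ∨ g = x * y ∨ g = -(x * y) := by
  have hyx : y * x * y⁻¹ = -x := by
    rcases hx.2.1 y hy.1 with h | h
    · exact absurd (commute_of_conj_eq h).symm hxy
    · exact h
  have hxy' : x * y * x⁻¹ = -y := by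
    rcases hy.2.1 x hx.1 with h | h
    · exact absurd (commute_of_conj_eq h) hxy
    · exact h
  have hxi := inv_eq_neg_of_sq (hx.sq h2)
  have hyi := inv_eq_neg_of_sq (hy.sq h2)
  have hyx2 : y * x = -(x * y) := by
    have := mul_inv_eq_iff_eq_mul.mp hyx
    rw [this, neg_mul]
  refine ⟨hyx2, ?_⟩
  intro g hg
  rcases hx.2.1 g hg with hgx | hgx <;> rcases hy.2.1 g hg with hgy | hgy
  · rcases eq_one_or_neg_one_of_commute x y g hxy (commute_of_conj_eq hgx)
      (commute_of_conj_eq hgy) with h | h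
    · left; exact h
    · right; left; exact h
  · -- g fixes x, negates y : g * x central
    have e1 : (g * x) * x * (g * x)⁻¹ = x := by
      calc (g * x) * x * (g * x)⁻¹ = g * x * g⁻¹ := by group
        _ = x := hgx
    have e2 : (g * x) * y * (g * x)⁻¹ = y := by
      calc (g * x) * y * (g * x)⁻¹ = g * (x * y * x⁻¹) * g⁻¹ := by group
        _ = y := by rw [hxy', conj_neg, hgy, neg_neg]
    rcases eq_one_or_neg_one_of_commute x y (g * x) hxy (commute_of_conj_eq e1)
      (commute_of_conj_eq e2) with h | h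
    · have : g = -x := by rw [← hxi]; exact eq_inv_of_mul_eq_one_left h
      right; right; right; left; exact this
    · have : g = x := by
        have h' := eq_mul_inv_of_mul_eq h
        rw [h', hxi]; simp
      right; right; left; exact this
  · have e1 : (g * y) * x * (g * y)⁻¹ = x := by
      calc (g * y) * x * (g * y)⁻¹ = g * (y * x * y⁻¹) * g⁻¹ := by group
        _ = x := by rw [hyx, conj_neg, hgx, neg_neg]
    have e2 : (g * y) * y * (g * y)⁻¹ = y := by
      calc (g * y) * y * (g * y)⁻¹ = g * y * g⁻¹ := by group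
        _ = y := hgy
    rcases eq_one_or_neg_one_of_commute x y (g * y) hxy (commute_of_conj_eq e1)
      (commute_of_conj_eq e2) with h | h
    · have : g = -y := by rw [← hyi]; exact eq_inv_of_mul_eq_one_left h
      right; right; right; right; right; left; exact this
    · have : g = y := by
        have h' := eq_mul_inv_of_mul_eq h
        rw [h', hyi]; simp
      right; right; right; right; left; exact this
  · have e1 : (g * (x * y)) * x * (g * (x * y))⁻¹ = x := by
      calc (g * (x * y)) * x * (g * (x * y))⁻¹ = g * (x * (y * x * y⁻¹) * x⁻¹) * g⁻¹ := by group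
        _ = g * (-x) * g⁻¹ := by rw [hyx, conj_neg]; congr 2; group
        _ = x := by rw [conj_neg, hgx, neg_neg]
    have e2 : (g * (x * y)) * y * (g * (x * y))⁻¹ = y := by
      calc (g * (x * y)) * y * (g * (x * y))⁻¹ = g * (x * y * x⁻¹) * g⁻¹ := by group
        _ = y := by rw [hxy', conj_neg, hgy, neg_neg]
    have hinv : (x * y)⁻¹ = -(x * y) := by
      rw [_root_.mul_inv_rev, hxi, hyi, neg_mul_neg, hyx2]
    rcases eq_one_or_neg_one_of_commute x y (g * (x * y)) hxy (commute_of_conj_eq e1)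
      (commute_of_conj_eq e2) with h | h
    · have : g = -(x * y) := by rw [← hinv]; exact eq_inv_of_mul_eq_one_left h
      right; right; right; right; right; right; right; exact this
    · have : g = x * y := by
        have h' := eq_mul_inv_of_mul_eq h
        rw [h', hinv]; simp
      right; right; right; right; right; right; left; exact this

end Cfsg.Agent.Helper62.SL2C
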