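import Cfsg.Agent.Helper62.SL2Quat

set_option autoImplicit false
open Matrix

namespace Cfsg.Agent.Helper62.SL2C

variable {F : Type*} [Field F] [Fintype F]

local notation "SL2" => Matrix.SpecialLinearGroup (Fin 2) F

section charp
variable (p : ℕ) [Fact p.Prime] [CharP F p]

omit [Fintype F] [CharP F p] in
theorem coprime_orderOf_of_two_group (hp : p ≠ 2) {R : Subgroup SL2} (hR2 : IsPGroup 2 R)
    {g : SL2} (hg : g ∈ R) : (orderOf g).Coprime p := by
  have hpp : p.Prime := Fact.out
  obtain ⟨k, hk⟩ := hR2 ⟨g, hg⟩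
  have hk' : g ^ (2 ^ k) = 1 := by
    have := congrArg (fun g : R => (g : SL2)) hk
    simpa using this
  apply Nat.Coprime.coprime_dvd_left (orderOf_dvd_of_pow_eq_one hk')
  apply Nat.Coprime.pow_left
  exact (Nat.coprime_primes Nat.prime_two hpp).2 hp.symm

omit [Fintype F] in
/-- an abelian `2`-subgroup normalized by `a` is centralized by `a` -/
theorem commute_all_of_abelian (hp : p ≠ 2) (a : SL2) (ha : orderOf a = p)
    {R : Subgroup SL2} (hR2 : IsPGroup 2 R) (hn : ∀ g, g ∈ R ↔ a * g * a⁻¹ ∈ R)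
    (hab : ∀ x ∈ R, ∀ y ∈ R, Commute x y) : ∀ g ∈ R, Commute a g := by
  have hpp : p.Prime := Fact.out
  intro g hg
  apply commute_of_commute_conj p hp a g _ (coprime_orderOf_of_two_group p hp hR2 hg)
    (hab g hg _ ((hn g).mp hg))
  rw [ha]
  exact (Nat.coprime_primes Nat.prime_two hpp).2 hp.symm

/-- existence of an `IsQ` element in a nonabelian `2`-subgroup -/
theorem exists_isQ (R : Subgroup SL2) (hR2 : IsPGroup 2 R)
    (hnab : ¬ ∀ x ∈ R, ∀ y ∈ R, Commute x y) : ∃ x, IsQ R x := by
  -- central elements of `R` are `±1`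
  have hZ : ∀ z : R, z ∈ Subgroup.center R → (z : SL2) = 1 ∨ (z : SL2) = -1 := by
    intro z hz
    apply (mem_center_iff_eq (z : SL2)).1
    by_contra hc
    apply hnab
    intro x hx y hy
    have hcx : Commute (z : SL2) x := by
      have := Subgroup.mem_center_iff.mp hz ⟨x, hx⟩
      have := congrArg (fun g : R => (g : SL2)) this
      exact this.symm
    have hcy : Commute (z : SL2) y := by
      have := Subgroup.mem_center_iff.mp hz ⟨y, hy⟩
      have := congrArg (fun g : R => (g : SL2)) this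
      exact this.symm
    exact commute_of_commute_noncentral _ x y hc hcx hcy
  have hnt : Nontrivial (R ⧸ Subgroup.center R) := by
    by_contra hcon
    rw [not_nontrivial_iff_subsingleton] at hcon
    apply hnab
    intro x hx y hy
    have h1 : (QuotientGroup.mk ⟨x, hx⟩ : R ⧸ Subgroup.center R) = 1 := Subsingleton.elim _ _
    rw [QuotientGroup.eq_one_iff] at h1
    have := Subgroup.mem_center_iff.mp h1 ⟨y, hy⟩
    have := congrArg (fun g : R => (g : SL2)) this
    exact this.symm
  have hQ : IsPGroup 2 (R ⧸ Subgroup.center R) := hR2.to_quotient _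
  have hcn := hQ.center_nontrivial
  obtain ⟨⟨c, hc⟩, hne⟩ := exists_ne (1 : Subgroup.center (R ⧸ Subgroup.center R))
  obtain ⟨x, rfl⟩ := QuotientGroup.mk_surjective c
  have hxc : x ∉ Subgroup.center R := by
    intro hx
    apply hne
    apply Subtype.ext
    exact (QuotientGroup.eq_one_iff x).mpr hx
  have hall : ∀ g : R, (g : SL2) * x * (g : SL2)⁻¹ = x ∨ (g : SL2) * x * (g : SL2)⁻¹ = -x := by
    intro g
    have h1 : (QuotientGroup.mk (g * x * g⁻¹ * x⁻¹) : R ⧸ Subgroup.center R) = 1 := by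
      have := Subgroup.mem_center_iff.mp hc (QuotientGroup.mk g)
      simp only [QuotientGroup.mk_mul, QuotientGroup.mk_inv]
      rw [this]
      group
    rw [QuotientGroup.eq_one_iff] at h1
    rcases hZ _ h1 with h3 | h3
    · left
      have h4 : (g : SL2) * x * (g : SL2)⁻¹ * (x : SL2)⁻¹ = 1 := by simpa using h3
      exact mul_inv_eq_one.mp h4
    · right
      have h4 : (g : SL2) * x * (g : SL2)⁻¹ * (x : SL2)⁻¹ = -1 := by simpa using h3
      have := mul_inv_eq_iff_eq_mul.mp h4
      rw [this, neg_one_mul]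
  refine ⟨x, x.2, fun g hg => hall ⟨g, hg⟩, ?_⟩
  by_contra hcon
  push Not at hcon
  apply hxc
  rw [Subgroup.mem_center_iff]
  intro g
  rcases hall g with h | h
  · apply Subtype.ext
    exact mul_inv_eq_iff_eq_mul.mp h
  · exact absurd h (hcon g g.2)

omit [Fintype F] in
/-- Case 1: if `x` commutes with its `a`-conjugate then `a` centralizes `R`. -/
theorem commute_all_of_commute_conj (hp : p ≠ 2) (a : SL2) (ha : orderOf a = p)
    {R : Subgroup SL2} (hR2 : IsPGroup 2 R) (hn : ∀ g, g ∈ R ↔ a * g * a⁻¹ ∈ R)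
    {x : SL2} (hx : IsQ R x) (hc : Commute x (a * x * a⁻¹)) : ∀ g ∈ R, Commute a g := by
  have hpp : p.Prime := Fact.out
  have h2 := two_ne_zero_of_char (F := F) p hp
  have hodd : Nat.Coprime 2 (orderOf a) := by
    rw [ha]
    exact (Nat.coprime_primes Nat.prime_two hpp).2 hp.symm
  have hax : Commute a x :=
    commute_of_commute_conj p hp a x hodd (coprime_orderOf_of_two_group p hp hR2 hx.1) hc
  have hax' : a * x * a⁻¹ = x := mul_inv_eq_iff_eq_mul.mpr hax.eq
  -- step 2: elements of `C_R(x)` are centralized by `a`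
  have hstep2 : ∀ g ∈ R, Commute g x → Commute a g := by
    intro g hg hgx
    have h1 : Commute (a * g * a⁻¹) x := by
      have := hgx.map (MulAut.conj a)
      simp only [MulAut.conj_apply] at this
      rwa [hax'] at this
    have h3 : Commute g (a * g * a⁻¹) :=
      commute_of_commute_noncentral x g _ (hx.not_center h2) hgx.symm h1.symm
    exact commute_of_commute_conj p hp a g hodd (coprime_orderOf_of_two_group p hp hR2 hg) h3
  intro g hg
  rcases hx.2.1 g hg with hgx | hgx
  · exact hstep2 g hg (commute_of_conj_eq hgx)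
  · -- c = g⁻¹ * (a g a⁻¹)
    have hc1 : g⁻¹ * (a * g * a⁻¹) ∈ R := R.mul_mem (R.inv_mem hg) ((hn g).mp hg)
    have hgx' : g⁻¹ * x * g = -x := by
      have : g⁻¹ * (g * x * g⁻¹) * g = x := by group
      rw [hgx, mul_neg, neg_mul] at this
      exact neg_eq_iff_eq_neg.mp this
    have hcx : (g⁻¹ * (a * g * a⁻¹)) * x * (g⁻¹ * (a * g * a⁻¹))⁻¹ = x := by
      calc (g⁻¹ * (a * g * a⁻¹)) * x * (g⁻¹ * (a * g * a⁻¹))⁻¹
          = g⁻¹ * (a * (g * (a⁻¹ * x * a) * g⁻¹) * a⁻¹) * g := by group
        _ = g⁻¹ * (a * (g * x * g⁻¹) * a⁻¹) * g := by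
            have : a⁻¹ * x * a = x := by
              rw [mul_assoc, ← hax.eq, inv_mul_cancel_left]
            rw [this]
        _ = g⁻¹ * (-x) * g := by rw [hgx, conj_neg, hax']
        _ = x := by rw [mul_neg, neg_mul, hgx', neg_neg]
    have hac : Commute a (g⁻¹ * (a * g * a⁻¹)) := hstep2 _ hc1 (commute_of_conj_eq hcx)
    have hag : a * g = g * (g⁻¹ * (a * g * a⁻¹)) * a := by group
    have hpow := pow_mul_eq_of_mul_eq a g _ hag hac p
    have hap : a ^ p = 1 := by rw [← ha]; exact pow_orderOf_eq_one a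
    rw [hap, one_mul, mul_one] at hpow
    have hcp : (g⁻¹ * (a * g * a⁻¹)) ^ p = 1 := by
      have := mul_left_cancel (a := g) (b := 1) (c := (g⁻¹ * (a * g * a⁻¹)) ^ p) (by rw [mul_one]; exact hpow)
      exact this.symm
    have hcop := coprime_orderOf_of_two_group p hp hR2 hc1
    have hc1' : g⁻¹ * (a * g * a⁻¹) = 1 := by
      have h1 := orderOf_dvd_of_pow_eq_one hcp
      have := Nat.eq_one_of_dvd_coprimes hcop (dvd_refl _) h1
      exact orderOf_eq_one_iff.mp this
    show a * g = g * a
    rw [hag, hc1', mul_one]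

end charp

end Cfsg.Agent.Helper62.SL2C
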