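import Mathlib
import Cfsg.Prelude.Def_Local
import Cfsg.Prelude.Def_Transfer
import Cfsg.Agent.Lib.Cores
import Cfsg.Agent.Helper62.PSolvDual
import Cfsg.Agent.S1324

/-!
# S4394, piece (B1a) of helper71's WANTED #5897

The Hall–Higman reduction in `Y` with `O_p(Y) = 1`: an elementary abelian `p`-subgroup `T` that
centralizes every proper `T`-invariant subgroup of `K = O_{p'}(Y)` has order at most `p`.
-/

set_option autoImplicit false

namespace Cfsg.Agent.Helper62.SchB1a

open Cfsg

universe u

/-- (B1a) -/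
theorem card_le_of_minimal {Y : Type u} [Group Y] [Finite Y] {p : ℕ} [Fact p.Prime]
    (hY : Cfsg.IsPSolvable p Y) (hOp : Cfsg.pCore p Y = ⊥) (T : Subgroup Y)
    (hT : Cfsg.IsElementaryAbelian p T)
    (hmin : ∀ L : Subgroup Y, L ≤ Cfsg.pPrimeCore p Y → L ≠ Cfsg.pPrimeCore p Y →
      T ≤ Subgroup.normalizer (L : Set Y) → T ≤ Subgroup.centralizer (L : Set Y)) :
    Nat.card T ≤ p := by
  have hp : p.Prime := Fact.out
  set K := Cfsg.pPrimeCore p Y with hK
  have hKchar : K.Characteristic := Cfsg.Agent.Lib.pPrimeCore_characteristic p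
  have hKn : K.Normal := Subgroup.normal_of_characteristic _
  have hKcop : (Nat.card K).Coprime p := Cfsg.Agent.Lib.card_pPrimeCore_coprime p
  have hCK : Subgroup.centralizer (K : Set Y) ≤ K :=
    Cfsg.Agent.Helper62.centralizer_pPrimeCore_le_of_isPSolvable hY hOp
  obtain ⟨k, hk⟩ := Cfsg.Agent.Lib.isElementaryAbelian_card_eq_pow hT
  -- `T ⊓ K = ⊥`
  have hTK : T ⊓ K = ⊥ := by
    apply (Subgroup.disjoint_of_coprime_natCard _).eq_bot
    rw [hk]
    exact Nat.Coprime.pow_left k (Nat.coprime_comm.mp hKcop)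
  by_contra hlt
  push Not at hlt
  -- `p ^ 2 ≤ |T|`
  have hk2 : 2 ≤ k := by
    by_contra h
    push Not at h
    have : p ^ k ≤ p ^ 1 := Nat.pow_le_pow_right hp.pos (by omega)
    rw [pow_one] at this
    omega
  have hT2 : p ^ 2 ≤ Nat.card T := by
    rw [hk]; exact Nat.pow_le_pow_right hp.pos hk2
  have hKdvd : ¬ p ∣ Nat.card K := by
    intro h
    have := Nat.Coprime.eq_one_of_dvd (Nat.coprime_comm.mp hKcop) h
    exact hp.one_lt.ne' this
  have hTN : T ≤ Subgroup.normalizer (K : Set Y) := by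
    rw [Subgroup.normalizer_eq_top]; exact le_top
  have hgen := Cfsg.Agent.S1324.result p T K hT hT2 hKdvd hTN
  -- every term of the supremum is centralized by `T`
  have hterm : ∀ B : {B : Subgroup Y // B ≤ T ∧ B.relIndex T ≤ p},
      K ⊓ Subgroup.centralizer ((B : Subgroup Y) : Set Y) ≤ Subgroup.centralizer (T : Set Y) := by
    rintro ⟨B, hBT, hBidx⟩
    -- `B ≠ ⊥`
    have hBne : B ≠ ⊥ := by
      rintro rfl
      rw [Subgroup.relIndex_bot_left] at hBidx
      have : p < p ^ 2 := by
        rw [pow_two]; exact lt_mul_self hp.one_lt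
      omega
    set L := K ⊓ Subgroup.centralizer (B : Set Y) with hL
    have hLK : L ≤ K := inf_le_left
    have hLne : L ≠ K := by
      intro h
      have h1 : K ≤ Subgroup.centralizer (B : Set Y) := by
        rw [← h]; exact inf_le_right
      have h2 : B ≤ Subgroup.centralizer (K : Set Y) := Subgroup.le_centralizer_iff.mp h1
      have h3 : B ≤ T ⊓ K := le_inf hBT (h2.trans hCK)
      rw [hTK] at h3
      exact hBne (le_bot_iff.mp h3)
    have hconj : ∀ t ∈ T, ∀ l ∈ L, t * l * t⁻¹ ∈ L := by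
      intro t ht l hl
      obtain ⟨hl1, hlc⟩ := Subgroup.mem_inf.mp hl
      refine Subgroup.mem_inf.mpr ⟨hKn.conj_mem l hl1 t, ?_⟩
      rw [Subgroup.mem_centralizer_iff] at hlc ⊢
      intro b hb
      have hbt : b * t = t * b :=
        Cfsg.Agent.Lib.isElementaryAbelian_commute hT (hBT hb) ht
      have hbt' : b * t⁻¹ = t⁻¹ * b := by
        have := Cfsg.Agent.Lib.isElementaryAbelian_commute hT (hBT hb) (T.inv_mem ht)
        exact this
      have hbl : b * l = l * b := hlc b hb
      calc b * (t * l * t⁻¹) = (b * t) * l * t⁻¹ := by group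
        _ = t * (b * l) * t⁻¹ := by rw [hbt]; group
        _ = t * l * (b * t⁻¹) := by rw [hbl]; group
        _ = t * l * t⁻¹ * b := by rw [hbt']; group
    have hTNL : T ≤ Subgroup.normalizer (L : Set Y) := by
      intro t ht
      rw [Subgroup.mem_normalizer_iff]
      intro l
      constructor
      · intro hl; exact hconj t ht l hl
      · intro hl
        have := hconj t⁻¹ (T.inv_mem ht) _ hl
        have h2 : t⁻¹ * (t * l * t⁻¹) * t⁻¹⁻¹ = l := by group
        rwa [h2] at this
    have := hmin L hLK hLne hTNL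
    exact Subgroup.le_centralizer_iff.mp this
  have hKT : K ≤ Subgroup.centralizer (T : Set Y) := by
    rw [hgen]
    exact iSup_le hterm
  have hTle : T ≤ T ⊓ K := le_inf le_rfl ((Subgroup.le_centralizer_iff.mp hKT).trans hCK)
  rw [hTK, le_bot_iff] at hTle
  rw [hTle, Subgroup.card_bot] at hT2
  have : 1 < p ^ 2 := Nat.one_lt_pow (by norm_num) hp.one_lt
  omega

end Cfsg.Agent.Helper62.SchB1a
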