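import Mathlib
import Cfsg.Prelude.Def_Local
import Cfsg.Prelude.Def_Transfer
import Cfsg.Agent.Lib.Cores
import Cfsg.Agent.Helper11.PSolvable
import Cfsg.Agent.Helper62.PSolvDual
import Cfsg.Agent.Helper62.SchB1a

/-!
# S4394, piece (B1b) of helper71's WANTED #5897

`|S : O_p(Γ)| = p` in a minimal configuration: apply (B1a) in `Y = Γ ⧸ O_p(Γ)` to the image `T`
of the Sylow `p`-subgroup `S`.
-/

set_option autoImplicit false

namespace Cfsg.Agent.Helper62.SchB1b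

open scoped commutatorElement
open Cfsg

universe u

/-- (B1b) -/
theorem card_eq_mul_pCore {Γ : Type u} [Group Γ] [Finite Γ] {p : ℕ} [Fact p.Prime]
    (hΓ : Cfsg.IsPSolvable p Γ) (S : Sylow p Γ)
    (hne : ¬ (S : Subgroup Γ) ≤ Cfsg.pCore p Γ)
    (hpow : ∀ x ∈ (S : Subgroup Γ), x ^ p ∈ Cfsg.pCore p Γ)
    (hcomm : ∀ x ∈ (S : Subgroup Γ), ∀ y ∈ (S : Subgroup Γ), ⁅x, y⁆ ∈ Cfsg.pCore p Γ)
    (ih : ∀ H : Subgroup Γ, (S : Subgroup Γ) ≤ H → H ≠ ⊤ →
      ∀ h ∈ H, ∀ s ∈ (S : Subgroup Γ), h * s * h⁻¹ ∈ (S : Subgroup Γ)) :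
    Nat.card (S : Subgroup Γ) = p * Nat.card (Cfsg.pCore p Γ) := by
  have hp : p.Prime := Fact.out
  have hRchar : (Cfsg.pCore p Γ).Characteristic := Cfsg.Agent.Lib.pCore_characteristic p
  have hRn : (Cfsg.pCore p Γ).Normal := Subgroup.normal_of_characteristic _
  have hRS : Cfsg.pCore p Γ ≤ (S : Subgroup Γ) := Cfsg.Agent.Lib.pCore_le_sylow S
  have hsurj : Function.Surjective (QuotientGroup.mk' (Cfsg.pCore p Γ)) :=
    QuotientGroup.mk'_surjective _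
  have hY : Cfsg.IsPSolvable p (Γ ⧸ Cfsg.pCore p Γ) :=
    Cfsg.Agent.Helper11.isPSolvable_quotient _ hΓ
  have hOp : Cfsg.pCore p (Γ ⧸ Cfsg.pCore p Γ) = ⊥ :=
    Cfsg.Agent.Helper62.pCore_quotient_pCore_eq_bot p
  set T : Subgroup (Γ ⧸ Cfsg.pCore p Γ) :=
    (S : Subgroup Γ).map (QuotientGroup.mk' (Cfsg.pCore p Γ)) with hTdef
  -- `T` is elementary abelian
  have hTel : Cfsg.IsElementaryAbelian p T := by
    refine ⟨⟨⟨?_⟩⟩, ?_⟩
    · rintro ⟨a, ha⟩ ⟨b, hb⟩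
      obtain ⟨x, hx, rfl⟩ := Subgroup.mem_map.mp ha
      obtain ⟨y, hy, rfl⟩ := Subgroup.mem_map.mp hb
      apply Subtype.ext
      have h1 : QuotientGroup.mk' (Cfsg.pCore p Γ) ⁅x, y⁆ = 1 :=
        (QuotientGroup.eq_one_iff _).mpr (hcomm x hx y hy)
      rw [map_commutatorElement, commutatorElement_eq_one_iff_mul_comm] at h1
      exact h1
    · intro a ha
      obtain ⟨x, hx, rfl⟩ := Subgroup.mem_map.mp ha
      rw [← map_pow]
      exact (QuotientGroup.eq_one_iff _).mpr (hpow x hx)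
  obtain ⟨k, hk⟩ := Cfsg.Agent.Lib.isElementaryAbelian_card_eq_pow hTel
  -- `|S| = |T| * |R|`
  have hcard : Nat.card (S : Subgroup Γ) = Nat.card T * Nat.card (Cfsg.pCore p Γ) := by
    have hker : (QuotientGroup.mk' (Cfsg.pCore p Γ)).ker ≤ (S : Subgroup Γ) := by
      rw [QuotientGroup.ker_mk']; exact hRS
    have h1 : T.index = (S : Subgroup Γ).index := Subgroup.index_map_eq _ hsurj hker
    have h2 := T.card_mul_index
    have h3 := (S : Subgroup Γ).card_mul_index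
    have h4 := Subgroup.card_eq_card_quotient_mul_card_subgroup (Cfsg.pCore p Γ)
    have hidx : 0 < (S : Subgroup Γ).index := Nat.pos_of_ne_zero Subgroup.index_ne_zero_of_finite
    rw [h1] at h2
    have h5 : Nat.card (S : Subgroup Γ) * (S : Subgroup Γ).index =
        (Nat.card T * Nat.card (Cfsg.pCore p Γ)) * (S : Subgroup Γ).index := by
      rw [h3, h4, ← h2]; ring
    exact Nat.eq_of_mul_eq_mul_right hidx h5
  -- `T ≠ ⊥`
  have hTne : T ≠ ⊥ := by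
    intro h
    apply hne
    have := (Subgroup.map_eq_bot_iff _).mp h
    rwa [QuotientGroup.ker_mk'] at this
  -- `T ⊓ K = ⊥`
  have hKcop : (Nat.card (Cfsg.pPrimeCore p (Γ ⧸ Cfsg.pCore p Γ))).Coprime p :=
    Cfsg.Agent.Lib.card_pPrimeCore_coprime p
  have hTK : T ⊓ Cfsg.pPrimeCore p (Γ ⧸ Cfsg.pCore p Γ) = ⊥ := by
    apply (Subgroup.disjoint_of_coprime_natCard _).eq_bot
    rw [hk]
    exact Nat.Coprime.pow_left k (Nat.coprime_comm.mp hKcop)
  -- the minimality hypothesis of (B1a)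
  have hmin : ∀ L : Subgroup (Γ ⧸ Cfsg.pCore p Γ), L ≤ Cfsg.pPrimeCore p (Γ ⧸ Cfsg.pCore p Γ) →
      L ≠ Cfsg.pPrimeCore p (Γ ⧸ Cfsg.pCore p Γ) →
      T ≤ Subgroup.normalizer (L : Set (Γ ⧸ Cfsg.pCore p Γ)) →
      T ≤ Subgroup.centralizer (L : Set (Γ ⧸ Cfsg.pCore p Γ)) := by
    intro L hLK hLne hTL
    have hSH : (S : Subgroup Γ) ≤ L.comap (QuotientGroup.mk' (Cfsg.pCore p Γ)) ⊔ (S : Subgroup Γ) :=
      le_sup_right
    have hHne : L.comap (QuotientGroup.mk' (Cfsg.pCore p Γ)) ⊔ (S : Subgroup Γ) ≠ ⊤ := by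
      intro hH
      have hmap : L ⊔ T = ⊤ := by
        have h := congrArg (Subgroup.map (QuotientGroup.mk' (Cfsg.pCore p Γ))) hH
        rw [Subgroup.map_sup, Subgroup.map_comap_eq_self_of_surjective hsurj,
          Subgroup.map_top_of_surjective _ hsurj] at h
        exact h
      apply hLne
      apply le_antisymm hLK
      intro c hc
      have hc' : c ∈ ((L ⊔ T : Subgroup (Γ ⧸ Cfsg.pCore p Γ)) : Set (Γ ⧸ Cfsg.pCore p Γ)) := by
        rw [hmap]; trivial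
      rw [Subgroup.coe_mul_of_right_le_normalizer_left L T hTL] at hc'
      obtain ⟨l, hl, t, ht, rfl⟩ := Set.mem_mul.mp hc'
      have htK : t ∈ Cfsg.pPrimeCore p (Γ ⧸ Cfsg.pCore p Γ) := by
        have h : t = l⁻¹ * (l * t) := by group
        rw [h]
        exact Subgroup.mul_mem _ (Subgroup.inv_mem _ (hLK hl)) hc
      have h1 : t ∈ T ⊓ Cfsg.pPrimeCore p (Γ ⧸ Cfsg.pCore p Γ) := Subgroup.mem_inf.mpr ⟨ht, htK⟩
      rw [hTK, Subgroup.mem_bot] at h1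
      rw [h1, mul_one]; exact hl
    have hih := ih _ hSH hHne
    intro t ht
    rw [Subgroup.mem_centralizer_iff]
    intro l hl
    obtain ⟨s, hs, rfl⟩ := Subgroup.mem_map.mp ht
    obtain ⟨h, rfl⟩ := hsurj l
    have hhH : h ∈ L.comap (QuotientGroup.mk' (Cfsg.pCore p Γ)) ⊔ (S : Subgroup Γ) :=
      Subgroup.mem_sup_left (Subgroup.mem_comap.mpr hl)
    have h1 : h * s * h⁻¹ ∈ (S : Subgroup Γ) := hih h hhH s hs
    have hcT : QuotientGroup.mk' (Cfsg.pCore p Γ) (h * s * h⁻¹ * s⁻¹) ∈ T :=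
      Subgroup.mem_map_of_mem _ (Subgroup.mul_mem _ h1 (Subgroup.inv_mem _ hs))
    have hcL : QuotientGroup.mk' (Cfsg.pCore p Γ) (h * s * h⁻¹ * s⁻¹) ∈ L := by
      have hn := hTL ht
      rw [Subgroup.mem_normalizer_iff] at hn
      have h2 := (hn (QuotientGroup.mk' (Cfsg.pCore p Γ) h)⁻¹).mp (L.inv_mem hl)
      have h3 := L.mul_mem hl h2
      have h4 : QuotientGroup.mk' (Cfsg.pCore p Γ) (h * s * h⁻¹ * s⁻¹) =
          QuotientGroup.mk' (Cfsg.pCore p Γ) h * (QuotientGroup.mk' (Cfsg.pCore p Γ) s *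
            (QuotientGroup.mk' (Cfsg.pCore p Γ) h)⁻¹ *
            (QuotientGroup.mk' (Cfsg.pCore p Γ) s)⁻¹) := by
        simp only [map_mul, map_inv, mul_assoc]
      rw [h4]; exact h3
    have h5 : QuotientGroup.mk' (Cfsg.pCore p Γ) (h * s * h⁻¹ * s⁻¹) ∈
        T ⊓ Cfsg.pPrimeCore p (Γ ⧸ Cfsg.pCore p Γ) := Subgroup.mem_inf.mpr ⟨hcT, hLK hcL⟩
    rw [hTK, Subgroup.mem_bot] at h5
    simp only [map_mul, map_inv] at h5
    exact mul_inv_eq_iff_eq_mul.mp (mul_inv_eq_one.mp h5)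
  have hle : Nat.card T ≤ p :=
    Cfsg.Agent.Helper62.SchB1a.card_le_of_minimal hY hOp T hTel hmin
  -- `|T| = p`
  have hTp : Nat.card T = p := by
    have hk1 : k ≠ 0 := by
      rintro rfl
      rw [pow_zero] at hk
      exact hTne (Subgroup.card_eq_one.mp hk)
    have hge : p ≤ Nat.card T := by
      rw [hk]
      calc p = p ^ 1 := (pow_one p).symm
        _ ≤ p ^ k := Nat.pow_le_pow_right hp.pos (Nat.one_le_iff_ne_zero.mpr hk1)
    omega
  rw [hcard, hTp]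

end Cfsg.Agent.Helper62.SchB1b
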