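import Mathlib
import Cfsg.Agent.Helper96.StC.Basic
import Cfsg.Agent.Helper13.SympGen2
import Cfsg.Agent.Helper5.SpPerfect

/-!
# (G) of #7316 for helper96 (S2092): `Sp_{2m}(K)` is generated by the root matrices

`closure_root_eq_top` is stated for an abstract family `T p q t` of elements of the symplectic
group whose matrices are `spM p q t`; `spT_closure` (in `StCG2.lean`) instantiates it with the
landed `spT` of piece (M).
-/

set_option autoImplicit false

namespace Cfsg.Agent.Helper62.StCG

open Cfsg.Agent.Helper96.StN Cfsg.Agent.Helper96.StC Matrix Cfsg.Agent.Helper13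

universe u

variable {K : Type u} [Field K] {m : ℕ}

theorem spM_long_mulVec (p q : Fin m ⊕ Fin m) (hq : q = bar p) (t : K)
    (v : Fin m ⊕ Fin m → K) :
    spM p q t *ᵥ v = v + Pi.single p (t * v q) := by
  unfold spM
  rw [if_pos hq, add_mulVec, one_mulVec, single_mulVec]
  rfl

theorem spM_short_mulVec (p q : Fin m ⊕ Fin m) (hq : q ≠ bar p) (t : K)
    (v : Fin m ⊕ Fin m → K) :
    spM p q t *ᵥ v =
      v + Pi.single p (t * v q) - Pi.single (bar q) (eps K p q * t * v (bar p)) := by
  unfold spM
  rw [if_neg hq, sub_mulVec, add_mulVec, one_mulVec, single_mulVec, single_mulVec]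
  rfl

section

variable (T : Fin m ⊕ Fin m → Fin m ⊕ Fin m → K → Matrix.symplecticGroup (Fin m) K)

/-- the subgroup generated by the root elements -/
def rootSub : Subgroup (Matrix.symplecticGroup (Fin m) K) :=
  Subgroup.closure {g | ∃ p q, p ≠ q ∧ ∃ t, g = T p q t}

variable {T}

theorem T_mem_rootSub {p q : Fin m ⊕ Fin m} (hpq : p ≠ q) (t : K) : T p q t ∈ rootSub T :=
  Subgroup.subset_closure ⟨p, q, hpq, t, rfl⟩

variable (hT : ∀ p q, p ≠ q → ∀ t,
  ((T p q t : Matrix.symplecticGroup (Fin m) K) : Matrix (Fin m ⊕ Fin m) (Fin m ⊕ Fin m) K) =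
    spM p q t)

include hT in
/-- Gaussian elimination: a vector with `v p₀ ≠ 0` can be moved to `v p₀ • e_{p₀}`. -/
theorem exists_clear [DecidableEq K] (p₀ : Fin m ⊕ Fin m) : ∀ (n : ℕ) (v : Fin m ⊕ Fin m → K), v p₀ ≠ 0 →
    (Finset.univ.filter (fun q => q ≠ p₀ ∧ q ≠ bar p₀ ∧ v q ≠ 0)).card = n →
    ∃ g ∈ rootSub T,
      ((g : Matrix.symplecticGroup (Fin m) K) : Matrix (Fin m ⊕ Fin m) (Fin m ⊕ Fin m) K) *ᵥ v =
        Pi.single p₀ (v p₀) := by
  intro n
  induction n with
  | zero =>
    intro v hv hcard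
    have hzero : ∀ q, q ≠ p₀ → q ≠ bar p₀ → v q = 0 := by
      intro q h1 h2
      by_contra h3
      have : q ∈ Finset.univ.filter (fun q => q ≠ p₀ ∧ q ≠ bar p₀ ∧ v q ≠ 0) := by
        simp [h1, h2, h3]
      rw [Finset.card_eq_zero.mp hcard] at this
      simp at this
    refine ⟨T (bar p₀) p₀ (-(v (bar p₀)) / v p₀), T_mem_rootSub (bar_ne p₀) _, ?_⟩
    rw [hT _ _ (bar_ne p₀), spM_long_mulVec _ _ (by simp)]
    funext k
    by_cases hk : k = p₀
    · subst hk
      simp [(bar_ne k).symm]
    · by_cases hk2 : k = bar p₀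
      · subst hk2
        simp only [Pi.add_apply, Pi.single_eq_same]
        rw [Pi.single_eq_of_ne (bar_ne p₀)]
        field_simp
        ring
      · simp [hk, hk2, hzero k hk hk2]
  | succ n ih =>
    intro v hv hcard
    have hne : (Finset.univ.filter (fun q => q ≠ p₀ ∧ q ≠ bar p₀ ∧ v q ≠ 0)).Nonempty := by
      rw [← Finset.card_pos, hcard]; exact Nat.succ_pos n
    obtain ⟨q, hq⟩ := hne
    simp only [Finset.mem_filter, Finset.mem_univ, true_and] at hq
    obtain ⟨hq1, hq2, hq3⟩ := hq
    have hp0q : p₀ ≠ bar q := fun h => hq2 (by rw [h]; simp)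
    set t : K := -(v q) / v p₀ with ht
    set w : Fin m ⊕ Fin m → K := spM q p₀ t *ᵥ v with hw
    have hwv : w = v + Pi.single q (t * v p₀) -
        Pi.single (bar p₀) (eps K q p₀ * t * v (bar q)) := spM_short_mulVec q p₀ hp0q t v
    have hwq : w q = 0 := by
      rw [hwv]
      simp only [Pi.add_apply, Pi.sub_apply, Pi.single_eq_same]
      rw [Pi.single_eq_of_ne hq2, ht]
      field_simp
      ring
    have hwp : w p₀ = v p₀ := by
      rw [hwv]
      simp only [Pi.add_apply, Pi.sub_apply]
      rw [Pi.single_eq_of_ne (Ne.symm hq1), Pi.single_eq_of_ne (bar_ne p₀).symm]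
      ring
    have hwo : ∀ k, k ≠ p₀ → k ≠ bar p₀ → k ≠ q → w k = v k := by
      intro k h1 h2 h3
      rw [hwv]
      simp only [Pi.add_apply, Pi.sub_apply]
      rw [Pi.single_eq_of_ne h3, Pi.single_eq_of_ne h2]
      ring
    have hcard' : (Finset.univ.filter (fun k => k ≠ p₀ ∧ k ≠ bar p₀ ∧ w k ≠ 0)).card = n := by
      have : Finset.univ.filter (fun k => k ≠ p₀ ∧ k ≠ bar p₀ ∧ w k ≠ 0) =
          (Finset.univ.filter (fun k => k ≠ p₀ ∧ k ≠ bar p₀ ∧ v k ≠ 0)).erase q := by
        ext k
        simp only [Finset.mem_filter, Finset.mem_univ, true_and, Finset.mem_erase]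
        constructor
        · rintro ⟨h1, h2, h3⟩
          have hkq : k ≠ q := by
            rintro rfl; exact h3 hwq
          exact ⟨hkq, h1, h2, by rwa [hwo k h1 h2 hkq] at h3⟩
        · rintro ⟨hkq, h1, h2, h3⟩
          exact ⟨h1, h2, by rwa [hwo k h1 h2 hkq]⟩
      rw [this, Finset.card_erase_of_mem (by simp [hq1, hq2, hq3]), hcard]
      rfl
    obtain ⟨g₂, hg₂, hg₂w⟩ := ih w (by rw [hwp]; exact hv) hcard'
    refine ⟨g₂ * T q p₀ t, Subgroup.mul_mem _ hg₂ (T_mem_rootSub hq1 _), ?_⟩
    have hcoe : ((g₂ * T q p₀ t : Matrix.symplecticGroup (Fin m) K) :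
        Matrix (Fin m ⊕ Fin m) (Fin m ⊕ Fin m) K) =
        (g₂ : Matrix (Fin m ⊕ Fin m) (Fin m ⊕ Fin m) K) * spM q p₀ t := by
      rw [← hT q p₀ hq1 t]; rfl
    rw [hcoe, ← mulVec_mulVec, ← hw, hg₂w, hwp]

include hT in
/-- the transvections along the basis vectors are root elements. -/
theorem basis_transvection_mem (p₀ : Fin m ⊕ Fin m) (c : K) :
    sympTransvectionElt (Pi.single p₀ (1 : K)) c ∈ rootSub T := by
  rcases p₀ with i | i
  · have : sympTransvectionElt (Pi.single (Sum.inl i) (1 : K)) c =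
        T (Sum.inl i) (Sum.inr i) c := by
      apply Subtype.ext
      rw [hT _ _ (by simp)]
      change Cfsg.sympTransvection m (Pi.single (Sum.inl i) (1 : K)) c = _
      apply matrix_eq_of_mulVec
      intro x
      rw [sympTransvection_mulVec, spM_long_mulVec _ _ (by simp), sympForm_single_inl_right]
      congr 1
      funext k
      by_cases hk : k = Sum.inl i
      · subst hk; simp
      · simp [hk]
    rw [this]
    exact T_mem_rootSub (by simp) _
  · have : sympTransvectionElt (Pi.single (Sum.inr i) (1 : K)) c =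
        T (Sum.inr i) (Sum.inl i) (-c) := by
      apply Subtype.ext
      rw [hT _ _ (by simp)]
      change Cfsg.sympTransvection m (Pi.single (Sum.inr i) (1 : K)) c = _
      apply matrix_eq_of_mulVec
      intro x
      rw [sympTransvection_mulVec, spM_long_mulVec _ _ (by simp), sympForm_single_inr_right]
      congr 1
      funext k
      by_cases hk : k = Sum.inr i
      · subst hk; simp
      · simp [hk]
    rw [this]
    exact T_mem_rootSub (by simp) _

include hT in
/-- every symplectic transvection lies in the subgroup generated by the root elements. -/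
theorem transvection_mem (v : Fin m ⊕ Fin m → K) (c : K) :
    sympTransvectionElt v c ∈ rootSub T := by
  by_cases hv : v = 0
  · have : sympTransvectionElt v c = 1 := by
      apply Subtype.ext
      change Cfsg.sympTransvection m v c = 1
      rw [hv]
      simp [Cfsg.sympTransvection]
    rw [this]
    exact Subgroup.one_mem _
  · obtain ⟨p₀, hp₀⟩ := Function.ne_iff.mp hv
    have hp₀' : v p₀ ≠ 0 := by simpa using hp₀
    classical
    obtain ⟨g, hg, hgv⟩ := exists_clear hT p₀ _ v hp₀' rfl
    have h1 := Cfsg.Agent.Helper5.sympTransvectionElt_conj g v c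
    rw [hgv] at h1
    have h2 : (Pi.single p₀ (v p₀) : Fin m ⊕ Fin m → K) = v p₀ • Pi.single p₀ (1 : K) := by
      funext k
      by_cases hk : k = p₀
      · subst hk; simp
      · simp [hk]
    rw [h2, Cfsg.Agent.Helper5.sympTransvectionElt_smul] at h1
    have h3 : sympTransvectionElt v c =
        g⁻¹ * sympTransvectionElt (Pi.single p₀ (1 : K)) (c * v p₀ ^ 2) * g := by
      rw [← h1]; group
    rw [h3]
    exact Subgroup.mul_mem _ (Subgroup.mul_mem _ (Subgroup.inv_mem _ hg)
      (basis_transvection_mem hT p₀ _)) hg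

include hT in
/-- `Sp_{2m}(K)` is generated by a family of elements with the root matrices `spM p q t`. -/
theorem closure_root_eq_top :
    Subgroup.closure {g : Matrix.symplecticGroup (Fin m) K | ∃ p q, p ≠ q ∧ ∃ t, g = T p q t} =
      ⊤ := by
  rw [eq_top_iff, ← sympTransvectionSubgroup_eq_top (m := m) (F := K)]
  unfold sympTransvectionSubgroup
  rw [Subgroup.closure_le]
  rintro A ⟨w, c, hA⟩
  have : A = sympTransvectionElt w c := Subtype.ext hA
  rw [this]
  exact transvection_mem hT w c

end

end Cfsg.Agent.Helper62.StCG
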