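/-
helper62: Thompson P × Q lemma for odd primes without [P,Q]=1 (order-independent symmetrized products in class 2).
-/
import Mathlib
import Cfsg.Agent.S0027
import Cfsg.Agent.Helper62.AbelianGen

set_option autoImplicit false

namespace Cfsg.Agent.Helper62

open scoped commutatorElement

universe u

variable {X : Type u} [Group X]

/-- symmetrized product of a list -/
def symProd (l : List X) : X := l.prod * l.reverse.prod

theorem symProd_cons (a : X) (l : List X) : symProd (a :: l) = a * symProd l * a := by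
  unfold symProd
  rw [List.reverse_cons, List.prod_append, List.prod_cons, List.prod_singleton]
  group

theorem symProd_mem (H : Subgroup X) (l : List X) (hl : ∀ a ∈ l, a ∈ H) : symProd l ∈ H := by
  unfold symProd
  refine H.mul_mem (H.list_prod_mem hl) (H.list_prod_mem ?_)
  intro a ha
  exact hl a (List.mem_reverse.mp ha)

/-- In a class-2 subgroup the symmetrized product is independent of the order. -/
theorem symProd_perm (H : Subgroup X)
    (hH : ∀ a ∈ H, ∀ b ∈ H, ∀ c ∈ H, ⁅a, b⁆ * c = c * ⁅a, b⁆)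
    {l l' : List X} (h : l.Perm l') (hl : ∀ a ∈ l, a ∈ H) : symProd l = symProd l' := by
  induction h with
  | nil => rfl
  | cons a _ ih =>
    rw [symProd_cons, symProd_cons, ih (fun b hb => hl b (List.mem_cons_of_mem _ hb))]
  | swap a b l =>
    rw [symProd_cons, symProd_cons, symProd_cons, symProd_cons]
    have ha : a ∈ H := hl a (by simp)
    have hb : b ∈ H := hl b (by simp)
    have hs : symProd l ∈ H := symProd_mem H l (fun c hc => hl c (by simp [hc]))
    have h1 : a * b = ⁅a, b⁆ * (b * a) := by rw [commutatorElement_def]; group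
    have h2 := hH a ha b hb (b * a * symProd l) (H.mul_mem (H.mul_mem hb ha) hs)
    calc b * (a * symProd l * a) * b = b * a * symProd l * (a * b) := by group
      _ = b * a * symProd l * (⁅a, b⁆ * (b * a)) := by rw [h1]
      _ = (b * a * symProd l * ⁅a, b⁆) * (b * a) := by group
      _ = (⁅a, b⁆ * (b * a * symProd l)) * (b * a) := by rw [h2]
      _ = (⁅a, b⁆ * (b * a)) * symProd l * (b * a) := by group
      _ = a * b * symProd l * (b * a) := by rw [← h1]
      _ = a * (b * symProd l * b) * a := by group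
  | trans h₁ _ ih₁ ih₂ =>
    rw [ih₁ hl, ih₂ (fun a ha => hl a (h₁.mem_iff.mpr ha))]

theorem symProd_map_conj (g : X) (l : List X) :
    symProd (l.map (fun y => g * y * g⁻¹)) = g * symProd l * g⁻¹ := by
  induction l with
  | nil => simp [symProd]
  | cons a l ih =>
    rw [List.map_cons, symProd_cons, symProd_cons, ih]
    group

theorem symProd_map_mul_central (l : List X) (z : X) (hz : ∀ a ∈ l, a * z = z * a) :
    symProd (l.map (fun y => y * z)) = symProd l * z ^ (2 * l.length) := by
  induction l with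
  | nil => simp [symProd]
  | cons a l ih =>
    have hl : ∀ b ∈ l, b * z = z * b := fun b hb => hz b (List.mem_cons_of_mem _ hb)
    have ha : a * z = z * a := hz a (by simp)
    have hs : symProd l * z = z * symProd l := by
      have : symProd l ∈ Subgroup.centralizer {z} :=
        symProd_mem _ l (fun b hb => Subgroup.mem_centralizer_singleton_iff.mpr (hl b hb))
      exact Subgroup.mem_centralizer_singleton_iff.mp this
    have hzn : ∀ n : ℕ, a * z ^ n = z ^ n * a := fun n => (Commute.pow_right ha n)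
    rw [List.map_cons, symProd_cons, symProd_cons, ih hl, List.length_cons]
    have e : 2 * (l.length + 1) = 2 * l.length + 1 + 1 := by ring
    rw [e, pow_succ, pow_succ]
    calc a * z * (symProd l * z ^ (2 * l.length)) * (a * z)
        = a * (z * symProd l) * z ^ (2 * l.length) * a * z := by group
      _ = a * (symProd l * z) * z ^ (2 * l.length) * a * z := by rw [hs]
      _ = a * symProd l * (z * z ^ (2 * l.length)) * a * z := by group
      _ = a * symProd l * (z ^ (2 * l.length) * z) * a * z := by rw [(Commute.refl z).pow_right]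
      _ = a * symProd l * z ^ (2 * l.length) * (z * a) * z := by group
      _ = a * symProd l * z ^ (2 * l.length) * (a * z) * z := by rw [ha]
      _ = a * symProd l * (z ^ (2 * l.length) * a) * z * z := by group
      _ = a * symProd l * (a * z ^ (2 * l.length)) * z * z := by rw [hzn]
      _ = a * symProd l * a * (z ^ (2 * l.length) * z * z) := by group

/-- the list of conjugates of `x` by the elements of `L` -/
def conjList (L : List X) (x : X) : List X := L.map (fun q => q * x * q⁻¹)

theorem conjList_map_mul_right (L : List X) (g x : X) :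
    conjList (L.map (fun q => q * g)) x = conjList L (g * x * g⁻¹) := by
  unfold conjList
  rw [List.map_map]
  congr 1
  funext q
  simp only [Function.comp]
  group

theorem conjList_map_mul_left (L : List X) (g x : X) :
    conjList (L.map (fun q => g * q)) x = (conjList L x).map (fun y => g * y * g⁻¹) := by
  unfold conjList
  rw [List.map_map, List.map_map]
  congr 1
  funext q
  simp only [Function.comp]
  group

theorem conjList_mul_central (L : List X) (x z : X) (hz : ∀ q ∈ L, q * z = z * q) :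
    conjList L (x * z) = (conjList L x).map (fun y => y * z) := by
  unfold conjList
  rw [List.map_map]
  apply List.map_congr_left
  intro q hq
  simp only [Function.comp]
  have := hz q hq
  calc q * (x * z) * q⁻¹ = q * x * (z * q⁻¹) := by group
    _ = q * x * (q⁻¹ * (q * z) * q⁻¹) := by group
    _ = q * x * (q⁻¹ * (z * q) * q⁻¹) := by rw [this]
    _ = q * x * q⁻¹ * z := by group

theorem conjList_one (L : List X) : symProd (conjList L 1) = 1 := by
  unfold conjList symProd
  have h1 : ∀ y ∈ L.map (fun q => q * (1 : X) * q⁻¹), y = 1 := by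
    intro y hy
    obtain ⟨q, -, rfl⟩ := List.mem_map.mp hy
    group
  rw [List.prod_eq_one h1, List.prod_eq_one (fun y hy => h1 y (List.mem_reverse.mp hy))]
  group

section key

variable [Finite X] {p : ℕ} [hp : Fact p.Prime]

/-- Key step of the odd `P × Q` lemma: class at most two. -/
theorem thompson_odd_key (hp2 : p ≠ 2) (P Q G : Subgroup X) (hP : IsPGroup p P)
    (hQ : (Nat.card Q).Coprime p) (hPQ : P ≤ Subgroup.normalizer (Q : Set X))
    (hG : IsPGroup p G) (hPG : P ≤ Subgroup.normalizer (G : Set X))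
    (hQG : Q ≤ Subgroup.normalizer (G : Set X))
    (hcl : ∀ a ∈ G, ∀ b ∈ G, ∀ c ∈ G, ⁅a, b⁆ * c = c * ⁅a, b⁆)
    (hZ : ∀ z ∈ G ⊓ Subgroup.centralizer (Q : Set X), ∀ c ∈ G, z * c = c * z)
    (hC : G ⊓ Subgroup.centralizer (P : Set X) ≤ Subgroup.centralizer (Q : Set X)) :
    G ≤ Subgroup.centralizer (Q : Set X) := by
  classical
  haveI := Fintype.ofFinite X
  have hpp : p.Prime := hp.out
  set L : List X := (Finset.univ.filter (fun q : X => q ∈ Q)).toList with hL
  have hLmem : ∀ q, q ∈ L ↔ q ∈ Q := by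
    intro q; rw [hL, Finset.mem_toList, Finset.mem_filter]; simp
  have hLnd : L.Nodup := Finset.nodup_toList _
  have hLlen : L.length = Nat.card Q := by
    rw [hL, Finset.length_toList, Nat.card_eq_fintype_card, Fintype.card_subtype]
  set m : ℕ := L.length with hm
  set Z : Subgroup X := G ⊓ Subgroup.centralizer (Q : Set X) with hZdef
  -- conjugates stay in `G`
  have hconjG : ∀ g ∈ Subgroup.normalizer (G : Set X), ∀ x ∈ G, g * x * g⁻¹ ∈ G :=
    fun g hg x hx => (Subgroup.mem_normalizer_iff.mp hg x).mp hx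
  have hlistG : ∀ (L' : List X), (∀ q ∈ L', q ∈ Subgroup.normalizer (G : Set X)) → ∀ x ∈ G,
      ∀ y ∈ conjList L' x, y ∈ G := by
    intro L' hL' x hx y hy
    obtain ⟨q, hq, rfl⟩ := List.mem_map.mp hy
    exact hconjG q (hL' q hq) x hx
  have hLN : ∀ q ∈ L, q ∈ Subgroup.normalizer (G : Set X) := fun q hq => hQG ((hLmem q).mp hq)
  -- the function `S`
  set S : X → X := fun x => symProd (conjList L x) with hS
  have hSG : ∀ x ∈ G, S x ∈ G := fun x hx => symProd_mem G _ (hlistG L hLN x hx)
  -- (c) `S x` is centralized by `Q`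
  have hSZ : ∀ x ∈ G, S x ∈ Z := by
    intro x hx
    refine Subgroup.mem_inf.mpr ⟨hSG x hx, ?_⟩
    rw [Subgroup.mem_centralizer_iff]
    intro q₀ hq₀
    have hperm : (L.map (fun q => q₀ * q)).Perm L := by
      rw [List.perm_ext_iff_of_nodup (hLnd.map (mul_right_injective q₀)) hLnd]
      intro y
      rw [List.mem_map, hLmem]
      constructor
      · rintro ⟨q, hq, rfl⟩
        exact Q.mul_mem hq₀ ((hLmem q).mp hq)
      · intro hy
        exact ⟨q₀⁻¹ * y, (hLmem _).mpr (Q.mul_mem (Q.inv_mem hq₀) hy), by group⟩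
    have h1 : q₀ * S x * q₀⁻¹ = S x := by
      rw [hS]
      simp only
      rw [← symProd_map_conj, ← conjList_map_mul_left]
      apply symProd_perm G hcl
      · unfold conjList
        exact hperm.map _
      · apply hlistG _ _ x hx
        intro q hq
        obtain ⟨q', hq', rfl⟩ := List.mem_map.mp hq
        exact hQG (Q.mul_mem hq₀ ((hLmem q').mp hq'))
    calc q₀ * S x = (q₀ * S x * q₀⁻¹) * q₀ := by group
      _ = S x * q₀ := by rw [h1]
  -- (a) `P`-equivariance
  have hSP : ∀ x ∈ G, ∀ a ∈ P, S (a * x * a⁻¹) = a * S x * a⁻¹ := by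
    intro x hx a ha
    have hperm : (L.map (fun q => q * a)).Perm (L.map (fun q => a * q)) := by
      rw [List.perm_ext_iff_of_nodup (hLnd.map (mul_left_injective a))
        (hLnd.map (mul_right_injective a))]
      intro y
      rw [List.mem_map, List.mem_map]
      constructor
      · rintro ⟨q, hq, rfl⟩
        refine ⟨a⁻¹ * q * a, (hLmem _).mpr ?_, by group⟩
        have := (Subgroup.mem_normalizer_iff.mp (hPQ (P.inv_mem ha)) q).mp ((hLmem q).mp hq)
        simpa using this
      · rintro ⟨q, hq, rfl⟩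
        refine ⟨a * q * a⁻¹, (hLmem _).mpr ?_, by group⟩
        exact (Subgroup.mem_normalizer_iff.mp (hPQ ha) q).mp ((hLmem q).mp hq)
    rw [hS]
    simp only
    rw [← symProd_map_conj, ← conjList_map_mul_left, ← conjList_map_mul_right]
    apply symProd_perm G hcl
    · unfold conjList
      exact hperm.map _
    · apply hlistG _ _ x hx
      intro q hq
      obtain ⟨q', hq', rfl⟩ := List.mem_map.mp hq
      exact Subgroup.mul_mem _ (hQG ((hLmem q').mp hq')) (hPG ha)
  -- (b) translation by `Z`
  have hSz : ∀ x ∈ G, ∀ z ∈ Z, S (x * z) = S x * z ^ (2 * m) := by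
    intro x hx z hz
    have hzQ : ∀ q ∈ L, q * z = z * q := fun q hq =>
      Subgroup.mem_centralizer_iff.mp (Subgroup.mem_inf.mp hz).2 q ((hLmem q).mp hq)
    rw [hS]
    simp only
    rw [conjList_mul_central L x z hzQ, symProd_map_mul_central]
    · unfold conjList
      rw [List.length_map]
    · intro y hy
      exact (hZ z hz y (hlistG L hLN x hx y hy)).symm
  have hS1 : S 1 = 1 := conjList_one L
  -- the power map on `Z`
  have hZp : IsPGroup p Z := hG.to_le inf_le_left
  have hcop2m : (Nat.card Z).Coprime (2 * m) := by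
    obtain ⟨k, hk⟩ := IsPGroup.iff_card.mp hZp
    rw [hk]
    apply Nat.Coprime.pow_left
    rw [Nat.Prime.coprime_iff_not_dvd hpp]
    intro hdvd
    rcases (Nat.Prime.dvd_mul hpp).mp hdvd with h | h
    · exact hp2 ((Nat.prime_dvd_prime_iff_eq hpp Nat.prime_two).mp h)
    · rw [hLlen] at h
      exact (Nat.Prime.coprime_iff_not_dvd hpp).mp hQ.symm h
  have hpow_inj : ∀ z ∈ Z, z ^ (2 * m) = 1 → z = 1 := by
    intro z hz h
    have h1 : (powCoprime hcop2m) ⟨z, hz⟩ = (powCoprime hcop2m) 1 := by
      apply Subtype.ext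
      simp [h]
    have := (powCoprime hcop2m).injective h1
    exact congrArg Subtype.val this
  have hpow_surj : ∀ w ∈ Z, ∃ z ∈ Z, z ^ (2 * m) = w := by
    intro w hw
    obtain ⟨z, hz⟩ := (powCoprime hcop2m).surjective ⟨w, hw⟩
    refine ⟨z, z.2, ?_⟩
    have := congrArg Subtype.val hz
    simpa using this
  -- the transversal `W`
  by_contra hcon
  have hZG : Z ≠ G := by
    intro h
    apply hcon
    rw [← h]; exact inf_le_right
  let W : Type u := {x : X // x ∈ G ∧ S x = 1}
  have hWcard : Nat.card W * Nat.card Z = Nat.card G := by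
    rw [← Nat.card_prod]
    refine Nat.card_congr (Equiv.ofBijective
      (fun wz : W × Z => (⟨wz.1.1 * wz.2.1, G.mul_mem wz.1.2.1 (Subgroup.mem_inf.mp wz.2.2).1⟩ : G))
      ⟨?_, ?_⟩)
    · rintro ⟨⟨w, hwG, hw1⟩, ⟨z, hz⟩⟩ ⟨⟨w', hw'G, hw'1⟩, ⟨z', hz'⟩⟩ h
      have h' : w * z = w' * z' := congrArg Subtype.val h
      have h2 : w' = w * (z * z'⁻¹) := by
        have : w' = (w' * z') * z'⁻¹ := by group
        rw [this, ← h']; group
      have hzz : z * z'⁻¹ ∈ Z := Z.mul_mem hz (Z.inv_mem hz')
      have h3 : S w' = S w * (z * z'⁻¹) ^ (2 * m) := by rw [h2]; exact hSz w hwG _ hzz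
      rw [hw'1, hw1, one_mul] at h3
      have h4 : z * z'⁻¹ = 1 := hpow_inj _ hzz h3.symm
      have h5 : z = z' := by
        have := congrArg (fun t => t * z') h4
        simpa using this
      subst h5
      have h6 : w = w' := mul_right_cancel h'
      subst h6
      rfl
    · rintro ⟨x, hx⟩
      obtain ⟨z, hz, hzpow⟩ := hpow_surj (S x)⁻¹ (Z.inv_mem (hSZ x hx))
      have hxz : x * z ∈ G := G.mul_mem hx (Subgroup.mem_inf.mp hz).1
      have hSxz : S (x * z) = 1 := by rw [hSz x hx z hz, hzpow]; group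
      refine ⟨⟨⟨x * z, hxz, hSxz⟩, ⟨z⁻¹, Z.inv_mem hz⟩⟩, ?_⟩
      apply Subtype.ext
      simp
  haveI : Finite W := Finite.of_injective (fun w : W => w.1) (fun a b h => Subtype.ext h)
  have hpW : p ∣ Nat.card W := by
    obtain ⟨n, hn⟩ := IsPGroup.iff_card.mp hG
    have hdvd : Nat.card W ∣ p ^ n := ⟨Nat.card Z, by rw [← hn, hWcard]⟩
    obtain ⟨j, -, hj⟩ := (Nat.dvd_prime_pow hpp).mp hdvd
    rcases Nat.eq_zero_or_pos j with h0 | hpos
    · exfalso
      rw [h0, pow_zero] at hj
      rw [hj, one_mul] at hWcard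
      exact hZG (Subgroup.eq_of_le_of_card_ge inf_le_left hWcard.ge)
    · rw [hj]; exact dvd_pow_self p hpos.ne'
  -- the action of `P` on `W`
  let _ : MulAction P W :=
    { smul := fun a w => ⟨(a : X) * w.1 * (a : X)⁻¹, hconjG _ (hPG a.2) _ w.2.1, by
        rw [hSP w.1 w.2.1 a a.2, w.2.2]; group⟩
      one_smul := fun w => Subtype.ext (by
        change ((1 : P) : X) * w.1 * ((1 : P) : X)⁻¹ = w.1
        simp)
      mul_smul := fun a b w => Subtype.ext (by
        change ((a * b : P) : X) * w.1 * ((a * b : P) : X)⁻¹ =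
          (a : X) * ((b : X) * w.1 * (b : X)⁻¹) * (a : X)⁻¹
        simp only [Subgroup.coe_mul]
        group) }
  have hsmul : ∀ (a : P) (w : W), ((a • w : W) : X) = (a : X) * w.1 * (a : X)⁻¹ := fun _ _ => rfl
  have hmod := hP.card_modEq_card_fixedPoints W
  have hpfix : p ∣ Nat.card (MulAction.fixedPoints P W) :=
    (Nat.modEq_zero_iff_dvd).mp (hmod.symm.trans ((Nat.modEq_zero_iff_dvd).mpr hpW))
  let w₁ : W := ⟨1, G.one_mem, hS1⟩
  have hw₁ : w₁ ∈ MulAction.fixedPoints P W := by
    intro a
    apply Subtype.ext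
    rw [hsmul]
    change (a : X) * 1 * (a : X)⁻¹ = 1
    group
  haveI : Finite (MulAction.fixedPoints P W) := Subtype.finite
  have h2le : 2 ≤ Nat.card (MulAction.fixedPoints P W) := by
    have hpos : 0 < Nat.card (MulAction.fixedPoints P W) :=
      Nat.card_pos_iff.mpr ⟨⟨⟨w₁, hw₁⟩⟩, inferInstance⟩
    exact le_trans hpp.two_le (Nat.le_of_dvd hpos hpfix)
  haveI : Nontrivial (MulAction.fixedPoints P W) :=
    Finite.one_lt_card_iff_nontrivial.mp (by omega)
  obtain ⟨⟨w, hwfix⟩, hne⟩ := exists_ne (⟨w₁, hw₁⟩ : MulAction.fixedPoints P W)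
  have hwne : w.1 ≠ 1 := by
    intro h
    apply hne
    apply Subtype.ext
    apply Subtype.ext
    exact h
  have hwP : w.1 ∈ G ⊓ Subgroup.centralizer (P : Set X) := by
    refine Subgroup.mem_inf.mpr ⟨w.2.1, ?_⟩
    rw [Subgroup.mem_centralizer_iff]
    intro a ha
    have h1 := congrArg Subtype.val (hwfix ⟨a, ha⟩)
    rw [hsmul] at h1
    calc a * w.1 = (a * w.1 * a⁻¹) * a := by group
      _ = w.1 * a := by rw [h1]
  have hwZ : w.1 ∈ Z := Subgroup.mem_inf.mpr ⟨w.2.1, hC hwP⟩
  have h3 : S (1 * w.1) = S 1 * w.1 ^ (2 * m) := hSz 1 G.one_mem w.1 hwZ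
  rw [one_mul, w.2.2, hS1, one_mul] at h3
  exact hwne (hpow_inj w.1 hwZ h3.symm)

end key

section reduction

variable [Finite X] {p : ℕ} [hp : Fact p.Prime]

/-- **Thompson's `P × Q` lemma for odd primes, without `[P, Q] = 1`**: `P` a `p`-group normalizing
the `p'`-group `Q`, both normalizing the `p`-group `G`, `p` odd. If `C_G(P) ≤ C_G(Q)` then `Q`
centralizes `G`. -/
theorem thompson_odd (hp2 : p ≠ 2) (P Q : Subgroup X) (hP : IsPGroup p P)
    (hQ : (Nat.card Q).Coprime p) (hPQ : P ≤ Subgroup.normalizer (Q : Set X)) :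
    ∀ (n : ℕ) (G : Subgroup X), Nat.card G = n → IsPGroup p G →
      P ≤ Subgroup.normalizer (G : Set X) → Q ≤ Subgroup.normalizer (G : Set X) →
      G ⊓ Subgroup.centralizer (P : Set X) ≤ Subgroup.centralizer (Q : Set X) →
      Q ≤ Subgroup.centralizer (G : Set X) := by
  intro n
  induction n using Nat.strong_induction_on with
  | _ n ih =>
  intro G hn hG hPG hQG hC
  have hPP : P ≤ Subgroup.normalizer (P : Set X) := Subgroup.le_normalizer
  have hQQ : Q ≤ Subgroup.normalizer (Q : Set X) := Subgroup.le_normalizer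
  have hcop : (Nat.card Q).Coprime (Nat.card G) := by
    obtain ⟨k, hk⟩ := IsPGroup.iff_card.mp hG
    rw [hk]; exact Nat.Coprime.pow_right k hQ
  haveI hsolvG : Group.IsSolvable G := by
    haveI : Group.IsNilpotent G := hG.isNilpotent
    infer_instance
  -- Step 1: `[G, Q] = G`
  set G₁ : Subgroup X := ⁅G, Q⁆ with hG₁
  have hG₁G : G₁ ≤ G := by
    rw [hG₁, Subgroup.commutator_le]
    intro g hg a ha
    have h1 : a * g⁻¹ * a⁻¹ ∈ G :=
      (Subgroup.mem_normalizer_iff.mp (hQG ha) g⁻¹).mp (G.inv_mem hg)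
    have : ⁅g, a⁆ = g * (a * g⁻¹ * a⁻¹) := by rw [commutatorElement_def]; group
    rw [this]; exact G.mul_mem hg h1
  have h27 : ⁅G₁, Q⁆ = G₁ := Cfsg.Agent.S0027.result Q G hQG hcop (Or.inr hsolvG)
  by_cases hG₁ne : G₁ ≠ G
  · have hlt : Nat.card G₁ < n := by
      rw [← hn]
      rcases Nat.lt_or_ge (Nat.card G₁) (Nat.card G) with h | h
      · exact h
      · exact absurd (Subgroup.eq_of_le_of_card_ge hG₁G h) hG₁ne
    have h1 : Q ≤ Subgroup.centralizer (G₁ : Set X) :=
      ih _ hlt G₁ rfl (hG.to_le hG₁G) (le_normalizer_commutator hPG hPQ)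
        (le_normalizer_commutator hQG hQQ) ((inf_le_inf hG₁G le_rfl).trans hC)
    have h2 : ⁅G₁, Q⁆ = ⊥ :=
      Subgroup.commutator_eq_bot_iff_le_centralizer.mpr (Subgroup.le_centralizer_iff.mp h1)
    rw [h27] at h2
    have h3 : G ≤ Subgroup.centralizer (Q : Set X) :=
      Subgroup.commutator_eq_bot_iff_le_centralizer.mp (hG₁ ▸ h2)
    exact Subgroup.le_centralizer_iff.mp h3
  · rw [not_not] at hG₁ne
    by_cases hGbot : G = ⊥
    · rw [hGbot]
      intro q _
      rw [Subgroup.mem_centralizer_iff]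
      intro g hg
      have : g = 1 := hg
      rw [this]; simp
    -- Step 2: `D = [G, G]` is centralized by `Q`
    set D : Subgroup X := ⁅G, G⁆ with hD
    have hDG : D ≤ G := Subgroup.commutator_le_self G   
    have hDne : D ≠ G := by
      intro h
      haveI : Nontrivial G := (Subgroup.nontrivial_iff_ne_bot G).mpr hGbot
      have h1 := Group.IsSolvable.commutator_lt_top_of_nontrivial G
      have h2 := Subgroup.map_subtype_commutator G
      rw [← hD, h] at h2
      have h3 : commutator G = ⊤ := by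
        apply Subgroup.map_injective G.subtype_injective
        rw [h2, ← MonoidHom.range_eq_map, Subgroup.range_subtype]
      exact (ne_of_lt h1) h3
    have hltD : Nat.card D < n := by
      rw [← hn]
      rcases Nat.lt_or_ge (Nat.card D) (Nat.card G) with h | h
      · exact h
      · exact absurd (Subgroup.eq_of_le_of_card_ge hDG h) hDne
    have hQD : Q ≤ Subgroup.centralizer (D : Set X) :=
      ih _ hltD D rfl (hG.to_le hDG) (le_normalizer_commutator hPG hPG)
        (le_normalizer_commutator hQG hQG) ((inf_le_inf hDG le_rfl).trans hC)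
    have hDQ : ⁅D, Q⁆ = ⊥ :=
      Subgroup.commutator_eq_bot_iff_le_centralizer.mpr (Subgroup.le_centralizer_iff.mp hQD)
    have hQGcomm : ⁅Q, G⁆ = G := by rw [Subgroup.commutator_comm, ← hG₁, hG₁ne]
    -- Step 3: class at most two
    have hGD : ⁅G, D⁆ = ⊥ := by
      have h1 : ⁅⁅G, D⁆, Q⁆ = ⊥ := by
        rw [eq_bot_iff, ← hDQ]
        exact Subgroup.commutator_mono (Subgroup.commutator_mono le_rfl hDG) le_rfl
      have h2 : ⁅⁅D, Q⁆, G⁆ = ⊥ := by rw [hDQ, Subgroup.commutator_bot_left]
      have h3 := Subgroup.commutator_commutator_eq_bot_of_rotate h1 h2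
      rwa [hQGcomm] at h3
    set Z : Subgroup X := G ⊓ Subgroup.centralizer (Q : Set X) with hZ
    have hGZ : ⁅G, Z⁆ = ⊥ := by
      have h1 : ⁅⁅G, Z⁆, Q⁆ = ⊥ := by
        rw [eq_bot_iff, ← hDQ]
        exact Subgroup.commutator_mono (Subgroup.commutator_mono le_rfl inf_le_left) le_rfl
      have hZQ : ⁅Z, Q⁆ = ⊥ := Subgroup.commutator_eq_bot_iff_le_centralizer.mpr inf_le_right
      have h2 : ⁅⁅Z, Q⁆, G⁆ = ⊥ := by rw [hZQ, Subgroup.commutator_bot_left]
      have h3 := Subgroup.commutator_commutator_eq_bot_of_rotate h1 h2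
      rwa [hQGcomm] at h3
    have hcl : ∀ a ∈ G, ∀ b ∈ G, ∀ c ∈ G, ⁅a, b⁆ * c = c * ⁅a, b⁆ := by
      intro a ha b hb c hc
      have h1 : G ≤ Subgroup.centralizer (D : Set X) :=
        Subgroup.commutator_eq_bot_iff_le_centralizer.mp hGD
      exact Subgroup.mem_centralizer_iff.mp (h1 hc) _ (Subgroup.commutator_mem_commutator ha hb)
    have hZc : ∀ z ∈ Z, ∀ c ∈ G, z * c = c * z := by
      intro z hz c hc
      have h1 : G ≤ Subgroup.centralizer (Z : Set X) :=
        Subgroup.commutator_eq_bot_iff_le_centralizer.mp hGZ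
      exact Subgroup.mem_centralizer_iff.mp (h1 hc) z hz
    exact Subgroup.le_centralizer_iff.mp
      (thompson_odd_key hp2 P Q G hP hQ hPQ hG hPG hQG hcl hZc hC)

end reduction

end Cfsg.Agent.Helper62
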