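import Cfsg.Agent.Helper51.TorD.Defs

/-!
helper62: piece (NDEC) of helper51's TorD farm (#13792; S2372/S2375): every element of `N` is a word in
the `n_{p_i}(1)` times an element of `H`, from the homomorphism `φ : N → W` with kernel `H`.
-/

set_option autoImplicit false
set_option maxRecDepth 100000

namespace Cfsg.Agent.Helper62.TorD

open Cfsg Cfsg.Lie Cfsg.Agent.Helper18 Cfsg.Agent.Helper80.Tor Cfsg.Agent.Helper51.TorD

variable {K : Type*} [Field K] (D : ChevalleyDatum)

/-- `φ` of a word in the `n_{p_i}(1)` is the corresponding word in the simple reflections -/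
theorem NDEC_phi_word (hD : D ∈ [chevG2, chevB2, chevD4, chevF4, chevE6, chevE7, chevE8])
    (M : CoxeterMatrix (Fin D.rank))
    (φ : ↥(D.monomialSubgroup K) →* M.Group)
    (hsimple : ∀ (i : Fin D.rank) (g : ↥(D.monomialSubgroup K)),
        ((g : GL D.Idx K) : Matrix D.Idx D.Idx K) = D.nMat K (D.simple i) 1 → φ g = M.simple i)
    (ω : List (Fin D.rank)) (hmem : nWordsGL D K (ω.map Fin.val) ∈ D.monomialSubgroup K) :
    φ ⟨nWordsGL D K (ω.map Fin.val), hmem⟩ = M.toCoxeterSystem.wordProd ω := by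
  induction ω with
  | nil =>
    have e : (⟨nWordsGL D K (([] : List (Fin D.rank)).map Fin.val), hmem⟩ :
        ↥(D.monomialSubgroup K)) = 1 := by
      apply Subtype.ext
      simp [nWordsGL]
    rw [e, map_one]
    simp
  | cons i ω ih =>
    have hw : ∀ j ∈ ω.map Fin.val, j < D.rank := by
      intro j hj
      obtain ⟨k, -, rfl⟩ := List.mem_map.mp hj
      exact k.2
    have hmem' : nWordsGL D K (ω.map Fin.val) ∈ D.monomialSubgroup K := nWordsGL_mem D hD _ hw
    have hmemi : wordGL D K (D.nWord (D.simple i.val) (1 : K)) ∈ D.monomialSubgroup K := by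
      have := nWordsGL_mem (F := K) D hD [i.val] (by intro j hj; simp at hj; subst hj; exact i.2)
      simpa [nWordsGL] using this
    have e : (⟨nWordsGL D K ((i :: ω).map Fin.val), hmem⟩ : ↥(D.monomialSubgroup K)) =
        ⟨wordGL D K (D.nWord (D.simple i.val) (1 : K)), hmemi⟩ *
          ⟨nWordsGL D K (ω.map Fin.val), hmem'⟩ := by
      apply Subtype.ext
      simp [nWordsGL]
    rw [e, map_mul, ih hmem', hsimple i ⟨_, hmemi⟩ (nWordGL_val D hD _ _),
      CoxeterSystem.wordProd_cons]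
    rfl

/-- (NDEC) every element of `N` is a word in the `n_{p_i}(1)` times an element of `H` -/
theorem exists_word_mul (hD : D ∈ [chevG2, chevB2, chevD4, chevF4, chevE6, chevE7, chevE8])
    (M : CoxeterMatrix (Fin D.rank))
    (φ : ↥(D.monomialSubgroup K) →* M.Group)
    (hker : φ.ker = (D.diagonalSubgroup K).subgroupOf (D.monomialSubgroup K))
    (hsimple : ∀ (i : Fin D.rank) (g : ↥(D.monomialSubgroup K)),
        ((g : GL D.Idx K) : Matrix D.Idx D.Idx K) = D.nMat K (D.simple i) 1 → φ g = M.simple i)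
    (n : GL D.Idx K) (hn : n ∈ D.monomialSubgroup K) :
    ∃ ω : List (Fin D.rank), ∃ h ∈ D.diagonalSubgroup K,
      n = nWordsGL D K (ω.map Fin.val) * h ∧ φ ⟨n, hn⟩ = M.toCoxeterSystem.wordProd ω := by
  obtain ⟨ω, hω⟩ := M.toCoxeterSystem.wordProd_surjective (φ ⟨n, hn⟩)
  have hw : ∀ j ∈ ω.map Fin.val, j < D.rank := by
    intro j hj
    obtain ⟨k, -, rfl⟩ := List.mem_map.mp hj
    exact k.2
  have hmem : nWordsGL D K (ω.map Fin.val) ∈ D.monomialSubgroup K := nWordsGL_mem D hD _ hw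
  have hφ := NDEC_phi_word D hD M φ hsimple ω hmem
  have hk : (⟨nWordsGL D K (ω.map Fin.val), hmem⟩ : ↥(D.monomialSubgroup K))⁻¹ * ⟨n, hn⟩ ∈ φ.ker := by
    rw [MonoidHom.mem_ker, map_mul, map_inv, hφ, ← hω, inv_mul_cancel]
  rw [hker, Subgroup.mem_subgroupOf] at hk
  refine ⟨ω, (nWordsGL D K (ω.map Fin.val))⁻¹ * n, ?_, ?_, hω.symm⟩
  · simpa using hk
  · group

end Cfsg.Agent.Helper62.TorD
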