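import Mathlib
import Cfsg.Agent.Helper61.TwoPDefs

/-!
# S4707, piece (U3b) of helper61's WANTED #6295

If a point stabilizer `G_a` has an orbit of length `3` and involutions of `G` fix `0` or `2` points,
then `4 ∤ |G_a|`.
-/

set_option autoImplicit false

namespace Cfsg.Agent.Helper62.TwoP

open Cfsg MulAction Cfsg.Agent.Helper66.PD2 Cfsg.Agent.Helper61.TwoP

variable {G : Type*} [Group G] [Fintype G] {α : Type*} [Fintype α] [DecidableEq α] [MulAction G α]
  {p : ℕ} [Fact p.Prime] {P : Sylow p G}

/-- (U3b) the stabilizer has order not divisible by `4`. -/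
theorem not_four_dvd_card_stabilizer (S : Setup G α p P) (a b : α) (hb : b ≠ a)
    (h3 : Nat.card (orbit (stabilizer G a) b) = 3)
    (hfx : ∀ t : G, orderOf t = 2 → fx α t = 0 ∨ fx α t = 2) :
    ¬ 4 ∣ Nat.card (stabilizer G a) := by
  classical
  intro h4
  set H : Subgroup G := stabilizer G a with hH
  set φ : H →* Equiv.Perm (orbit H b) := MulAction.toPermHom H (orbit H b) with hφ
  -- the kernel has odd order
  have hKodd : ¬ 2 ∣ Nat.card φ.ker := by
    intro h2
    have : Fact (Nat.Prime 2) := ⟨Nat.prime_two⟩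
    obtain ⟨t, ht⟩ := exists_prime_orderOf_dvd_card' 2 h2
    have htK : (t : H) ∈ φ.ker := t.2
    have ht2 : orderOf ((t : H) : G) = 2 := by
      rw [Subgroup.orderOf_coe, Subgroup.orderOf_coe]; exact ht
    have hsub : (orbit H b : Set α) ⊆ fixedBy α ((t : H) : G) := by
      intro c hc
      rw [mem_fixedBy]
      have h1 : φ (t : H) = 1 := MonoidHom.mem_ker.mp htK
      have h2 : (φ (t : H)) ⟨c, hc⟩ = ⟨c, hc⟩ := by rw [h1]; rfl
      have h3 := congrArg Subtype.val h2
      exact h3
    have hle : Nat.card (orbit H b) ≤ Nat.card (fixedBy α ((t : H) : G)) :=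
      Nat.card_mono (Set.toFinite _) hsub
    have hfxt : fx α ((t : H) : G) = Nat.card (fixedBy α ((t : H) : G)) := rfl
    rcases hfx _ ht2 with h | h <;> omega
  -- `|H| = |range φ| * |ker φ|` and `|range φ| ∣ 6`
  have hcard : Nat.card H = Nat.card φ.range * Nat.card φ.ker := by
    rw [Subgroup.card_eq_card_quotient_mul_card_subgroup φ.ker,
      Nat.card_congr (QuotientGroup.quotientKerEquivRange φ).toEquiv]
  have hr6 : Nat.card φ.range ∣ 6 := by
    have h1 : Nat.card φ.range ∣ Nat.card (Equiv.Perm (orbit H b)) :=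
      Subgroup.card_subgroup_dvd_card _
    have h2 : Nat.card (Equiv.Perm (orbit H b)) = 6 := by
      rw [Nat.card_perm, h3]
      rfl
    rwa [h2] at h1
  have hcop : Nat.Coprime 4 (Nat.card φ.ker) := by
    have h2 : Nat.Coprime 2 (Nat.card φ.ker) :=
      (Nat.Prime.coprime_iff_not_dvd Nat.prime_two).mpr hKodd
    have : Nat.Coprime (2 ^ 2) (Nat.card φ.ker) := Nat.Coprime.pow_left 2 h2
    simpa using this
  rw [hcard] at h4
  have h4r : 4 ∣ Nat.card φ.range := hcop.dvd_of_dvd_mul_right h4
  have hle : Nat.card φ.range ≤ 6 := Nat.le_of_dvd (by norm_num) hr6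
  generalize Nat.card φ.range = r at *
  interval_cases r <;> omega

end Cfsg.Agent.Helper62.TwoP
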