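import Mathlib
import Cfsg.Agent.Helper86.WEDefs
import Cfsg.Agent.Helper86.NQBad
import Cfsg.Agent.Helper87.FusionSeries
import Cfsg.Agent.Helper87.FusionFrobenius
import Cfsg.Agent.Helper23.Sup

/-!
# Piece (A1) of helper86's plan for S5271, by helper62

A map `φ` of the system from `R` onto `R` (with `|R| ≥ p ^ k`) leaves invariant a normal subgroup
of `R` of order exactly `p ^ k`, provided all subgroups of order `p ^ k` are weakly embedded.
-/

set_option autoImplicit false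

namespace Cfsg.Agent.Helper62.WE

open Cfsg Cfsg.FusionSystem Cfsg.Agent.Helper86.WE

variable {Ω : Type*} [Group Ω] {S : Subgroup Ω}

/-- the lattice `𝒳` of `R`-normal `φ`-invariant subgroups of `R` -/
def InvSub (R : Subgroup Ω) (φ : R →* Ω) (X : Subgroup Ω) : Prop :=
  X ≤ R ∧ R ≤ Subgroup.normalizer (X : Set Ω) ∧ ∀ x : R, (x : Ω) ∈ X → φ x ∈ X

theorem invSub_bot (R : Subgroup Ω) (φ : R →* Ω) : InvSub R φ ⊥ := by
  refine ⟨bot_le, ?_, ?_⟩
  · intro r _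
    rw [Subgroup.mem_normalizer_iff]
    intro h
    rw [Subgroup.mem_bot, Subgroup.mem_bot]
    constructor
    · intro h1; rw [h1]; group
    · intro h1
      have h2 : h = r⁻¹ * (r * h * r⁻¹) * r := by group
      rw [h2, h1]; group
  · intro x hx
    rw [Subgroup.mem_bot] at hx ⊢
    have : x = 1 := Subtype.ext hx
    rw [this, map_one]

theorem invSub_self (R : Subgroup Ω) (φ : R →* Ω) (hφR : φ.range = R) : InvSub R φ R := by
  refine ⟨le_rfl, Subgroup.le_normalizer, ?_⟩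
  intro x _
  have h : φ x ∈ φ.range := ⟨x, rfl⟩
  rwa [hφR] at h

theorem invSub_iff_map {R : Subgroup Ω} {φ : R →* Ω} {X : Subgroup Ω} :
    (∀ x : R, (x : Ω) ∈ X → φ x ∈ X) ↔ (X.subgroupOf R).map φ ≤ X := by
  constructor
  · rintro h _ ⟨x, hx, rfl⟩
    exact h x (Subgroup.mem_subgroupOf.1 hx)
  · intro h x hx
    exact h ⟨x, Subgroup.mem_subgroupOf.2 hx, rfl⟩

theorem le_normalizer_of_conj {R Z : Subgroup Ω} (h : ∀ r ∈ R, ∀ z ∈ Z, r * z * r⁻¹ ∈ Z) :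
    R ≤ Subgroup.normalizer (Z : Set Ω) := by
  intro r hr
  rw [Subgroup.mem_normalizer_iff]
  intro z
  constructor
  · exact h r hr z
  · intro hz
    have h1 := h r⁻¹ (R.inv_mem hr) _ hz
    have h2 : r⁻¹ * (r * z * r⁻¹) * r⁻¹⁻¹ = z := by group
    rwa [h2] at h1

theorem conj_mem_of_le_normalizer {R Z : Subgroup Ω} (h : R ≤ Subgroup.normalizer (Z : Set Ω))
    {r z : Ω} (hr : r ∈ R) (hz : z ∈ Z) : r * z * r⁻¹ ∈ Z :=
  (Subgroup.mem_normalizer_iff.1 (h hr) z).1 hz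

theorem invSub_sup {R : Subgroup Ω} {φ : R →* Ω} {X Y : Subgroup Ω} (hX : InvSub R φ X)
    (hY : InvSub R φ Y) : InvSub R φ (X ⊔ Y) := by
  refine ⟨sup_le hX.1 hY.1, ?_, ?_⟩
  · apply le_normalizer_of_conj
    intro r hr z hz
    have hXm : X.map (MulAut.conj r).toMonoidHom ≤ X := by
      rintro _ ⟨x, hx, rfl⟩
      exact conj_mem_of_le_normalizer hX.2.1 hr hx
    have hYm : Y.map (MulAut.conj r).toMonoidHom ≤ Y := by
      rintro _ ⟨x, hx, rfl⟩
      exact conj_mem_of_le_normalizer hY.2.1 hr hx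
    have h1 : (X ⊔ Y).map (MulAut.conj r).toMonoidHom ≤ X ⊔ Y := by
      rw [Subgroup.map_sup]
      exact sup_le_sup hXm hYm
    exact h1 ⟨z, hz, rfl⟩
  · rw [invSub_iff_map, Subgroup.subgroupOf_sup hX.1 hY.1, Subgroup.map_sup]
    exact sup_le_sup (invSub_iff_map.1 hX.2.2) (invSub_iff_map.1 hY.2.2)

theorem invSub_inf {R : Subgroup Ω} {φ : R →* Ω} {X Y : Subgroup Ω} (hX : InvSub R φ X)
    (hY : InvSub R φ Y) : InvSub R φ (X ⊓ Y) := by
  refine ⟨inf_le_left.trans hX.1, ?_, ?_⟩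
  · apply le_normalizer_of_conj
    intro r hr z hz
    exact ⟨conj_mem_of_le_normalizer hX.2.1 hr hz.1, conj_mem_of_le_normalizer hY.2.1 hr hz.2⟩
  · intro x hx
    exact ⟨hX.2.2 x hx.1, hY.2.2 x hx.2⟩

theorem invSub_of_stronglyClosed (F : FusionSystem S) {R : Subgroup Ω} (hRS : R ≤ S) {φ : R →* Ω}
    (hφ : φ ∈ F.Hom R) (hφR : φ.range = R) {W : Subgroup Ω} (hW : F.StronglyClosed W) :
    InvSub R φ (W ⊓ R) := by
  refine ⟨inf_le_right, ?_, ?_⟩
  · apply le_normalizer_of_conj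
    intro r hr z hz
    refine ⟨?_, R.mul_mem (R.mul_mem hr hz.2) (R.inv_mem hr)⟩
    exact conj_mem_of_le_normalizer (Cfsg.Agent.Helper87.le_normalizer_of_stronglyClosed F hW)
      (hRS hr) hz.1
  · intro x hx
    refine ⟨Cfsg.Agent.Helper86.NQ.map_mem_closed hW hφ x hx.1, ?_⟩
    have h : φ x ∈ φ.range := ⟨x, rfl⟩
    rwa [hφR] at h

/-- in a finite `p`-group there is a subgroup of every intermediate order between `X ≤ Y` -/
theorem exists_between_card [Finite S] {p : ℕ} [Fact p.Prime] (hS : IsPGroup p S) {X Y : Subgroup Ω}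
    (hXY : X ≤ Y) (hYS : Y ≤ S) (k : ℕ) (hXk : Nat.card X ≤ p ^ k) (hkY : p ^ k ≤ Nat.card Y) :
    ∃ Q : Subgroup Ω, X ≤ Q ∧ Q ≤ Y ∧ Nat.card Q = p ^ k := by
  have hp : p.Prime := Fact.out
  haveI : Finite Y := Cfsg.Agent.Helper87.finite_of_le hYS
  have hYp : IsPGroup p Y := hS.to_le hYS
  have hXp : IsPGroup p X := hS.to_le (hXY.trans hYS)
  haveI : Finite X := Cfsg.Agent.Helper87.finite_of_le (hXY.trans hYS)
  obtain ⟨b, hb⟩ := (IsPGroup.iff_card).1 hYp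
  obtain ⟨a, ha⟩ := (IsPGroup.iff_card).1 hXp
  have hak : a ≤ k := by
    rw [ha] at hXk
    exact (Nat.pow_le_pow_iff_right hp.one_lt).1 hXk
  have hkb : k ≤ b := by
    rw [hb] at hkY
    exact (Nat.pow_le_pow_iff_right hp.one_lt).1 hkY
  have hdvd : p ^ k ∣ Nat.card Y := by
    rw [hb]; exact pow_dvd_pow p hkb
  have hX' : Nat.card (X.subgroupOf Y) = p ^ a := by
    rw [Nat.card_congr (Subgroup.subgroupOfEquivOfLe hXY).toEquiv, ha]
  obtain ⟨K, hK, hXK⟩ := Sylow.exists_subgroup_card_pow_prime_le p hdvd (X.subgroupOf Y) hX' hak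
  refine ⟨K.map Y.subtype, ?_, ?_, ?_⟩
  · intro x hx
    exact ⟨⟨x, hXY hx⟩, hXK (Subgroup.mem_subgroupOf.2 hx), rfl⟩
  · rintro _ ⟨y, _, rfl⟩
    exact y.2
  · rw [Subgroup.card_map_of_injective Y.subtype_injective, hK]

/-- **(A1)** of #5473. -/
theorem exists_invariant_card [Finite S] {p : ℕ} [Fact p.Prime] (hS : IsPGroup p S)
    (F : FusionSystem S) (k : ℕ) (hWE : WEmb p F k) {R : Subgroup Ω} (hRS : R ≤ S)
    (hk : p ^ k ≤ Nat.card R) (φ : R →* Ω) (hφ : φ ∈ F.Hom R) (hφR : φ.range = R) :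
    ∃ X : Subgroup Ω, X ≤ R ∧ R ≤ Subgroup.normalizer (X : Set Ω) ∧
      (∀ x : R, (x : Ω) ∈ X → φ x ∈ X) ∧ Nat.card X = p ^ k := by
  classical
  have hp : p.Prime := Fact.out
  haveI : Finite R := Cfsg.Agent.Helper87.finite_of_le hRS
  have hfin : ∀ {Z : Subgroup Ω}, Z ≤ R → Finite Z :=
    fun h => Cfsg.Agent.Helper87.finite_of_le (h.trans hRS)
  -- a maximal invariant `X` of order at most `p ^ k`
  let P : ℕ → Prop := fun n => ∃ X, InvSub R φ X ∧ Nat.card X = n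
  have hP1 : P 1 := ⟨⊥, invSub_bot R φ, Subgroup.card_bot⟩
  have h1le : 1 ≤ p ^ k := Nat.one_le_pow _ _ hp.pos
  obtain ⟨X, hX, hXcard⟩ : P (Nat.findGreatest P (p ^ k)) := Nat.findGreatest_spec h1le hP1
  have hXle : Nat.card X ≤ p ^ k := by rw [hXcard]; exact Nat.findGreatest_le _
  have hXmax : ∀ Z, InvSub R φ Z → Nat.card Z ≤ p ^ k → Nat.card Z ≤ Nat.card X := by
    intro Z hZ hZk
    rw [hXcard]
    exact Nat.le_findGreatest hZk ⟨Z, hZ, rfl⟩
  by_cases hXk : Nat.card X = p ^ k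
  · exact ⟨X, hX.1, hX.2.1, hX.2.2, hXk⟩
  exfalso
  have hXlt : Nat.card X < p ^ k := lt_of_le_of_ne hXle hXk
  -- a minimal invariant `Y` above `X`
  let P2 : ℕ → Prop := fun n => ∃ Y, InvSub R φ Y ∧ X < Y ∧ Nat.card Y = n
  have hXR : X < R := by
    refine lt_of_le_of_ne hX.1 ?_
    intro e
    rw [e] at hXlt
    exact absurd hk (not_le.2 hXlt)
  have hP2 : ∃ n, P2 n := ⟨_, R, invSub_self R φ hφR, hXR, rfl⟩
  obtain ⟨Y, hY, hXY, hYcard⟩ : P2 (Nat.find hP2) := Nat.find_spec hP2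
  have hYmin : ∀ Z, InvSub R φ Z → X < Z → Nat.card Y ≤ Nat.card Z := by
    intro Z hZ hXZ
    rw [hYcard]
    exact Nat.find_min' hP2 ⟨Z, hZ, hXZ, rfl⟩
  haveI : Finite Y := hfin hY.1
  haveI : Finite X := hfin hX.1
  have hYgt : p ^ k < Nat.card Y := by
    by_contra hcon
    push Not at hcon
    have h1 := hXmax Y hY hcon
    have h2 := Cfsg.Agent.Helper87.card_lt_card_of_lt hXY
    omega
  -- no invariant subgroup strictly between
  have hbetween : ∀ Z, InvSub R φ Z → X ≤ Z → Z ≤ Y → Z = X ∨ Z = Y := by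
    intro Z hZ hXZ hZY
    by_cases e : Z = X
    · exact Or.inl e
    · right
      have hXZ' : X < Z := lt_of_le_of_ne hXZ (Ne.symm e)
      have h1 := hYmin Z hZ hXZ'
      exact Subgroup.eq_of_le_of_card_ge hZY h1
  obtain ⟨Q, hXQ, hQY, hQcard⟩ :=
    exists_between_card hS hXY.le (hY.1.trans hRS) k hXle hYgt.le
  have hQS : Q ≤ S := hQY.trans (hY.1.trans hRS)
  have hQR : Q ≤ R := hQY.trans hY.1
  haveI : Finite Q := hfin hQR
  have hQneY : Q ≠ Y := by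
    intro e; rw [e] at hQcard; omega
  have hQnleX : ¬ Q ≤ X := by
    intro h
    have := Subgroup.card_le_of_le h
    omega
  have hYnleQ : ¬ Y ≤ Q := fun h => hQneY (le_antisymm hQY h)
  obtain ⟨P0, hP0, hQP, hQiP⟩ := hWE Q hQS hQcard
  -- `Z1 = (Q ⊓ P0) ⊔ X`
  have hQiPR : (Q ⊓ P0) ⊓ R = Q ⊓ P0 := inf_eq_left.2 (inf_le_left.trans hQR)
  have hZ1 : InvSub R φ ((Q ⊓ P0) ⊔ X) := by
    have := invSub_sup (invSub_of_stronglyClosed F hRS hφ hφR hQiP) hX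
    rwa [hQiPR] at this
  have hQiPX : Q ⊓ P0 ≤ X := by
    rcases hbetween _ hZ1 le_sup_right (sup_le (inf_le_left.trans hQY) hXY.le) with e | e
    · rw [← e]; exact le_sup_left
    · exfalso
      apply hYnleQ
      rw [← e]
      exact sup_le inf_le_left hXQ
  -- `Z2 = (Q ⊔ P0) ⊓ Y`
  have hZ2 : InvSub R φ (((Q ⊔ P0) ⊓ R) ⊓ Y) :=
    invSub_inf (invSub_of_stronglyClosed F hRS hφ hφR hQP) hY
  have hYQP : Y ≤ Q ⊔ P0 := by
    rcases hbetween _ hZ2 (le_inf (le_inf (hXQ.trans le_sup_left) hX.1) hXY.le) inf_le_right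
      with e | e
    · exfalso
      apply hQnleX
      rw [← e]
      exact le_inf (le_inf le_sup_left hQR) hQY
    · rw [← e]; exact inf_le_left.trans inf_le_left
  have hQnP : Q ≤ Subgroup.normalizer (P0 : Set Ω) :=
    hQS.trans (Cfsg.Agent.Helper87.le_normalizer_of_stronglyClosed F hP0)
  -- `Z3 = (P0 ⊓ Y) ⊔ X`
  have hPR : (P0 ⊓ R) ⊓ Y = P0 ⊓ Y := by
    rw [inf_assoc, inf_eq_right.2 hY.1]
  have hZ3a : InvSub R φ (P0 ⊓ Y) := by
    have := invSub_inf (invSub_of_stronglyClosed F hRS hφ hφR hP0) hY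
    rwa [hPR] at this
  have hZ3 : InvSub R φ ((P0 ⊓ Y) ⊔ X) := invSub_sup hZ3a hX
  rcases hbetween _ hZ3 le_sup_right (sup_le inf_le_right hXY.le) with e | e
  · -- `P0 ⊓ Y ≤ X`
    have hPYX : P0 ⊓ Y ≤ X := by rw [← e]; exact le_sup_left
    apply hYnleQ
    intro y hy
    have h1 : y ∈ P0 ⊔ Q := by rw [sup_comm]; exact hYQP hy
    obtain ⟨x, hx, q, hq, rfl⟩ := (Cfsg.Agent.Helper23.mem_sup_iff_of_le_normalizer hQnP).1 h1
    have hxY : x ∈ Y := by
      have := Y.mul_mem hy (Y.inv_mem (hQY hq))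
      rwa [mul_inv_cancel_right] at this
    exact Q.mul_mem (hXQ (hPYX ⟨hx, hxY⟩)) hq
  · -- `Y = (P0 ⊓ Y) ⊔ X`
    apply hQnleX
    intro q hq
    have h1 : q ∈ (P0 ⊓ Y) ⊔ X := by rw [e]; exact hQY hq
    have hXn : X ≤ Subgroup.normalizer ((P0 ⊓ Y : Subgroup Ω) : Set Ω) := hX.1.trans hZ3a.2.1
    obtain ⟨a, ha, x, hx, rfl⟩ := (Cfsg.Agent.Helper23.mem_sup_iff_of_le_normalizer hXn).1 h1
    have haQ : a ∈ Q := by
      have := Q.mul_mem hq (Q.inv_mem (hXQ hx))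
      rwa [mul_inv_cancel_right] at this
    exact X.mul_mem (hQiPX ⟨haQ, ha.1⟩) hx

end Cfsg.Agent.Helper62.WE
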