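import Mathlib
import Cfsg.Agent.Helper86.WEDefs
import Cfsg.Agent.Helper86.ZSystem
import Cfsg.Agent.Helper87.FusionRS
import Cfsg.Agent.Helper87.FusionRadical
import Cfsg.Agent.Helper87.FusionFrobenius
import Cfsg.Agent.Helper87.ExtraIndex
import Cfsg.Agent.Helper88.CtrlBase
import Cfsg.Agent.Helper88.FusionStrongInv
import Cfsg.Agent.Lib.Cores

/-!
# Piece (E) of helper86's plan for S5271, by helper62

A saturated system over `S` with a strongly closed subgroup `T` of order `p` containing the
hyperfocal subgroup and with `Aut_F(S)` a `p`-group is the inner system of `S`.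
-/

set_option autoImplicit false

namespace Cfsg.Agent.Helper62.WE

open Cfsg Cfsg.FusionSystem Cfsg.Agent.Helper86.WE Cfsg.Agent.Helper87

variable {Ω : Type*} [Group Ω] {S : Subgroup Ω}

/-- a subgroup of prime order meets any subgroup trivially or is contained in it -/
theorem inf_eq_bot_of_card_prime {p : ℕ} [Fact p.Prime] {T R : Subgroup Ω} (hTc : Nat.card T = p)
    (h : ¬ T ≤ R) : T ⊓ R = ⊥ := by
  rw [eq_bot_iff]
  intro x hx
  rw [Subgroup.mem_bot]
  by_contra hx1
  apply h
  intro t ht
  have hne : (⟨x, hx.1⟩ : T) ≠ 1 := fun e => hx1 (congrArg Subtype.val e)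
  have h1 : (⟨t, ht⟩ : T) ∈ Subgroup.zpowers (⟨x, hx.1⟩ : T) := mem_zpowers_of_prime_card hTc hne
  obtain ⟨k, hk⟩ := Subgroup.mem_zpowers_iff.1 h1
  have h2 : x ^ k = t := by
    have := congrArg Subtype.val hk
    simpa using this
  rw [← h2]
  exact R.zpow_mem hx.2 k

/-- `Aut_F(T)` is trivial for a strongly closed `T` of order `p` when `Aut_F(S)` is a `p`-group. -/
theorem autGroup_eq_bot_of_card_prime [Finite S] {p : ℕ} [Fact p.Prime] (hS : IsPGroup p S)
    (F : FusionSystem S) (hF : F.IsSaturated p) {T : Subgroup Ω} (hT : F.StronglyClosed T)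
    (hTc : Nat.card T = p) (hAS : IsPGroup p (F.autGroup S)) : F.autGroup T = ⊥ := by
  have hp : p.Prime := Fact.out
  have hTn : S ≤ Subgroup.normalizer (T : Set Ω) := le_normalizer_of_stronglyClosed F hT
  have hTZ : ∀ z ∈ T, ∀ s ∈ S, s * z = z * s :=
    central_of_normal_card_prime hS hT.1 (fun s hs z hz => conj_mem_of_stronglyClosed F hT hs hz) hTc
  have hTfn := Cfsg.Agent.Helper88.Ctrl.isFullyNormalized_of_le_normalizer F hT.1 hTn
  obtain ⟨hTcz, -⟩ := fullyAutomized_fullyCentralized_of_fullyNormalized hS F hF hTfn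
  have hTr := receptive_of_fullyCentralized hS F hF hTcz
  have hsurj : Function.Surjective (resAut F hT hT.1 le_rfl) := by
    intro τ
    have hτiso := (mem_autGroup_iff F hT.1 τ.1).mp τ.2
    obtain ⟨ψ, hψ, hψx⟩ := Cfsg.Agent.Helper86.exists_extension_of_normalizes F hTr τ.1 hτiso (by
      intro g hg
      refine ⟨1, S.one_mem, fun x hx => ?_⟩
      have e : (⟨g * (x : Ω) * g⁻¹, hx⟩ : T) = x :=
        Subtype.ext (show g * (x : Ω) * g⁻¹ = (x : Ω) by
          rw [hTZ x x.2 g hg.1, mul_inv_cancel_right])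
      rw [e, one_mul, inv_one, mul_one])
    have hNS : normalizerIn S T = S := by
      show S ⊓ Subgroup.normalizer (T : Set Ω) = S
      exact inf_eq_left.2 hTn
    obtain ⟨ψ', hψ', hψ'x⟩ := Cfsg.Agent.Helper88.FS.exists_hom_of_eq F hNS hψ
    have hrange : ψ'.range = S := by
      apply Subgroup.eq_of_le_of_card_ge
      · rintro _ ⟨x, rfl⟩
        exact (F.le_of_mem hψ').2 x
      · exact le_of_eq (Nat.card_congr (MonoidHom.ofInjective (F.injective_of_mem hψ')).toEquiv)
    have hβ : (isoOfRange F hψ' hrange : MulAut S) ∈ F.autGroup S :=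
      (mem_autGroup_iff F le_rfl _).mpr (isIso_isoOfRange F hψ' hrange)
    refine ⟨⟨isoOfRange F hψ' hrange, hβ⟩, ?_⟩
    apply Subtype.ext
    ext x
    rw [resAut_apply]
    show ((isoOfRange F hψ' hrange ⟨(x : Ω), hT.1 x.2⟩ : S) : Ω) = _
    rw [isoOfRange_apply]
    have hxN : (x : Ω) ∈ normalizerIn S T := by rw [hNS]; exact hT.1 x.2
    rw [hψ'x (x : Ω) hxN (hT.1 x.2), hψx (x : Ω) x.2 hxN]
  have hTp : IsPGroup p (F.autGroup T) := IsPGroup.of_surjective hAS _ hsurj
  haveI : Finite T := finite_of_le hT.1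
  haveI : Finite (MulAut T) := finite_mulAut_of_le hT.1
  haveI : IsCyclic T := isCyclic_of_prime_card hTc
  obtain ⟨n, hn⟩ := (IsPGroup.iff_card).1 hTp
  have hdvd : Nat.card (F.autGroup T) ∣ p - 1 := by
    have h1 := Subgroup.card_subgroup_dvd_card (F.autGroup T)
    rwa [IsCyclic.card_mulAut, hTc, Nat.totient_prime hp] at h1
  have hn0 : n = 0 := by
    by_contra hn0
    rw [hn] at hdvd
    have h1 : p ∣ p - 1 := (dvd_pow_self p hn0).trans hdvd
    have h2 := Nat.le_of_dvd (by have := hp.two_le; omega) h1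
    have := hp.two_le
    omega
  rw [hn0, pow_zero] at hn
  exact Subgroup.card_eq_one.1 hn

/-- an automorphism of `R` moving every `x` by an `α`-fixed element of order dividing `p` has
order dividing `p` -/
theorem pow_eq_one_of_fixed_shift {R : Type*} [Group R] (α : MulAut R) (p : ℕ)
    (hfix : ∀ x : R, α (x⁻¹ * α x) = x⁻¹ * α x) (hpow : ∀ x : R, (x⁻¹ * α x) ^ p = 1) :
    α ^ p = 1 := by
  have key : ∀ (n : ℕ) (x : R), (α ^ n) x = x * (x⁻¹ * α x) ^ n := by
    intro n
    induction n with
    | zero => intro x; simp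
    | succ n ih =>
      intro x
      rw [pow_succ' α n, MulAut.mul_apply, ih x, map_mul, map_pow, hfix x,
        pow_succ' (x⁻¹ * α x) n, ← mul_assoc, ← mul_assoc, mul_inv_cancel, one_mul]
  ext x
  rw [key p x, hpow x, mul_one, MulAut.one_apply]

/-- **(E)** of #5473. -/
theorem inner_of_card_eq_prime [Finite S] {p : ℕ} [Fact p.Prime] (hS : IsPGroup p S)
    (F : FusionSystem S) (hF : F.IsSaturated p) {T : Subgroup Ω} (hT : F.StronglyClosed T)
    (hTc : Nat.card T = p) (hhyp : F.hyperfocalSubgroup p ≤ T)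
    (hAS : IsPGroup p (F.autGroup S)) :
    ∀ P : Subgroup Ω, F.Hom P = (innerFusionSystem S).Hom P := by
  have hAT : F.autGroup T = ⊥ := autGroup_eq_bot_of_card_prime hS F hF hT hTc hAS
  haveI : Finite T := finite_of_le hT.1
  have hTpow : ∀ y ∈ T, y ^ p = 1 := by
    intro y hy
    have h1 : (⟨y, hy⟩ : T) ^ Nat.card T = 1 := pow_card_eq_one'
    rw [hTc] at h1
    have := congrArg Subtype.val h1
    simpa using this
  have hp : ∀ R : Subgroup Ω, R ≤ S → IsPGroup p (F.autGroup R) := by
    intro R hRS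
    haveI : Finite (MulAut R) := finite_mulAut_of_le hRS
    -- elements of `Aut_F(R)` fix `T ⊓ R` pointwise
    have hfixT : ∀ (α : F.autGroup R) (x : R), (x : Ω) ∈ T → (α : MulAut R) x = x := by
      intro α x hxT
      by_cases hTR : T ≤ R
      · have h1 : resAut F hT hTR hRS α = 1 := by
          apply Subtype.ext
          exact Subgroup.mem_bot.1 (hAT.le (resAut F hT hTR hRS α).2)
        have h2 := resAut_apply F hT hTR hRS α ⟨x, hxT⟩
        rw [h1] at h2
        apply Subtype.ext
        exact h2.symm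
      · have h1 : (x : Ω) ∈ T ⊓ R := ⟨hxT, x.2⟩
        rw [inf_eq_bot_of_card_prime hTc hTR, Subgroup.mem_bot] at h1
        have h2 : x = 1 := Subtype.ext h1
        rw [h2, map_one]
    -- elements of the residual have order dividing `p`
    have hres : ∀ α ∈ pResidual p (F.autGroup R), α ^ p = 1 := by
      intro α hα
      have hx : ∀ x : R, (((x⁻¹ * (α : MulAut R) x : R)) : Ω) ∈ T := by
        intro x
        apply hhyp
        exact Subgroup.subset_closure ⟨R, α, x, hRS, hα, rfl⟩
      have h1 : (α : MulAut R) ^ p = 1 := by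
        apply pow_eq_one_of_fixed_shift
        · intro x
          exact hfixT α _ (hx x)
        · intro x
          apply Subtype.ext
          rw [SubgroupClass.coe_pow]
          exact hTpow _ (hx x)
      apply Subtype.ext
      rw [SubgroupClass.coe_pow]
      exact h1
    intro α
    obtain ⟨k, hk⟩ := Cfsg.Agent.Lib.isPGroup_quotient_pResidual (G := F.autGroup R) p
      (QuotientGroup.mk α)
    refine ⟨k + 1, ?_⟩
    rw [← QuotientGroup.mk_pow, QuotientGroup.eq_one_iff] at hk
    rw [pow_succ, pow_mul]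
    exact hres _ hk
  have hfrob := frobenius_inner p hS F hF hp
  intro P
  apply Set.Subset.antisymm
  · intro φ hφ
    obtain ⟨g, hg, hgx⟩ := hfrob P φ hφ
    exact ⟨(F.le_of_mem hφ).1, g, hg, hgx⟩
  · exact inner_hom_subset F P

end Cfsg.Agent.Helper62.WE
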